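import Mathlib.AlgebraicGeometry.Morphisms.QuasiCompact
import Mathlib.AlgebraicGeometry.Properties
import Mathlib.RingTheory.Ideal.MinimalPrime.Localization

set_option autoImplicit false
universe u v
open AlgebraicGeometry CategoryTheory Topology

namespace Groth.Agent.SchBasics

variable {α : Type u} [TopologicalSpace α] [QuasiSober α]

lemma closure_singleton_mem_irreducibleComponents_iff [T0Space α] (y : α) :
    closure ({y} : Set α) ∈ irreducibleComponents α ↔ ∀ z : α, z ⤳ y → z = y := by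
  constructor
  · intro h z hz
    have := h.2 isIrreducible_singleton.closure (specializes_iff_closure_subset.mp hz)
    exact (specializes_iff_closure_subset.mpr this).antisymm hz |>.eq.symm
  · intro h
    refine ⟨isIrreducible_singleton.closure, fun s hs hsub => ?_⟩
    have hg := hs.isGenericPoint_genericPoint_closure
    have hspec : hs.genericPoint ⤳ y :=
      hg.specializes (subset_closure (hsub (subset_closure rfl)))
    rw [← h _ hspec, hg.def]
    exact subset_closure

lemma exists_maximal_specializes (x : α) :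
    ∃ z : α, closure ({z} : Set α) ∈ irreducibleComponents α ∧ z ⤳ x := by
  obtain ⟨Z, hZ, hxZ⟩ := exists_mem_irreducibleComponents_subset_of_isIrreducible _
    (isIrreducible_singleton (x := x))
  refine ⟨hZ.1.genericPoint, ?_, ?_⟩
  · have := hZ.1.isGenericPoint_genericPoint_closure.def
    rw [this, (isClosed_of_mem_irreducibleComponents Z hZ).closure_eq]
    exact hZ
  · exact hZ.1.isGenericPoint_genericPoint_closure.specializes (subset_closure (hxZ rfl))

variable {X Y : Scheme.{u}}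

lemma exists_specializes_of_mem_closure_range_spec {R S : CommRingCat.{u}} (φ : R ⟶ S)
    (y : Spec R) (hy : y ∈ closure (Set.range (Spec.map φ))) :
    ∃ x : Spec S, (Spec.map φ) x ⤳ y := by
  let y' : PrimeSpectrum R := y
  have h' : y' ∈ closure (Set.range (PrimeSpectrum.comap φ.hom)) := hy
  rw [PrimeSpectrum.closure_range_comap] at h'
  have := y'.isPrime
  obtain ⟨q, hq, hqy⟩ := Ideal.exists_minimalPrimes_le (show RingHom.ker φ.hom ≤ y'.asIdeal from h')
  obtain ⟨q', hq'p, -, hq'q⟩ := Ideal.exists_comap_eq_of_mem_minimalPrimes (I := ⊥) φ.hom q hq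
  let x' : PrimeSpectrum S := ⟨q', hq'p⟩
  exact ⟨x', (PrimeSpectrum.le_iff_specializes (PrimeSpectrum.comap φ.hom x') y').mp
    (hq'q.le.trans hqy)⟩

lemma exists_specializes_of_mem_closure_range_affine [IsAffine X] [IsAffine Y] (f : X ⟶ Y)
    {y : Y} (hy : y ∈ closure (Set.range f)) : ∃ x : X, f x ⤳ y := by
  obtain ⟨φ, hφ⟩ := Spec.map_surjective (X.isoSpec.inv ≫ f ≫ Y.isoSpec.hom)
  have hy' : Y.isoSpec.hom y ∈ closure (Set.range (Spec.map φ)) := by
    refine closure_mono ?_ (image_closure_subset_closure_image Y.isoSpec.hom.continuous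
      ⟨y, hy, rfl⟩)
    rintro _ ⟨_, ⟨x, rfl⟩, rfl⟩
    refine ⟨X.isoSpec.hom x, ?_⟩
    rw [hφ]
    exact congr($(X.isoSpec.hom_inv_id_assoc (f ≫ Y.isoSpec.hom)) x)
  obtain ⟨x, hx⟩ := exists_specializes_of_mem_closure_range_spec φ _ hy'
  refine ⟨X.isoSpec.inv x, ?_⟩
  have := hx.map Y.isoSpec.inv.continuous
  rw [hφ] at this
  simp only [Scheme.Hom.comp_apply] at this
  rw [← Scheme.Hom.comp_apply Y.isoSpec.hom Y.isoSpec.inv, ← Scheme.Hom.comp_apply Y.isoSpec.hom Y.isoSpec.inv,
    Iso.hom_inv_id] at this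
  exact this

/-- For a quasi-compact morphism, a point in the closure of the image is a specialization of a
point of the image. -/
lemma exists_specializes_of_mem_closure_range (f : X ⟶ Y) [QuasiCompact f]
    {y : Y} (hy : y ∈ closure (Set.range f)) : ∃ x : X, f x ⤳ y := by
  obtain ⟨V, hV, hyV, -⟩ : ∃ V : Y.Opens, IsAffineOpen V ∧ y ∈ V ∧ (V : Set Y) ⊆ Set.univ :=
    exists_isAffineOpen_mem_and_subset (U := ⊤) (TopologicalSpace.Opens.mem_top y)
  obtain ⟨s, hs, hU⟩ := (isCompact_iff_finite_and_eq_biUnion_affineOpens (U := f ⁻¹ᵁ V)).mp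
    (f.isCompact_preimage hV.isCompact)
  have hrange : (V : Set Y) ∩ Set.range f ⊆ ⋃ U ∈ s, f '' (U.1 : Set X) := by
    rintro _ ⟨hz, x, rfl⟩
    have hx : x ∈ f ⁻¹ᵁ V := hz
    rw [hU] at hx
    simp only [TopologicalSpace.Opens.mem_iSup] at hx
    obtain ⟨U, hUs, hxU⟩ := hx
    exact Set.mem_biUnion hUs ⟨x, hxU, rfl⟩
  have h1 : y ∈ closure (⋃ U ∈ s, f '' (U.1 : Set X)) :=
    closure_mono hrange (V.isOpen.inter_closure ⟨hyV, hy⟩)
  rw [hs.closure_biUnion, Set.mem_iUnion₂] at h1
  obtain ⟨U, hUs, hyU⟩ := h1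
  have e : U.1 ≤ f ⁻¹ᵁ V := by
    rw [hU]; exact le_iSup₂_of_le U hUs le_rfl
  have : IsAffine U.1 := U.2
  have : IsAffine V := hV
  have hy2 : (⟨y, hyV⟩ : V) ∈ closure (Set.range (f.resLE V U.1 e)) := by
    rw [V.ι.isOpenEmbedding.isInducing.closure_eq_preimage_closure_image]
    refine closure_mono ?_ hyU
    rintro _ ⟨x, hx, rfl⟩
    refine ⟨f.resLE V U.1 e ⟨x, hx⟩, ⟨_, rfl⟩, ?_⟩
    exact congr($(f.resLE_comp_ι e) ⟨x, hx⟩)
  obtain ⟨x, hx⟩ := exists_specializes_of_mem_closure_range_affine _ hy2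
  refine ⟨x.1, ?_⟩
  have := hx.map V.ι.continuous
  rw [← Scheme.Hom.comp_apply, f.resLE_comp_ι e] at this
  exact this

lemma mem_range_of_mem_closure_range (f : X ⟶ Y) [QuasiCompact f] {y : Y}
    (hy : y ∈ closure (Set.range f)) (hmax : closure ({y} : Set Y) ∈ irreducibleComponents (Y : Type u)) :
    y ∈ Set.range f := by
  obtain ⟨x, hx⟩ := exists_specializes_of_mem_closure_range f hy
  exact ⟨x, (closure_singleton_mem_irreducibleComponents_iff y).mp hmax _ hx⟩

end Groth.Agent.SchBasics
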