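import Mathlib.Topology.NoetherianSpace
import Mathlib.Topology.Connected.LocallyConnected
import Mathlib.Topology.LocalAtTarget

set_option autoImplicit false
universe u

namespace Groth.Agent.SchBasics

open TopologicalSpace Topology

variable {X : Type u} [TopologicalSpace X]

lemma isOpen_connectedComponent_of_noetherianSpace [NoetherianSpace X] (x : X) :
    IsOpen (connectedComponent x) := by
  have hfin := NoetherianSpace.finite_irreducibleComponents (α := X)
  have : connectedComponent x = (⋃ Z ∈ {Z ∈ irreducibleComponents X | Disjoint Z (connectedComponent x)}, Z)ᶜ := by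
    ext y
    simp only [Set.mem_compl_iff, Set.mem_iUnion, Set.mem_ofPred_eq, exists_prop, not_exists, not_and]
    refine ⟨fun hy Z hZ hyZ => Set.disjoint_left.mp hZ.2 hyZ hy, fun h => ?_⟩
    obtain ⟨Z, hZ, hyZ⟩ := exists_mem_irreducibleComponents_subset_of_isIrreducible _
      (isIrreducible_singleton (x := y))
    by_contra hy
    refine h Z ⟨hZ, Set.disjoint_left.mpr fun z hzZ hzC => hy ?_⟩ (hyZ rfl)
    rw [connectedComponent_eq hzC]
    exact hZ.1.2.isPreconnected.subset_connectedComponent hzZ (hyZ rfl)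
  rw [this, isOpen_compl_iff]
  exact (hfin.subset (fun _ h => h.1)).isClosed_biUnion fun Z hZ =>
    isClosed_of_mem_irreducibleComponents Z hZ.1

lemma exists_open_noetherian_subset (hX : ∀ x : X, ∃ U ∈ nhds x, NoetherianSpace U)
    (x : X) {F : Set X} (hF : IsOpen F) (hx : x ∈ F) :
    ∃ W : Set X, IsOpen W ∧ x ∈ W ∧ W ⊆ F ∧ NoetherianSpace W := by
  obtain ⟨U, hU, hN⟩ := hX x
  obtain ⟨W, hWU, hW, hxW⟩ := mem_nhds_iff.mp hU
  refine ⟨W ∩ F, hW.inter hF, ⟨hxW, hx⟩, Set.inter_subset_right, ?_⟩
  exact (Topology.IsEmbedding.inclusion (Set.inter_subset_left.trans hWU)).isInducing.noetherianSpace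

lemma locallyConnectedSpace_of_locally_noetherian
    (hX : ∀ x : X, ∃ U ∈ nhds x, NoetherianSpace U) : LocallyConnectedSpace X := by
  rw [locallyConnectedSpace_iff_connected_subsets]
  intro x U hU
  obtain ⟨F, hFU, hF, hxF⟩ := mem_nhds_iff.mp hU
  obtain ⟨W, hW, hxW, hWF, hN⟩ := exists_open_noetherian_subset hX x hF hxF
  refine ⟨Subtype.val '' connectedComponent (⟨x, hxW⟩ : W), ?_, ?_, ?_⟩
  · exact (hW.isOpenEmbedding_subtypeVal.isOpenMap _
      (isOpen_connectedComponent_of_noetherianSpace _)).mem_nhds ⟨_, mem_connectedComponent, rfl⟩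
  · exact (isPreconnected_connectedComponent.image _ continuous_subtype_val.continuousOn)
  · exact ((Subtype.coe_image_subset W _).trans hWF).trans hFU

lemma exists_finite_irreducibleComponents_cover
    (hX : ∀ x : X, ∃ U ∈ nhds x, NoetherianSpace U) (x : X) :
    ∃ (W : Set X) (s : Set (Set X)), IsOpen W ∧ x ∈ W ∧ s.Finite ∧ s ⊆ irreducibleComponents X ∧
      W ⊆ ⋃₀ s := by
  obtain ⟨W, hW, hxW, -, hN⟩ := exists_open_noetherian_subset hX x isOpen_univ (Set.mem_univ x)
  choose g hg hgsub using fun C : irreducibleComponents W =>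
    exists_mem_irreducibleComponents_subset_of_isIrreducible _
      (C.2.1.image Subtype.val continuous_subtype_val.continuousOn)
  have := (NoetherianSpace.finite_irreducibleComponents (α := W)).to_subtype
  refine ⟨W, Set.range g, hW, hxW, Set.finite_range g, Set.range_subset_iff.mpr hg, fun y hy => ?_⟩
  obtain ⟨C, hC, hyC⟩ := exists_mem_irreducibleComponents_subset_of_isIrreducible _
    (isIrreducible_singleton (x := (⟨y, hy⟩ : W)))
  exact ⟨g ⟨C, hC⟩, ⟨_, rfl⟩, hgsub ⟨C, hC⟩ ⟨_, hyC rfl, rfl⟩⟩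

lemma isOpen_of_pairwiseDisjoint_irreducibleComponents
    (hX : ∀ x : X, ∃ U ∈ nhds x, NoetherianSpace U)
    (hd : (irreducibleComponents X).PairwiseDisjoint id) {Z : Set X}
    (hZ : Z ∈ irreducibleComponents X) : IsOpen Z := by
  rw [isOpen_iff_mem_nhds]
  intro x hx
  obtain ⟨W, s, hW, hxW, hs, hsI, hWs⟩ := exists_finite_irreducibleComponents_cover hX x
  refine Filter.mem_of_superset ((hW.sdiff ((hs.subset (Set.sdiff_subset (t := {Z}))).isClosed_biUnion
    fun C hC => isClosed_of_mem_irreducibleComponents C (hsI hC.1))).mem_nhds ⟨hxW, ?_⟩) ?_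
  · intro h
    obtain ⟨C, hC, hxC⟩ := Set.mem_iUnion₂.mp h
    exact Set.disjoint_left.mp (hd (hsI hC.1) hZ hC.2) hxC hx
  · rintro y ⟨hy, hy'⟩
    obtain ⟨C, hC, hyC⟩ := hWs hy
    by_contra hyZ
    exact hy' (Set.mem_biUnion ⟨hC, fun h => hyZ ((Set.mem_singleton_iff.mp h) ▸ hyC)⟩ hyC)

lemma irreducibleComponents_open_tfae
    (hX : ∀ x : X, ∃ U ∈ nhds x, NoetherianSpace U) :
    List.TFAE [∀ Z ∈ irreducibleComponents X, IsOpen Z,
      irreducibleComponents X = Set.range (connectedComponent : X → Set X),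
      ∀ x : X, IsIrreducible (connectedComponent x),
      (irreducibleComponents X).PairwiseDisjoint id] := by
  tfae_have 1 → 2 := fun h => by
    have key : ∀ Z ∈ irreducibleComponents X, ∀ x ∈ Z, connectedComponent x = Z := fun Z hZ x hx =>
      (IsClopen.connectedComponent_subset ⟨isClosed_of_mem_irreducibleComponents Z hZ, h Z hZ⟩ hx).antisymm
        (hZ.1.2.isPreconnected.subset_connectedComponent hx)
    ext Z
    refine ⟨fun hZ => ?_, ?_⟩
    · obtain ⟨x, hx⟩ := hZ.1.nonempty
      exact ⟨x, key Z hZ x hx⟩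
    · rintro ⟨x, rfl⟩
      obtain ⟨Z, hZ, hxZ⟩ := exists_mem_irreducibleComponents_subset_of_isIrreducible _
        (isIrreducible_singleton (x := x))
      rw [key Z hZ x (hxZ rfl)]
      exact hZ
  tfae_have 2 → 3 := fun h x => by
    have : connectedComponent x ∈ irreducibleComponents X := h ▸ ⟨x, rfl⟩
    exact this.1
  tfae_have 3 → 4 := fun h Z hZ Z' hZ' hne => by
    rw [Function.onFun, Set.disjoint_left]
    intro x hx hx'
    apply hne
    have key : ∀ T ∈ irreducibleComponents X, x ∈ T → T = connectedComponent x := fun T hT hxT =>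
      (hT.1.2.isPreconnected.subset_connectedComponent hxT).antisymm
        (hT.2 (h x) (hT.1.2.isPreconnected.subset_connectedComponent hxT))
    rw [key Z hZ hx, key Z' hZ' hx']
  tfae_have 4 → 1 := fun h Z hZ => isOpen_of_pairwiseDisjoint_irreducibleComponents hX h hZ
  tfae_finish

end Groth.Agent.SchBasics
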