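import Groth.Agent.SchBasics.Closure
import Groth.Agent.SchBasics.TopNoeth
import Mathlib.AlgebraicGeometry.Noetherian
import Mathlib.AlgebraicGeometry.FunctionField

set_option autoImplicit false
universe u
open AlgebraicGeometry CategoryTheory TopologicalSpace Topology

namespace Groth.Agent.SchBasics

variable {X : Scheme.{u}}

lemma isClosed_irred_closure_of_mem (Z : Set X) (hZ : Z ∈ irreducibleComponents (X : Type u)) :
    closure ({hZ.1.genericPoint} : Set X) = Z := by
  rw [hZ.1.isGenericPoint_genericPoint_closure.def,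
    (isClosed_of_mem_irreducibleComponents Z hZ).closure_eq]

lemma nilradical_stalk_isPrime_iff (x : X) :
    (nilradical (X.presheaf.stalk x)).IsPrime ↔
      ∀ Z ∈ irreducibleComponents (X : Type u), ∀ Z' ∈ irreducibleComponents (X : Type u),
        x ∈ Z → x ∈ Z' → Z = Z' := by
  set f := X.fromSpecStalk x
  have hlift : ∀ Z (hZ : Z ∈ irreducibleComponents (X : Type u)), x ∈ Z →
      ∃ p, f p = hZ.1.genericPoint := fun Z hZ hx => by
    have : hZ.1.genericPoint ∈ Set.range f := by
      rw [Scheme.range_fromSpecStalk]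
      exact hZ.1.isGenericPoint_genericPoint_closure.specializes (subset_closure hx)
    exact this
  constructor
  · intro h Z hZ Z' hZ' hx hx'
    let η : Spec (X.presheaf.stalk x) := (⟨_, h⟩ : PrimeSpectrum (X.presheaf.stalk x))
    have key : ∀ T (hT : T ∈ irreducibleComponents (X : Type u)), x ∈ T →
        f η = hT.1.genericPoint := fun T hT hxT => by
      obtain ⟨p, hp⟩ := hlift T hT hxT
      let p' : PrimeSpectrum (X.presheaf.stalk x) := p
      have hs : η ⤳ p := (PrimeSpectrum.le_iff_specializes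
        (⟨_, h⟩ : PrimeSpectrum (X.presheaf.stalk x)) p').mp (nilradical_le_prime p'.asIdeal)
      have hm := (closure_singleton_mem_irreducibleComponents_iff hT.1.genericPoint).mp
        (by rw [isClosed_irred_closure_of_mem T hT]; exact hT)
      exact hm _ (hp ▸ hs.map f.continuous)
    rw [← isClosed_irred_closure_of_mem Z hZ, ← isClosed_irred_closure_of_mem Z' hZ',
      ← key Z hZ hx, ← key Z' hZ' hx']
  · intro h
    obtain ⟨z, hz, hzx⟩ := exists_maximal_specializes x
    obtain ⟨p, hp⟩ : z ∈ Set.range f := by rw [Scheme.range_fromSpecStalk]; exact hzx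
    let p' : PrimeSpectrum (X.presheaf.stalk x) := p
    have hall : ∀ q : PrimeSpectrum (X.presheaf.stalk x), p'.asIdeal ≤ q.asIdeal := fun q => by
      let q' : Spec (X.presheaf.stalk x) := q
      obtain ⟨w, hw, hwy⟩ := exists_maximal_specializes (f q')
      have hwx : w ⤳ x := hwy.trans (by
        have : f q' ∈ Set.range f := ⟨q', rfl⟩
        rwa [Scheme.range_fromSpecStalk] at this)
      have heq := h _ hz _ hw (hzx.mem_closed isClosed_closure (subset_closure rfl))
        (hwx.mem_closed isClosed_closure (subset_closure rfl))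
      have hzw : z = w := (inseparable_iff_closure_eq.mpr heq).eq
      have : f p ⤳ f q' := hp ▸ hzw ▸ hwy
      exact (PrimeSpectrum.le_iff_specializes p' q).mpr (f.isEmbedding.isInducing.specializes_iff.mp this)
    have : nilradical (X.presheaf.stalk x) = p'.asIdeal := by
      refine le_antisymm (nilradical_le_prime _) ?_
      rw [nilradical_eq_sInf]
      exact le_sInf fun q hq => hall ⟨q, hq⟩
    rw [this]
    exact p'.isPrime

lemma pairwiseDisjoint_iff_nilradical_stalk_isPrime (X : Scheme.{u}) :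
    (irreducibleComponents (X : Type u)).PairwiseDisjoint id ↔
      ∀ x : X, (nilradical (X.presheaf.stalk x)).IsPrime := by
  constructor
  · intro h x
    rw [nilradical_stalk_isPrime_iff]
    intro Z hZ Z' hZ' hx hx'
    by_contra hne
    exact Set.disjoint_left.mp (h hZ hZ' hne) hx hx'
  · intro h Z hZ Z' hZ' hne
    rw [Function.onFun, Set.disjoint_left]
    exact fun x hx hx' => hne ((nilradical_stalk_isPrime_iff x).mp (h x) Z hZ Z' hZ' hx hx')

lemma locally_noetherianSpace (X : Scheme.{u}) [IsLocallyNoetherian X] (x : X) :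
    ∃ U ∈ nhds x, NoetherianSpace U := by
  obtain ⟨U, hU, hxU, -⟩ := exists_isAffineOpen_mem_and_subset (U := ⊤) (Opens.mem_top x)
  have : IsNoetherianRing Γ(X, U) := IsLocallyNoetherian.component_noetherian ⟨U, hU⟩
  exact ⟨U, U.isOpen.mem_nhds hxU, noetherianSpace_of_isAffineOpen U hU⟩

lemma exists_isIrreducible_nhd [IsLocallyNoetherian X] (x : X)
    (hx : (nilradical (X.presheaf.stalk x)).IsPrime) :
    ∃ U : X.Opens, x ∈ U ∧ IsIrreducible (U : Set X) := by
  obtain ⟨W, s, hW, hxW, hs, hsI, hWs⟩ :=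
    exists_finite_irreducibleComponents_cover (locally_noetherianSpace X) x
  obtain ⟨Z, hZs, hxZ⟩ := hWs hxW
  let C : Set X := ⋃ T ∈ s \ {Z}, T
  have hC : IsClosed C := (hs.subset Set.sdiff_subset).isClosed_biUnion
    fun T hT => isClosed_of_mem_irreducibleComponents T (hsI hT.1)
  have hxC : x ∉ C := fun h => by
    obtain ⟨T, hT, hxT⟩ := Set.mem_iUnion₂.mp h
    exact hT.2 ((nilradical_stalk_isPrime_iff x).mp hx T (hsI hT.1) Z (hsI hZs) hxT hxZ)
  refine ⟨⟨W \ C, hW.sdiff hC⟩, ⟨hxW, hxC⟩, ⟨x, hxW, hxC⟩, ?_⟩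
  refine (hsI hZs).1.2.open_subset (hW.sdiff hC) ?_
  rintro y ⟨hy, hy'⟩
  obtain ⟨T, hT, hyT⟩ := hWs hy
  by_contra hyZ
  exact hy' (Set.mem_biUnion (x := T) ⟨hT, fun h => hyZ ((Set.mem_singleton_iff.mp h) ▸ hyT)⟩ hyT)

lemma exists_isReduced_nhd [IsLocallyNoetherian X] (x : X)
    [_root_.IsReduced (X.presheaf.stalk x)] : ∃ U : X.Opens, x ∈ U ∧ IsReduced (U : Scheme.{u}) := by
  obtain ⟨U, hU, hxU, -⟩ := exists_isAffineOpen_mem_and_subset (U := ⊤) (Opens.mem_top x)
  have : IsNoetherianRing Γ(X, U) := IsLocallyNoetherian.component_noetherian ⟨U, hU⟩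
  let P := (hU.primeIdealOf ⟨x, hxU⟩).asIdeal
  algebraize [(X.presheaf.germ U x hxU).hom]
  have hloc : IsLocalization.AtPrime (X.presheaf.stalk x) P := hU.isLocalization_stalk ⟨x, hxU⟩
  have hkill : ∀ n ∈ nilradical Γ(X, U), ∃ s ∈ P.primeCompl, s * n = 0 := fun n hn => by
    have h0 : algebraMap Γ(X, U) (X.presheaf.stalk x) n = algebraMap Γ(X, U) (X.presheaf.stalk x) 0 := by
      rw [map_zero]
      exact ((mem_nilradical.mp hn).map _).eq_zero
    obtain ⟨c, hc⟩ := IsLocalization.exists_of_eq (M := P.primeCompl) h0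
    exact ⟨c, c.2, by simpa using hc⟩
  obtain ⟨G, hG⟩ := IsNoetherian.noetherian (nilradical Γ(X, U))
  choose t ht ht0 using fun n : G => hkill n (by rw [← hG]; exact Submodule.subset_span n.2)
  let s := ∏ n : G, t n
  have hs : s ∈ P.primeCompl := Submonoid.prod_mem _ fun n _ => ht n
  have hsn : ∀ n ∈ nilradical Γ(X, U), s * n = 0 := fun n hn => by
    rw [← hG] at hn
    induction hn using Submodule.span_induction with
    | mem y hy =>
      obtain ⟨d, hd⟩ := Finset.dvd_prod_of_mem t (Finset.mem_univ (⟨y, hy⟩ : G))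
      change (∏ n : G, t n) * y = 0
      rw [hd, mul_comm (t _) d, mul_assoc]
      exact mul_eq_zero_of_right _ (ht0 ⟨y, hy⟩)
    | zero => simp
    | add a b _ _ ha hb => rw [mul_add, ha, hb, add_zero]
    | smul c a _ ha => rw [smul_eq_mul, mul_left_comm, ha, mul_zero]
  have hxs : x ∈ X.basicOpen s := by
    rw [Scheme.mem_basicOpen _ _ _ hxU]
    exact IsLocalization.map_units (X.presheaf.stalk x) (⟨s, hs⟩ : P.primeCompl)
  refine ⟨X.basicOpen s, hxs, ?_⟩
  have : IsAffine (X.basicOpen s) := hU.basicOpen s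
  have := hU.isLocalization_basicOpen s
  have hred : _root_.IsReduced Γ(X, X.basicOpen s) := by
    refine ⟨fun a ⟨m, ha⟩ => ?_⟩
    obtain ⟨⟨b, c⟩, hbc⟩ := IsLocalization.surj (Submonoid.powers s) a
    have hbm : algebraMap Γ(X, U) Γ(X, X.basicOpen s) (b ^ (m + 1)) = 0 := by
      rw [map_pow, ← hbc, mul_pow, pow_succ a, ha, zero_mul, zero_mul]
    obtain ⟨⟨_, k, rfl⟩, hd⟩ := (IsLocalization.map_eq_zero_iff (Submonoid.powers s) _ _).mp hbm
    have hn : s ^ k * b ∈ nilradical Γ(X, U) := by
      refine mem_nilradical.mpr ⟨m + 1, ?_⟩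
      rw [mul_pow, pow_succ (s ^ k), mul_assoc]
      exact mul_eq_zero_of_right _ hd
    have hb0 : algebraMap Γ(X, U) Γ(X, X.basicOpen s) b = 0 :=
      (IsLocalization.map_eq_zero_iff (Submonoid.powers s) _ _).mpr
        ⟨⟨s ^ (k + 1), k + 1, rfl⟩, by
          change s ^ (k + 1) * b = 0
          rw [pow_succ', mul_assoc]; exact hsn _ hn⟩
    rw [← hbc] at hb0
    exact (IsLocalization.map_units Γ(X, X.basicOpen s) c).mul_left_eq_zero.mp hb0
  have : _root_.IsReduced Γ(↑(X.basicOpen s), ⊤) :=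
    isReduced_of_injective (X.basicOpen s).topIso.hom.hom
      (ConcreteCategory.bijective_of_isIso (X.basicOpen s).topIso.hom).injective
  exact isReduced_of_isAffine_isReduced _

lemma exists_isIntegral_nhd [IsLocallyNoetherian X] (x : X) [IsDomain (X.presheaf.stalk x)] :
    ∃ U : X.Opens, x ∈ U ∧ IsIntegral (U : Scheme.{u}) := by
  obtain ⟨U, hxU, hU⟩ := exists_isReduced_nhd x
  obtain ⟨V, hxV, hV⟩ := exists_isIrreducible_nhd x (by
    rw [nilradical_eq_zero]; exact Ideal.isPrime_bot)
  refine ⟨U ⊓ V, ⟨hxU, hxV⟩, ?_⟩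
  have : IsReduced (↑(U ⊓ V) : Scheme.{u}) :=
    isReduced_of_isOpenImmersion (X.homOfLE (inf_le_left : U ⊓ V ≤ U))
  have : IrreducibleSpace (↑(U ⊓ V) : Scheme.{u}) := by
    have h : IsIrreducible ((U ⊓ V : X.Opens) : Set X) :=
      ⟨⟨x, hxU, hxV⟩, hV.2.open_subset (U ⊓ V).isOpen Set.inter_subset_right⟩
    exact (Subtype.irreducibleSpace h : _)
  exact isIntegral_of_irreducibleSpace_of_isReduced _

lemma irreducibleSpace_iff_connectedSpace_and_nilradical [IsLocallyNoetherian X] :
    IrreducibleSpace X ↔ ConnectedSpace X ∧ ∀ x : X, (nilradical (X.presheaf.stalk x)).IsPrime := by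
  constructor
  · intro h
    refine ⟨inferInstance, (pairwiseDisjoint_iff_nilradical_stalk_isPrime X).mp ?_⟩
    rw [irreducibleComponents_eq_singleton]
    exact Set.pairwiseDisjoint_singleton _ _
  · rintro ⟨h, hp⟩
    have hT := (irreducibleComponents_open_tfae (locally_noetherianSpace X)).out (a := (irreducibleComponents (X : Type u)).PairwiseDisjoint id) (b := ∀ x : X, IsIrreducible (connectedComponent x)) 3 2
    have := hT.mp
      ((pairwiseDisjoint_iff_nilradical_stalk_isPrime X).mpr hp) (Classical.arbitrary X)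
    rw [PreconnectedSpace.connectedComponent_eq_univ] at this
    exact irreducibleSpace_def _ |>.mpr this

lemma isIntegral_iff_connectedSpace_and_isDomain [IsLocallyNoetherian X] :
    IsIntegral X ↔ ConnectedSpace X ∧ ∀ x : X, IsDomain (X.presheaf.stalk x) := by
  constructor
  · intro h
    exact ⟨inferInstance, fun x => inferInstance⟩
  · rintro ⟨h, hd⟩
    have := isReduced_of_isReduced_stalk (X := X)
    have : IrreducibleSpace X := irreducibleSpace_iff_connectedSpace_and_nilradical.mpr
      ⟨h, fun x => by rw [nilradical_eq_zero]; exact Ideal.isPrime_bot⟩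
    exact isIntegral_of_irreducibleSpace_of_isReduced X

end Groth.Agent.SchBasics
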