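import Mathlib.AlgebraicGeometry.Morphisms.Immersion
import Mathlib.AlgebraicGeometry.IdealSheaf.Functorial

set_option autoImplicit false
universe u
open AlgebraicGeometry CategoryTheory TopologicalSpace Topology

namespace Groth.Agent.SchBasics

variable {X Y Z : Scheme.{u}}

open Scheme.IdealSheafData in
lemma ker_app_eq_vanishingIdeal [IsReduced X] (π : X ⟶ Y) (U : Y.affineOpens) :
    RingHom.ker (π.app U).hom =
      (vanishingIdeal ⟨closure (Set.range π), isClosed_closure⟩).ideal U := by
  ext s
  rw [vanishingIdeal_ideal, PrimeSpectrum.mem_vanishingIdeal, RingHom.mem_ker,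
    ← basicOpen_eq_bot_iff, ← Scheme.preimage_basicOpen]
  constructor
  · intro h p hp
    by_contra hs
    have hmem : U.2.fromSpec p ∈ Y.basicOpen s := by
      have : (p : Spec Γ(Y, U.1)) ∈ U.2.fromSpec ⁻¹ᵁ Y.basicOpen s := by
        rw [U.2.fromSpec_preimage_basicOpen]; exact hs
      exact this
    obtain ⟨y, hy, x, rfl⟩ := mem_closure_iff.mp (show U.2.fromSpec p ∈ closure (Set.range π) from hp)
      _ (Y.basicOpen s).isOpen hmem
    have : x ∈ π ⁻¹ᵁ Y.basicOpen s := hy
    rw [h] at this
    exact this
  · intro h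
    refine eq_bot_iff.mpr fun x hx => ?_
    have hxU : π x ∈ U.1 := Y.basicOpen_le s hx
    obtain ⟨p, hp⟩ : π x ∈ Set.range U.2.fromSpec := by rw [U.2.range_fromSpec]; exact hxU
    have hs := h p (show U.2.fromSpec p ∈ closure (Set.range π) from hp ▸ subset_closure ⟨x, rfl⟩)
    have : p ∈ U.2.fromSpec ⁻¹ᵁ Y.basicOpen s := by
      change U.2.fromSpec p ∈ Y.basicOpen s
      rw [hp]; exact hx
    rw [U.2.fromSpec_preimage_basicOpen] at this
    exact this hs

lemma ker_eq_vanishingIdeal [IsReduced X] (π : X ⟶ Y) :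
    π.ker = Scheme.IdealSheafData.vanishingIdeal ⟨closure (Set.range π), isClosed_closure⟩ := by
  rw [Scheme.Hom.ker, show (fun U : Y.affineOpens => RingHom.ker (π.app U).hom) = _ from
    funext (ker_app_eq_vanishingIdeal π)]
  exact Scheme.IdealSheafData.ofIdeals_ideal _

lemma ker_le_ker_of_range_subset [IsReduced X] (f : X ⟶ Y) (j : Z ⟶ Y) [IsClosedImmersion j]
    (h : Set.range f ⊆ Set.range j) : j.ker ≤ f.ker := by
  rw [ker_eq_vanishingIdeal f, ← Scheme.IdealSheafData.le_support_iff_le_vanishingIdeal]
  intro x hx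
  refine j.range_subset_ker_support ?_
  exact (j.isClosedEmbedding.isClosed_range.closure_subset_iff.mpr h) hx

lemma isReduced_subscheme_of_radical (I : Y.IdealSheafData) (h : ∀ U, (I.ideal U).IsRadical) :
    IsReduced I.subscheme := by
  have (U : I.subschemeCover.openCover.I₀) : IsReduced (I.subschemeCover.openCover.X U) := by
    have := (Ideal.isRadical_iff_quotient_reduced _).mp (h U)
    exact inferInstanceAs (IsReduced (Spec (CommRingCat.of _)))
  exact IsReduced.of_openCover _ I.subschemeCover.openCover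

lemma isReduced_vanishingIdeal_subscheme (Z : Closeds Y) :
    IsReduced (Scheme.IdealSheafData.vanishingIdeal Z).subscheme :=
  isReduced_subscheme_of_radical _ fun U => by
    rw [Scheme.IdealSheafData.vanishingIdeal_ideal]
    exact PrimeSpectrum.isRadical_vanishingIdeal _

lemma range_vanishingIdeal_subschemeι (Z : Closeds Y) :
    Set.range (Scheme.IdealSheafData.vanishingIdeal Z).subschemeι = Z := by
  rw [Scheme.IdealSheafData.range_subschemeι, Scheme.IdealSheafData.coe_support_vanishingIdeal]

lemma ker_of_isReduced_of_isClosedImmersion [IsReduced Z] (i : Z ⟶ Y) [IsClosedImmersion i] :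
    i.ker = Scheme.IdealSheafData.vanishingIdeal ⟨Set.range i, i.isClosedEmbedding.isClosed_range⟩ := by
  rw [ker_eq_vanishingIdeal i]
  congr 1
  ext1
  exact i.isClosedEmbedding.isClosed_range.closure_eq

end Groth.Agent.SchBasics
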