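import Mathlib.AlgebraicGeometry.SpreadingOut
import Mathlib.AlgebraicGeometry.Morphisms.FinitePresentation

set_option autoImplicit false
universe u
open AlgebraicGeometry CategoryTheory TopologicalSpace

namespace Groth.Agent.SchBasics

variable {X Y S : Scheme.{u}}

lemma homOfLE_eq {U V : X.Opens} (h : U ≤ V) (a : U) (b : V) (hab : a.1 = b.1) :
    X.homOfLE h a = b :=
  Subtype.ext ((Scheme.homOfLE_apply h a).trans hab)

lemma mem_finsetInf {ι : Type*} (s : Finset ι) (O : ι → X.Opens) {x : X} (h : ∀ i ∈ s, x ∈ O i) :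
    x ∈ s.inf O := by
  classical
  induction s using Finset.induction with
  | empty => simp
  | insert a s ha ih =>
    rw [Finset.inf_insert]
    exact ⟨h a (Finset.mem_insert_self _ _), ih fun i hi => h i (Finset.mem_insert_of_mem hi)⟩

lemma exists_res_eq_of_germ_eq {R A : CommRingCat.{u}} (φRA : R ⟶ A) (hA : φRA.hom.FiniteType)
    {W : X.Opens} {x : X} (hx : x ∈ W) (φRX : R ⟶ Γ(X, W)) (a b : A ⟶ Γ(X, W))
    (ha : φRA ≫ a = φRX) (hb : φRA ≫ b = φRX)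
    (h : a ≫ X.presheaf.germ W x hx = b ≫ X.presheaf.germ W x hx) :
    ∃ (V : X.Opens) (i : V ≤ W), x ∈ V ∧ IsAffineOpen V ∧
      a ≫ X.presheaf.map i.hom.op = b ≫ X.presheaf.map i.hom.op := by
  obtain ⟨n, π, hπ⟩ : ∃ n, ∃ π : MvPolynomial (Fin n) R →+* A,
      Function.Surjective π ∧ π.comp MvPolynomial.C = φRA.hom := by
    algebraize [φRA.hom]
    obtain ⟨n, f, hf⟩ := Algebra.FiniteType.iff_quotient_mvPolynomial''.mp hA
    exact ⟨n, f.toRingHom, hf, RingHom.ext f.commutes⟩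
  choose O hxO iO iO' hO using fun i : Fin n =>
    X.presheaf.germ_eq x hx hx (a (π (MvPolynomial.X i))) (b (π (MvPolynomial.X i)))
      (ConcreteCategory.congr_hom h _)
  obtain ⟨V, hV, hxV, hVsub⟩ := exists_isAffineOpen_mem_and_subset
    (U := W ⊓ Finset.univ.inf O) (x := x) ⟨hx, mem_finsetInf _ _ fun i _ => hxO i⟩
  refine ⟨V, fun z hz => (hVsub hz).1, hxV, hV, ?_⟩
  ext t
  obtain ⟨p, rfl⟩ := hπ.1 t
  have e : (((a ≫ X.presheaf.map (homOfLE (fun z hz => (hVsub hz).1 : V ≤ W)).op).hom).comp π) =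
      (((b ≫ X.presheaf.map (homOfLE (fun z hz => (hVsub hz).1 : V ≤ W)).op).hom).comp π) := by
    refine MvPolynomial.ringHom_ext (fun r => ?_) (fun i => ?_)
    · have hr : π (MvPolynomial.C r) = φRA.hom r := DFunLike.congr_fun hπ.2 r
      simp only [RingHom.comp_apply, CommRingCat.hom_comp, hr]
      have h1 := ConcreteCategory.congr_hom ha r
      have h2 := ConcreteCategory.congr_hom hb r
      simp only [CommRingCat.comp_apply] at h1 h2
      rw [h1, h2]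
    · have hle : V ≤ O i := fun z hz => Finset.inf_le (f := O) (Finset.mem_univ i) (hVsub hz).2
      simp only [RingHom.comp_apply, CommRingCat.hom_comp]
      have := congrArg (fun z => X.presheaf.map (homOfLE hle).op z) (hO i)
      rw [← CommRingCat.comp_apply (X.presheaf.map (iO i).op), ← CommRingCat.comp_apply (X.presheaf.map (iO' i).op),
        ← Functor.map_comp, ← Functor.map_comp] at this
      exact this
  exact DFunLike.congr_fun e p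

lemma exists_lift_of_finitePresentation {R A : CommRingCat.{u}} (φRA : R ⟶ A)
    (hA : φRA.hom.FinitePresentation) {U : X.Opens} {x : X} (hxU : x ∈ U)
    (φ : A ⟶ X.presheaf.stalk x) (φRX : R ⟶ Γ(X, U))
    (e : φRA ≫ φ = φRX ≫ X.presheaf.germ U x hxU) :
    ∃ (V : X.Opens) (hxV : x ∈ V) (φ' : A ⟶ Γ(X, V)) (i : V ≤ U), IsAffineOpen V ∧
      φ = φ' ≫ X.presheaf.germ V x hxV ∧ φRX ≫ X.presheaf.map i.hom.op = φRA ≫ φ' := by
  obtain ⟨n, π, hπ, hπC, ⟨G, hG⟩⟩ : ∃ n, ∃ π : MvPolynomial (Fin n) R →+* A,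
      Function.Surjective π ∧ π.comp MvPolynomial.C = φRA.hom ∧ (RingHom.ker π).FG := by
    algebraize [φRA.hom]
    obtain ⟨n, f, hf, hk⟩ := Algebra.FinitePresentation.out (R := R) (A := A)
    exact ⟨n, f.toRingHom, hf, RingHom.ext f.commutes, hk⟩
  choose W hxW t ht using fun i : Fin n => X.presheaf.exists_germ_eq (φ (π (MvPolynomial.X i)))
  have hx1 : x ∈ U ⊓ Finset.univ.inf W :=
    ⟨hxU, mem_finsetInf _ _ fun i _ => hxW i⟩
  have hle (i : Fin n) : U ⊓ Finset.univ.inf W ≤ W i :=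
    inf_le_right.trans (Finset.inf_le (Finset.mem_univ i))
  let V₁ := U ⊓ Finset.univ.inf W
  let ψ : MvPolynomial (Fin n) R →+* Γ(X, V₁) :=
    MvPolynomial.eval₂Hom ((X.presheaf.map (homOfLE (inf_le_left : V₁ ≤ U)).op).hom.comp φRX.hom)
      (fun i => X.presheaf.map (homOfLE (hle i)).op (t i))
  have hψ : (X.presheaf.germ V₁ x hx1).hom.comp ψ = φ.hom.comp π := by
    refine MvPolynomial.ringHom_ext (fun r => ?_) (fun i => ?_)
    · have hr : π (MvPolynomial.C r) = φRA.hom r := DFunLike.congr_fun hπC r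
      have := ConcreteCategory.congr_hom e r
      simp only [CommRingCat.comp_apply] at this
      simp only [ψ, RingHom.comp_apply, MvPolynomial.eval₂Hom_C, hr]
      rw [TopCat.Presheaf.germ_res_apply]
      exact this.symm
    · simp only [ψ, RingHom.comp_apply, MvPolynomial.eval₂Hom_X']
      rw [TopCat.Presheaf.germ_res_apply]
      exact ht i
  choose O hxO iO iO' hO using fun g : G => X.presheaf.germ_eq x hx1 hx1 (ψ g.1) 0 (by
    rw [map_zero]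
    have h0 : π g.1 = 0 := by
      rw [← RingHom.mem_ker, ← hG]; exact Ideal.subset_span g.2
    calc X.presheaf.germ V₁ x hx1 (ψ g.1) = φ.hom (π g.1) := DFunLike.congr_fun hψ g.1
      _ = 0 := by rw [h0, map_zero])
  obtain ⟨V, hV, hxV, hVsub⟩ := exists_isAffineOpen_mem_and_subset
    (U := V₁ ⊓ Finset.univ.inf O) (x := x) ⟨hx1, mem_finsetInf _ _ fun i _ => hxO i⟩
  have hV1 : V ≤ V₁ := fun z hz => (hVsub hz).1
  let ψV := (X.presheaf.map (homOfLE hV1).op).hom.comp ψ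
  have hker : RingHom.ker π ≤ RingHom.ker ψV := by
    rw [← hG, Ideal.span_le]
    intro g hg
    have hle : V ≤ O ⟨g, hg⟩ := fun z hz =>
      Finset.inf_le (f := O) (Finset.mem_univ ⟨g, hg⟩) (hVsub hz).2
    have := congrArg (fun z => X.presheaf.map (homOfLE hle).op z) (hO ⟨g, hg⟩)
    simp only [map_zero, ← CommRingCat.comp_apply, ← Functor.map_comp] at this
    exact this
  let φ' := RingHom.liftOfSurjective π hπ ⟨ψV, hker⟩
  have hφ' : φ'.comp π = ψV := RingHom.liftOfRightInverse_comp π _ _ _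
  refine ⟨V, hxV, CommRingCat.ofHom φ', hV1.trans inf_le_left, hV, ?_, ?_⟩
  · ext a
    obtain ⟨p, rfl⟩ := hπ a
    simp only [CommRingCat.comp_apply, CommRingCat.hom_ofHom]
    rw [← RingHom.comp_apply φ' π, hφ']
    simp only [ψV, RingHom.comp_apply]
    rw [TopCat.Presheaf.germ_res_apply]
    exact (DFunLike.congr_fun hψ p).symm
  · ext r
    simp only [CommRingCat.comp_apply, CommRingCat.hom_ofHom]
    rw [← DFunLike.congr_fun hπC r, RingHom.comp_apply, ← RingHom.comp_apply φ' π, hφ']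
    simp only [ψV, ψ, RingHom.comp_apply, MvPolynomial.eval₂Hom_C, ← CommRingCat.comp_apply]
    rw [Category.assoc, ← Functor.map_comp]
    rfl

lemma spread_out_unique (sX : X ⟶ S) (sY : Y ⟶ S) [LocallyOfFiniteType sY]
    (f g : X ⟶ Y) (hf : f ≫ sY = sX) (hg : g ≫ sY = sX) {x : X} (e : f x = g x)
    (H : f.stalkMap x =
      Y.presheaf.stalkSpecializes (Inseparable.of_eq e.symm).specializes ≫ g.stalkMap x) :
    ∃ U : X.Opens, x ∈ U ∧ U.ι ≫ f = U.ι ≫ g := by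
  obtain ⟨T, hT, hxT, -⟩ := exists_isAffineOpen_mem_and_subset (U := ⊤) (Opens.mem_top (sY (f x)))
  obtain ⟨V, hV, hxV, hVT⟩ := exists_isAffineOpen_mem_and_subset (U := sY ⁻¹ᵁ T) (x := f x) hxT
  have hxV' : g x ∈ V := e ▸ hxV
  let W := f ⁻¹ᵁ V ⊓ g ⁻¹ᵁ V
  have hxW : x ∈ W := ⟨hxV, hxV'⟩
  have e1 : W ≤ (f ≫ sY) ⁻¹ᵁ T := fun z hz => hVT hz.1
  have ha : sY.appLE T V hVT ≫ f.appLE V W inf_le_left = (f ≫ sY).appLE T W e1 :=
    Scheme.Hom.appLE_comp_appLE f sY T V W hVT inf_le_left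
  have hb : sY.appLE T V hVT ≫ g.appLE V W inf_le_right = (f ≫ sY).appLE T W e1 := by
    rw [Scheme.Hom.appLE_comp_appLE g sY T V W hVT inf_le_right]
    simp only [hf, hg]
  obtain ⟨U, iU, hxU, hU, hab⟩ := exists_res_eq_of_germ_eq (sY.appLE T V hVT)
    (sY.finiteType_appLE hT hV hVT) hxW ((f ≫ sY).appLE T W e1) _ _ ha hb (by
      simp only [Scheme.Hom.appLE, Category.assoc, X.presheaf.germ_res', ← Scheme.Hom.germ_stalkMap, H]
      simp only [TopCat.Presheaf.germ_stalkSpecializes_assoc, Scheme.Hom.germ_stalkMap])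
  simp only [Scheme.Hom.appLE_map] at hab
  refine ⟨U, hxU, ?_⟩
  rw [← Scheme.Hom.resLE_comp_ι _ (iU.trans inf_le_left : U ≤ f ⁻¹ᵁ V),
    ← Scheme.Hom.resLE_comp_ι _ (iU.trans inf_le_right : U ≤ g ⁻¹ᵁ V)]
  congr 1
  have : IsAffine V := hV
  suffices ∀ (U₀ : X.Opens) (V₀ : Y.Opens) (eU : U = U₀) (eV : V = V₀),
      f.appLE V₀ U₀ (eU ▸ eV ▸ iU.trans inf_le_left) =
        g.appLE V₀ U₀ (eU ▸ eV ▸ iU.trans inf_le_right) by
    rw [← cancel_mono V.toScheme.isoSpec.hom]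
    simp only [Scheme.isoSpec, asIso_hom, Scheme.toSpecΓ_naturality,
      Scheme.Hom.app_eq_appLE, Scheme.Hom.resLE_appLE]
    congr 2
    apply this <;> simp
  rintro U₀ V₀ rfl rfl
  exact hab

lemma spread_out_unique' (sX : X ⟶ S) (sY : Y ⟶ S) [LocallyOfFiniteType sY]
    (f g : X ⟶ Y) (hf : f ≫ sY = sX) (hg : g ≫ sY = sX) {x : X}
    (e : X.fromSpecStalk x ≫ f = X.fromSpecStalk x ≫ g) :
    ∃ U : X.Opens, x ∈ U ∧ U.ι ≫ f = U.ι ≫ g := by
  fapply spread_out_unique sX sY f g hf hg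
  · simpa using congr($e (IsLocalRing.closedPoint _))
  · apply Spec.map_injective
    rw [← cancel_mono (Y.fromSpecStalk _)]
    simpa [Scheme.SpecMap_stalkSpecializes_fromSpecStalk]

lemma spread_out (sX : X ⟶ S) (sY : Y ⟶ S) [LocallyOfFinitePresentation sY]
    {x : X} {y : Y} (e : sX x = sY y) (φ : Y.presheaf.stalk y ⟶ X.presheaf.stalk x)
    (h : sY.stalkMap y ≫ φ =
      S.presheaf.stalkSpecializes (Inseparable.of_eq e).specializes ≫ sX.stalkMap x) :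
    ∃ (U : X.Opens) (hxU : x ∈ U) (f : U.toScheme ⟶ Y),
      Spec.map φ ≫ Y.fromSpecStalk y = U.fromSpecStalkOfMem x hxU ≫ f ∧
      f ≫ sY = U.ι ≫ sX := by
  obtain ⟨U, hU, hxU, -⟩ := exists_isAffineOpen_mem_and_subset (U := ⊤) (Opens.mem_top (sX x))
  have hyU : sY y ∈ U := e ▸ hxU
  obtain ⟨V, hV, hyV, iVU⟩ := exists_isAffineOpen_mem_and_subset (U := sY ⁻¹ᵁ U) (x := y) hyU
  have : sY.appLE U V iVU ≫ Y.presheaf.germ V y hyV ≫ φ =
      sX.app U ≫ X.presheaf.germ (sX ⁻¹ᵁ U) x hxU := by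
    rw [Scheme.Hom.appLE, Category.assoc, Y.presheaf.germ_res_assoc,
      ← Scheme.Hom.germ_stalkMap_assoc, h]
    simp
  obtain ⟨W, hxW, φ', i, hW, h₁, h₂⟩ := exists_lift_of_finitePresentation (sY.appLE U V iVU)
    (HasRingHomProperty.appLE @LocallyOfFinitePresentation sY inferInstance ⟨U, hU⟩ ⟨V, hV⟩ iVU)
    (X := X) (U := sX ⁻¹ᵁ U) (x := x) hxU (Y.presheaf.germ _ y hyV ≫ φ) (sX.app U) this
  refine ⟨W, hxW, W.toSpecΓ ≫ Spec.map φ' ≫ hV.fromSpec, ?_, ?_⟩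
  · rw [W.fromSpecStalkOfMem_toSpecΓ_assoc x hxW, ← Spec.map_comp_assoc, ← h₁,
      Spec.map_comp, Category.assoc, ← IsAffineOpen.fromSpecStalk,
      IsAffineOpen.fromSpecStalk_eq_fromSpecStalk]
  · simp only [Category.assoc]
    rw [← IsAffineOpen.SpecMap_appLE_fromSpec sY hU hV iVU, ← Spec.map_comp_assoc, ← h₂,
      ← Scheme.Hom.appLE, ← hW.isoSpec_hom, IsAffineOpen.SpecMap_appLE_fromSpec sX hU hW i,
      ← Iso.eq_inv_comp, IsAffineOpen.isoSpec_inv_ι_assoc]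

/-- A stalk isomorphism between schemes locally of finite presentation spreads out to an
isomorphism of neighbourhoods. -/
lemma exists_isIso_spread_out (sX : X ⟶ S) (sY : Y ⟶ S)
    [LocallyOfFinitePresentation sX] [LocallyOfFinitePresentation sY]
    {x : X} {y : Y} (e : sX x = sY y)
    (φ : Y.presheaf.stalk y ⟶ X.presheaf.stalk x) [IsIso φ]
    (h : sY.stalkMap y ≫ φ =
      S.presheaf.stalkSpecializes (Inseparable.of_eq e).specializes ≫ sX.stalkMap x) :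
    ∃ (U : X.Opens) (hxU : x ∈ U) (V : Y.Opens) (f : U.toScheme ⟶ V.toScheme), IsIso f ∧
      Spec.map φ ≫ Y.fromSpecStalk y = U.fromSpecStalkOfMem x hxU ≫ f ≫ V.ι ∧
        f ≫ V.ι ≫ sY = U.ι ≫ sX := by
  obtain ⟨U₀, hxU₀, f₀, hf₀, hfS⟩ := spread_out sX sY e φ h
  have h' : sX.stalkMap x ≫ inv φ =
      S.presheaf.stalkSpecializes (Inseparable.of_eq e.symm).specializes ≫ sY.stalkMap y := by
    rw [IsIso.comp_inv_eq, Category.assoc, h, TopCat.Presheaf.stalkSpecializes_comp_assoc]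
    simp
  obtain ⟨V₀, hyV₀, g₀, hg₀, hgS⟩ := spread_out sY sX e.symm (inv φ) h'
  set ι₁ := U₀.fromSpecStalkOfMem x hxU₀ with hι₁
  set ι₂ := V₀.fromSpecStalkOfMem y hyV₀ with hι₂
  -- f₀ x = y and g₀ y = x
  have hfx : f₀ ⟨x, hxU₀⟩ = y := by
    have h1 : ι₁ (IsLocalRing.closedPoint _) = ⟨x, hxU₀⟩ := by
      apply U₀.ι.isOpenEmbedding.injective
      rw [← Scheme.Hom.comp_apply, hι₁, Scheme.Opens.fromSpecStalkOfMem_ι,
        Scheme.fromSpecStalk_closedPoint]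
      rfl
    rw [← h1, ← Scheme.Hom.comp_apply, ← hf₀, Scheme.Hom.comp_apply]
    rw [IsLocalRing.comap_closedPoint φ.hom |> fun (h : (Spec.map φ) (IsLocalRing.closedPoint _) = IsLocalRing.closedPoint _) => h,
      Scheme.fromSpecStalk_closedPoint]
  have hgy : g₀ ⟨y, hyV₀⟩ = x := by
    have h1 : ι₂ (IsLocalRing.closedPoint _) = ⟨y, hyV₀⟩ := by
      apply V₀.ι.isOpenEmbedding.injective
      rw [← Scheme.Hom.comp_apply, hι₂, Scheme.Opens.fromSpecStalkOfMem_ι,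
        Scheme.fromSpecStalk_closedPoint]
      rfl
    rw [← h1, ← Scheme.Hom.comp_apply, ← hg₀, Scheme.Hom.comp_apply]
    rw [IsLocalRing.comap_closedPoint (inv φ).hom |> fun (h : (Spec.map (inv φ)) (IsLocalRing.closedPoint _) = IsLocalRing.closedPoint _) => h,
      Scheme.fromSpecStalk_closedPoint]
  -- g ∘ f is the identity near x
  have key : ∀ {P Q : Scheme.{u}} (sP : P ⟶ S) (sQ : Q ⟶ S) [LocallyOfFinitePresentation sP]
      (U : P.Opens) (p : P) (hp : p ∈ U) (V : Q.Opens) (q : Q) (hq : q ∈ V)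
      (f : U.toScheme ⟶ Q) (g : V.toScheme ⟶ P) (ψ : Q.presheaf.stalk q ⟶ P.presheaf.stalk p)
      [IsIso ψ],
      Spec.map ψ ≫ Q.fromSpecStalk q = U.fromSpecStalkOfMem p hp ≫ f →
      Spec.map (inv ψ) ≫ P.fromSpecStalk p = V.fromSpecStalkOfMem q hq ≫ g →
      f ≫ sQ = U.ι ≫ sP → g ≫ sP = V.ι ≫ sQ → f ⟨p, hp⟩ = q →
      ∃ (U₁ : P.Opens) (_ : p ∈ U₁) (h1 : U₁ ≤ U) (l : U₁.toScheme ⟶ V),
        l ≫ V.ι = P.homOfLE h1 ≫ f ∧ l ≫ g = U₁.ι := by
    intro P Q sP sQ _ U p hp V q hq f g ψ _ hf hg hfs hgs hfp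
    let Ua : P.Opens := U.ι ''ᵁ (f ⁻¹ᵁ V)
    have hpa : p ∈ Ua := ⟨⟨p, hp⟩, show f ⟨p, hp⟩ ∈ V from hfp ▸ hq, rfl⟩
    have hUa : Ua ≤ U := by rintro _ ⟨z, -, rfl⟩; exact z.2
    have hsub : Set.range (P.homOfLE hUa ≫ f) ⊆ Set.range V.ι := by
      rintro _ ⟨⟨_, z', hz', rfl⟩, rfl⟩
      rw [Scheme.Opens.range_ι]
      change f (P.homOfLE hUa _) ∈ V
      rw [homOfLE_eq hUa _ z' rfl]
      exact hz'
    let la := IsOpenImmersion.lift V.ι (P.homOfLE hUa ≫ f) hsub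
    have hla : la ≫ V.ι = P.homOfLE hUa ≫ f := IsOpenImmersion.lift_fac _ _ _
    have hstalk : Ua.fromSpecStalkOfMem p hpa ≫ la ≫ g = P.fromSpecStalk p := by
      have h1 : Ua.fromSpecStalkOfMem p hpa ≫ la = Spec.map ψ ≫ V.fromSpecStalkOfMem q hq := by
        rw [← cancel_mono V.ι, Category.assoc, Category.assoc, hla, Scheme.Opens.fromSpecStalkOfMem_ι,
          hf, ← Category.assoc]
        congr 1
        rw [← cancel_mono U.ι, Category.assoc, Scheme.homOfLE_ι, Scheme.Opens.fromSpecStalkOfMem_ι,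
          Scheme.Opens.fromSpecStalkOfMem_ι]
      rw [← Category.assoc, h1, Category.assoc, ← hg, ← Spec.map_comp_assoc, IsIso.inv_hom_id,
        Spec.map_id, Category.id_comp]
    have hlas : (la ≫ g) ≫ sP = Ua.ι ≫ sP := by
      rw [Category.assoc, hgs, ← Category.assoc, hla, Category.assoc, hfs, ← Category.assoc,
        Scheme.homOfLE_ι]
    have hnew : Ua.toScheme.fromSpecStalk ⟨p, hpa⟩ ≫ (la ≫ g) =
        Ua.toScheme.fromSpecStalk ⟨p, hpa⟩ ≫ Ua.ι := by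
      have h2 : Ua.fromSpecStalkOfMem p hpa ≫ (la ≫ g) = Ua.fromSpecStalkOfMem p hpa ≫ Ua.ι := by
        rw [hstalk, Scheme.Opens.fromSpecStalkOfMem_ι]
      simp only [Scheme.Opens.fromSpecStalkOfMem, Category.assoc] at h2
      exact (cancel_epi _).mp h2
    obtain ⟨W, hW, hWe⟩ := spread_out_unique' (Ua.ι ≫ sP) sP (la ≫ g) Ua.ι hlas rfl hnew
    have hWU : Ua.ι ''ᵁ W ≤ Ua := by rintro _ ⟨z, -, rfl⟩; exact z.2
    refine ⟨Ua.ι ''ᵁ W, ⟨⟨p, hpa⟩, hW, rfl⟩, hWU.trans hUa, P.homOfLE hWU ≫ la, ?_, ?_⟩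
    · rw [Category.assoc, hla, Scheme.homOfLE_homOfLE_assoc]
    · rw [← cancel_epi (Ua.ι.isoImage W).hom]
      have e1 : (Ua.ι.isoImage W).hom ≫ P.homOfLE hWU = W.ι := by
        rw [← cancel_mono Ua.ι, Category.assoc, Scheme.homOfLE_ι, Scheme.Hom.isoImage_hom_ι]
      rw [← Category.assoc, ← Category.assoc, e1, Category.assoc, hWe, Scheme.Hom.isoImage_hom_ι]
  obtain ⟨U₁, hxU₁, hU₁, lU, hlU, hlU'⟩ :=
    key sX sY U₀ x hxU₀ V₀ y hyV₀ f₀ g₀ φ hf₀ hg₀ hfS hgS hfx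
  obtain ⟨V₁, hyV₁, hV₁, lV, hlV, hlV'⟩ :=
    key sY sX V₀ y hyV₀ U₀ x hxU₀ g₀ f₀ (inv φ) hg₀ (by rw [IsIso.inv_inv]; exact hf₀) hgS hfS hgy
  -- shrink
  let F := X.homOfLE hU₁ ≫ f₀
  let G := Y.homOfLE hV₁ ≫ g₀
  let U₂ : X.Opens := U₁.ι ''ᵁ (F ⁻¹ᵁ V₁)
  let V₂ : Y.Opens := V₁.ι ''ᵁ (G ⁻¹ᵁ U₁)
  have hU₂ : U₂ ≤ U₁ := by rintro _ ⟨z, -, rfl⟩; exact z.2
  have hV₂ : V₂ ≤ V₁ := by rintro _ ⟨z, -, rfl⟩; exact z.2
  have hFG : ∀ (u : U₁) (hu : F u ∈ V₁), G ⟨F u, hu⟩ = u.1 := fun u hu => by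
    have hv : (⟨F u, hV₁ hu⟩ : V₀) = lU u := by
      apply V₀.ι.isOpenEmbedding.injective
      rw [← Scheme.Hom.comp_apply lU, hlU]
      rfl
    have : Y.homOfLE hV₁ ⟨F u, hu⟩ = lU u := by
      rw [← hv]; exact Subtype.ext (by simp)
    change g₀ (Y.homOfLE hV₁ ⟨F u, hu⟩) = u.1
    rw [this, ← Scheme.Hom.comp_apply, hlU']
    rfl
  have hGF : ∀ (v : V₁) (hv : G v ∈ U₁), F ⟨G v, hv⟩ = v.1 := fun v hv => by
    have hu : (⟨G v, hU₁ hv⟩ : U₀) = lV v := by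
      apply U₀.ι.isOpenEmbedding.injective
      rw [← Scheme.Hom.comp_apply lV, hlV]
      rfl
    have : X.homOfLE hU₁ ⟨G v, hv⟩ = lV v := by
      rw [← hu]; exact Subtype.ext (by simp)
    change f₀ (X.homOfLE hU₁ ⟨G v, hv⟩) = v.1
    rw [this, ← Scheme.Hom.comp_apply, hlV']
    rfl
  have hxF : F ⟨x, hxU₁⟩ = y := by
    change f₀ (X.homOfLE hU₁ ⟨x, hxU₁⟩) = y
    rw [show X.homOfLE hU₁ ⟨x, hxU₁⟩ = ⟨x, hxU₀⟩ from Subtype.ext (by simp), hfx]
  have hxU₂ : x ∈ U₂ := ⟨⟨x, hxU₁⟩, show F ⟨x, hxU₁⟩ ∈ V₁ from hxF ▸ hyV₁, rfl⟩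
  have rF : Set.range (X.homOfLE hU₂ ≫ F) ⊆ Set.range V₂.ι := by
    rintro _ ⟨⟨_, z, hz, rfl⟩, rfl⟩
    rw [Scheme.Opens.range_ι]
    change F (X.homOfLE hU₂ _) ∈ V₂
    rw [homOfLE_eq hU₂ _ z rfl]
    exact ⟨⟨F z, hz⟩, show G ⟨F z, hz⟩ ∈ U₁ by rw [hFG z hz]; exact z.2, rfl⟩
  have rG : Set.range (Y.homOfLE hV₂ ≫ G) ⊆ Set.range U₂.ι := by
    rintro _ ⟨⟨_, z, hz, rfl⟩, rfl⟩
    rw [Scheme.Opens.range_ι]
    change G (Y.homOfLE hV₂ _) ∈ U₂
    rw [homOfLE_eq hV₂ _ z rfl]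
    exact ⟨⟨G z, hz⟩, show F ⟨G z, hz⟩ ∈ V₁ by rw [hGF z hz]; exact z.2, rfl⟩
  let fF := IsOpenImmersion.lift V₂.ι (X.homOfLE hU₂ ≫ F) rF
  let gG := IsOpenImmersion.lift U₂.ι (Y.homOfLE hV₂ ≫ G) rG
  have hfF : fF ≫ V₂.ι = X.homOfLE hU₂ ≫ F := IsOpenImmersion.lift_fac _ _ _
  have hgG : gG ≫ U₂.ι = Y.homOfLE hV₂ ≫ G := IsOpenImmersion.lift_fac _ _ _
  have c1 : fF ≫ gG = 𝟙 _ := by
    have : fF ≫ Y.homOfLE (hV₂.trans hV₁) = X.homOfLE hU₂ ≫ lU := by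
      rw [← cancel_mono V₀.ι, Category.assoc, Category.assoc, Scheme.homOfLE_ι, hfF, hlU]
    rw [← cancel_mono U₂.ι, Category.assoc, hgG, Category.id_comp, Scheme.homOfLE_homOfLE_assoc,
      reassoc_of% this, hlU', Scheme.homOfLE_ι]
  have c2 : gG ≫ fF = 𝟙 _ := by
    have : gG ≫ X.homOfLE (hU₂.trans hU₁) = Y.homOfLE hV₂ ≫ lV := by
      rw [← cancel_mono U₀.ι, Category.assoc, Category.assoc, Scheme.homOfLE_ι, hgG, hlV]
    rw [← cancel_mono V₂.ι, Category.assoc, hfF, Category.id_comp, Scheme.homOfLE_homOfLE_assoc,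
      reassoc_of% this, hlV', Scheme.homOfLE_ι]
  refine ⟨U₂, hxU₂, V₂, fF, ⟨gG, c1, c2⟩, ?_, ?_⟩
  · rw [hfF, hf₀, Scheme.homOfLE_homOfLE_assoc, ← Category.assoc]
    congr 1
    rw [← cancel_mono U₀.ι, Category.assoc, Scheme.homOfLE_ι, hι₁,
      Scheme.Opens.fromSpecStalkOfMem_ι, Scheme.Opens.fromSpecStalkOfMem_ι]
  · rw [← Category.assoc, hfF, Scheme.homOfLE_homOfLE_assoc, Category.assoc, hfS,
      ← Category.assoc, Scheme.homOfLE_ι]

/-- A morphism locally of finite presentation inducing an isomorphism on the stalk at `x` is an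
open immersion on a neighbourhood of `x`. -/
lemma exists_isOpenImmersion_of_isIso_stalkMap (f : X ⟶ Y) [LocallyOfFinitePresentation f]
    (x : X) [IsIso (f.stalkMap x)] :
    ∃ U : X.Opens, x ∈ U ∧ IsOpenImmersion (U.ι ≫ f) := by
  obtain ⟨U, hxU, V, l, _, -, h2⟩ :=
    exists_isIso_spread_out f (𝟙 Y) (x := x) (y := f x) rfl (f.stalkMap x) (by simp)
  refine ⟨U, hxU, ?_⟩
  rw [← h2, Category.comp_id]
  infer_instance

end Groth.Agent.SchBasics
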