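import Groth.Agent.Omega57.Corep
import Groth.Agent.QCPull72.Sections

/-! Pulled back sections span the sections of an inverse image over an affine open. -/

set_option autoImplicit false
set_option backward.isDefEq.respectTransparency.types false

noncomputable section

universe u

open CategoryTheory Limits AlgebraicGeometry TopologicalSpace Opposite
open Groth.Agent.QC70

namespace Groth.Agent.SchBasics

open Groth.Agent Omega57

variable {X P : Scheme.{u}}

/-- A set of global sections detecting all morphisms spans. -/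
theorem span_eq_top_of_hom_ext {R : CommRingCat.{u}} (N : (Spec R).Modules) [N.IsQuasicoherent]
    (s : Set Γ(N, (⊤ : (Spec R).Opens)))
    (hs : ∀ (Q : (Spec R).Modules) (a : N ⟶ Q), (∀ x ∈ s, a.app ⊤ x = 0) → a = 0) :
    Submodule.span R s = ⊤ := by
  let S : Submodule R Γ(N, (⊤ : (Spec R).Opens)) := Submodule.span R s
  let Q : ModuleCat R := ModuleCat.of R (Γ(N, (⊤ : (Spec R).Opens)) ⧸ S)
  let π : ModuleCat.of R Γ(N, (⊤ : (Spec R).Opens)) ⟶ Q := ModuleCat.ofHom S.mkQ
  haveI : IsIso N.fromTildeΓ := (isQuasicoherent_iff_isIso_fromTildeΓ N).mp inferInstance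
  let α : N ⟶ tilde Q := inv N.fromTildeΓ ≫ tilde.map π
  have hα : ∀ x : Γ(N, (⊤ : (Spec R).Opens)), α.app ⊤ x = toTop Q (S.mkQ x) := by
    intro x
    let t := toTop (ModuleCat.of R Γ(N, (⊤ : (Spec R).Opens))) x
    have h1 : N.fromTildeΓ.app ⊤ t = x := by
      refine (congr($(Scheme.Modules.toOpen_fromTildeΓ_app N ⊤) x)).trans ?_
      exact congr($((modulesSpecToSheaf.obj N).1.map_id _) x)
    have h2 : (inv N.fromTildeΓ).app ⊤ x = t := by
      refine (congrArg _ h1.symm).trans ?_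
      show (N.fromTildeΓ ≫ inv N.fromTildeΓ).app ⊤ t = _
      rw [IsIso.hom_inv_id]
      rfl
    show (tilde.map π).app ⊤ ((inv N.fromTildeΓ).app ⊤ x) = _
    rw [h2]
    exact congr($(tilde.toOpen_map_app π ⊤) x)
  have hz : α = 0 := hs _ α fun x hx => by
    rw [hα x]
    exact (congrArg (toTop Q) ((Submodule.Quotient.mk_eq_zero S).2 (Submodule.subset_span hx))).trans
      (map_zero _)
  refine eq_top_iff.2 fun x _ => ?_
  refine (Submodule.Quotient.mk_eq_zero S).1 (toTop_injective Q ?_)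
  refine Eq.trans ((hα x).symm.trans ?_) (map_zero (toTop Q)).symm
  rw [hz]
  rfl

theorem span_pullSect (h : X ⟶ P) (M : P.Modules) [M.IsQuasicoherent] {U : X.Opens} (hU : IsAffineOpen U)
    {W : P.Opens} (hW : IsAffineOpen W) (e : U ≤ h ⁻¹ᵁ W) :
    Submodule.span Γ(X, U) (Set.range fun m : Γ(M, W) =>
      res ((Scheme.Modules.pullback h).obj M) e (OmegaSh.pullSect h M W m)) = ⊤ := by
  let G := (Scheme.Modules.pullback h).obj M
  haveI : G.IsQuasicoherent := QCPull72.isQuasicoherent_pullback h M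
  let N := specRes G hU
  haveI : N.IsQuasicoherent := Scheme.Modules.isQuasicoherent_restrictFunctor hU.fromSpec G
  have hjW : (⊤ : (Spec Γ(X, U)).Opens) ≤ hU.fromSpec ⁻¹ᵁ (h ⁻¹ᵁ W) :=
    hU.fromSpec_preimage_self.ge.trans (hU.fromSpec.preimage_mono e)
  have hS := span_eq_top_of_hom_ext N (Set.range (pullOpen h M hU.fromSpec hjW)) fun Q a ha =>
    Omega57.hom_open_ext h M hU.fromSpec hjW hW a 0 fun m => ha _ ⟨m, rfl⟩
  let eT : Γ(N, (⊤ : (Spec Γ(X, U)).Opens)) ≃ₗ[Γ(X, U)] Γ(G, U) := QCPull72.specTopEquiv G hU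
  have heq : ∀ m, eT (pullOpen h M hU.fromSpec hjW m) = res G e (OmegaSh.pullSect h M W m) := by
    intro m
    show res G (QCPull72.fromSpec_image_top hU).ge (res G (hU.fromSpec.image_mono hjW)
      (res G (hU.fromSpec.image_preimage_le (h ⁻¹ᵁ W)) (OmegaSh.pullSect h M W m))) = _
    rw [res_res, res_res]
  have := congrArg (Submodule.map eT.toLinearMap) hS
  rw [Submodule.map_span, Submodule.map_top, LinearEquiv.range, ← Set.range_comp] at this
  rw [← this]
  congr 1
  exact congrArg Set.range (funext fun m => (heq m).symm)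

/-- Semilinear maps on the sections over an affine open extend to the inverse image. -/
theorem exists_linear_pullSect (h : X ⟶ P) (M : P.Modules) [M.IsQuasicoherent] (N : X.Modules)
    {U : X.Opens} (hU : IsAffineOpen U) {W : P.Opens} (hW : IsAffineOpen W) (e : U ≤ h ⁻¹ᵁ W)
    (g : Γ(M, W) →+ Γ(N, U)) (hg : ∀ r m, g (r • m) = h.appLE W U e r • g m) :
    ∃ l : Γ((Scheme.Modules.pullback h).obj M, U) →ₗ[Γ(X, U)] Γ(N, U),
      ∀ m, l (res ((Scheme.Modules.pullback h).obj M) e (OmegaSh.pullSect h M W m)) = g m := by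
  let G := (Scheme.Modules.pullback h).obj M
  have hjW : (⊤ : (Spec Γ(X, U)).Opens) ≤ hU.fromSpec ⁻¹ᵁ (h ⁻¹ᵁ W) :=
    hU.fromSpec_preimage_self.ge.trans (hU.fromSpec.preimage_mono e)
  let eG : Γ(specRes G hU, (⊤ : (Spec Γ(X, U)).Opens)) ≃ₗ[Γ(X, U)] Γ(G, U) := QCPull72.specTopEquiv G hU
  let eN : Γ(specRes N hU, (⊤ : (Spec Γ(X, U)).Opens)) ≃ₗ[Γ(X, U)] Γ(N, U) := QCPull72.specTopEquiv N hU
  obtain ⟨a, ha⟩ := Omega57.exists_hom_open h M hU.fromSpec hjW hW (N := specRes N hU)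
    (eN.symm.toLinearMap.toAddMonoidHom.comp g) (fun r m => by
      show eN.symm (g (r • m)) = _
      rw [hg, map_smul, Omega57.ringHomOpen_fromSpec hU h e hjW]
      rfl)
  let aL : Γ(specRes G hU, (⊤ : (Spec Γ(X, U)).Opens)) →ₗ[Γ(X, U)] Γ(specRes N hU, (⊤ : (Spec Γ(X, U)).Opens)) :=
    ((moduleSpecΓFunctor (R := Γ(X, U))).map a).hom
  refine ⟨eN.toLinearMap.comp (aL.comp eG.symm.toLinearMap), fun m => ?_⟩
  have h1 : eG (pullOpen h M hU.fromSpec hjW m) = res G e (OmegaSh.pullSect h M W m) := by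
    show res G (QCPull72.fromSpec_image_top hU).ge (res G (hU.fromSpec.image_mono hjW)
      (res G (hU.fromSpec.image_preimage_le (h ⁻¹ᵁ W)) (OmegaSh.pullSect h M W m))) = _
    rw [res_res, res_res]
  show eN (aL (eG.symm _)) = g m
  rw [← h1, LinearEquiv.symm_apply_apply]
  refine (congrArg eN (ha m)).trans ?_
  exact eN.apply_symm_apply (g m)

/-- Semilinear maps into any module extend to the sections of the inverse image. -/
theorem exists_linear_pullSect_module (h : X ⟶ P) (M : P.Modules) [M.IsQuasicoherent]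
    {U : X.Opens} (hU : IsAffineOpen U) {W : P.Opens} (hW : IsAffineOpen W) (e : U ≤ h ⁻¹ᵁ W)
    (Nm : Type u) [AddCommGroup Nm] [Module Γ(X, U) Nm]
    (g : Γ(M, W) →+ Nm) (hg : ∀ r m, g (r • m) = h.appLE W U e r • g m) :
    ∃ l : Γ((Scheme.Modules.pullback h).obj M, U) →ₗ[Γ(X, U)] Nm,
      ∀ m, l (res ((Scheme.Modules.pullback h).obj M) e (OmegaSh.pullSect h M W m)) = g m := by
  let G := (Scheme.Modules.pullback h).obj M
  let T : ModuleCat Γ(X, U) := ModuleCat.of Γ(X, U) Nm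
  have hjW : (⊤ : (Spec Γ(X, U)).Opens) ≤ hU.fromSpec ⁻¹ᵁ (h ⁻¹ᵁ W) :=
    hU.fromSpec_preimage_self.ge.trans (hU.fromSpec.preimage_mono e)
  let eG : Γ(specRes G hU, (⊤ : (Spec Γ(X, U)).Opens)) ≃ₗ[Γ(X, U)] Γ(G, U) := QCPull72.specTopEquiv G hU
  let eT : T ≃ₗ[Γ(X, U)] Γ(tilde T, (⊤ : (Spec Γ(X, U)).Opens)) :=
    (tilde.isoTop T).toLinearEquiv
  obtain ⟨a, ha⟩ := Omega57.exists_hom_open h M hU.fromSpec hjW hW (N := tilde T)
    (eT.toLinearMap.toAddMonoidHom.comp g) (fun r m => by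
      show eT (g (r • m)) = _
      rw [hg, Omega57.ringHomOpen_fromSpec hU h e hjW]
      exact eT.map_smul _ _)
  let aL : Γ(specRes G hU, (⊤ : (Spec Γ(X, U)).Opens)) →ₗ[Γ(X, U)] Γ(tilde T, (⊤ : (Spec Γ(X, U)).Opens)) :=
    ((moduleSpecΓFunctor (R := Γ(X, U))).map a).hom
  refine ⟨eT.symm.toLinearMap.comp (aL.comp eG.symm.toLinearMap), fun m => ?_⟩
  have h1 : eG (pullOpen h M hU.fromSpec hjW m) = res G e (OmegaSh.pullSect h M W m) := by
    show res G (QCPull72.fromSpec_image_top hU).ge (res G (hU.fromSpec.image_mono hjW)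
      (res G (hU.fromSpec.image_preimage_le (h ⁻¹ᵁ W)) (OmegaSh.pullSect h M W m))) = _
    rw [res_res, res_res]
  show eT.symm (aL (eG.symm _)) = g m
  rw [← h1, LinearEquiv.symm_apply_apply]
  refine (congrArg eT.symm (ha m)).trans ?_
  exact eT.symm_apply_apply (g m)

end Groth.Agent.SchBasics
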