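import Groth.Agent.SchBasics.Closure
import Groth.Agent.SchBasics.Spread
import Mathlib.AlgebraicGeometry.FunctionField
import Mathlib.AlgebraicGeometry.Morphisms.LocalIso
import Mathlib.AlgebraicGeometry.Noetherian
import Mathlib.RingTheory.Ideal.KrullsHeightTheorem
import Mathlib.RingTheory.Localization.NumDen

set_option autoImplicit false
universe u
open AlgebraicGeometry CategoryTheory TopologicalSpace

namespace Groth.Agent.SchBasics

variable {X Y : Scheme.{u}} (g : X ⟶ Y)

lemma isDominant_iff_apply_genericPoint [IrreducibleSpace X] [IrreducibleSpace Y] :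
    IsDominant g ↔ g (genericPoint X) = genericPoint Y := by
  have hx : IsGenericPoint (g (genericPoint X)) (closure (g '' Set.univ)) :=
    (genericPoint_spec X).image g.continuous
  rw [Set.image_univ] at hx
  constructor
  · intro _
    rw [g.denseRange.closure_range] at hx
    exact hx.eq (genericPoint_spec Y)
  · intro h
    refine ⟨dense_iff_closure_eq.mpr ?_⟩
    rw [← hx.def, h]
    exact (genericPoint_spec Y).def

lemma appLE_injective [IsIntegral X] [IsIntegral Y] (h : g (genericPoint X) = genericPoint Y)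
    {U : X.Opens} {V : Y.Opens} (e : U ≤ g ⁻¹ᵁ V) (hU : (U : Set X).Nonempty) :
    Function.Injective (g.appLE V U e) := by
  rw [injective_iff_map_eq_zero]
  intro s hs
  by_contra hne
  have hη : genericPoint X ∈ U :=
    ((genericPoint_spec X).mem_open_set_iff U.isOpen).mpr (by simpa using hU)
  have h1 : genericPoint Y ∈ Y.basicOpen s :=
    ((genericPoint_spec Y).mem_open_set_iff (Y.basicOpen s).isOpen).mpr (by
      rw [Set.univ_inter]
      by_contra hemp
      exact hne ((basicOpen_eq_bot_iff s).mp (SetLike.coe_injective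
        ((Set.not_nonempty_iff_eq_empty.mp hemp).trans Opens.coe_bot.symm))))
  have h2 : genericPoint X ∈ X.basicOpen (g.appLE V U e s) := by
    rw [Scheme.Hom.appLE, CommRingCat.comp_apply, Scheme.basicOpen_res, ← Scheme.preimage_basicOpen]
    exact ⟨hη, show g (genericPoint X) ∈ Y.basicOpen s from h ▸ h1⟩
  rw [hs, Scheme.basicOpen_zero] at h2
  exact h2

lemma apply_genericPoint_of_appLE_injective [IsIntegral X] [IsIntegral Y]
    {U : X.Opens} {V : Y.Opens} (e : U ≤ g ⁻¹ᵁ V) (hV : IsAffineOpen V) (hU : (U : Set X).Nonempty)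
    (hinj : Function.Injective (g.appLE V U e)) : g (genericPoint X) = genericPoint Y := by
  have hη : genericPoint X ∈ U :=
    ((genericPoint_spec X).mem_open_set_iff U.isOpen).mpr (by simpa using hU)
  have hgη : g (genericPoint X) ∈ V := e hη
  have hηY : genericPoint Y ∈ V :=
    (genericPoint_specializes (g (genericPoint X))).mem_open V.isOpen hgη
  have key : g (genericPoint X) ⤳ genericPoint Y := by
    refine specializes_iff_forall_open.mpr fun W hW hηW => ?_
    obtain ⟨s, hsW, hsη⟩ := hV.exists_basicOpen_le (V := ⟨W, hW⟩) ⟨genericPoint Y, hηW⟩ hηY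
    have hne : g.appLE V U e s ≠ 0 := fun h0 => by
      have h0' : s = 0 := hinj (by rw [h0, map_zero])
      rw [h0', Scheme.basicOpen_zero] at hsη
      exact hsη
    have h2 : genericPoint X ∈ X.basicOpen (g.appLE V U e s) :=
      ((genericPoint_spec X).mem_open_set_iff (X.basicOpen _).isOpen).mpr (by
        rw [Set.univ_inter]
        by_contra hemp
        exact hne ((basicOpen_eq_bot_iff _).mp (SetLike.coe_injective
          ((Set.not_nonempty_iff_eq_empty.mp hemp).trans Opens.coe_bot.symm))))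
    rw [Scheme.Hom.appLE, CommRingCat.comp_apply, Scheme.basicOpen_res, ← Scheme.preimage_basicOpen] at h2
    exact hsW h2.2
  exact (key.antisymm (genericPoint_specializes _)).eq

lemma stalkMap_injective [IsIntegral X] [IsIntegral Y] (h : g (genericPoint X) = genericPoint Y)
    (x : X) : Function.Injective (g.stalkMap x) := by
  rw [injective_iff_map_eq_zero]
  intro a ha
  obtain ⟨V, hxV, s, rfl⟩ := Y.presheaf.exists_germ_eq a
  obtain ⟨U, hU, hxU, hUV⟩ := exists_isAffineOpen_mem_and_subset (U := g ⁻¹ᵁ V) (x := x) hxV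
  have h1 : X.presheaf.germ U x hxU (g.appLE V U hUV s) = 0 := by
    rw [Scheme.Hom.appLE, CommRingCat.comp_apply, TopCat.Presheaf.germ_res_apply,
      ← CommRingCat.comp_apply, ← Scheme.Hom.germ_stalkMap, CommRingCat.comp_apply]
    exact ha
  have h2 : g.appLE V U hUV s = 0 := germ_injective_of_isIntegral X x hxU (by rw [h1, map_zero])
  have h3 : s = 0 := appLE_injective g h hUV ⟨x, hxU⟩ (by rw [h2, map_zero])
  rw [h3, map_zero]

lemma apply_genericPoint_of_stalkMap_injective [IsIntegral X] [IsIntegral Y] (x : X)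
    (hinj : Function.Injective (g.stalkMap x)) : g (genericPoint X) = genericPoint Y := by
  obtain ⟨V, hV, hxV, -⟩ := exists_isAffineOpen_mem_and_subset (U := ⊤) (Opens.mem_top (g x))
  obtain ⟨U, hU, hxU, hUV⟩ := exists_isAffineOpen_mem_and_subset (U := g ⁻¹ᵁ V) (x := x) hxV
  refine apply_genericPoint_of_appLE_injective g hUV hV ⟨x, hxU⟩ ?_
  rw [injective_iff_map_eq_zero]
  intro s hs
  have h1 : g.stalkMap x (Y.presheaf.germ V (g x) hxV s) = 0 := by
    have h : X.presheaf.germ U x hxU (g.appLE V U hUV s) = 0 := by rw [hs, map_zero]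
    rw [Scheme.Hom.appLE, CommRingCat.comp_apply, TopCat.Presheaf.germ_res_apply,
      ← CommRingCat.comp_apply, ← Scheme.Hom.germ_stalkMap, CommRingCat.comp_apply] at h
    exact h
  have h2 : Y.presheaf.germ V (g x) hxV s = 0 := hinj (by rw [h1, map_zero])
  exact germ_injective_of_isIntegral Y (g x) hxV (by rw [h2, map_zero])

/-- The points at which `g` is a local isomorphism. -/
lemma exists_isOpenImmersion_iff_isIso_stalkMap [LocallyOfFinitePresentation g] (x : X) :
    (∃ W : X.Opens, x ∈ W ∧ IsOpenImmersion (W.ι ≫ g)) ↔ IsIso (g.stalkMap x) := by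
  refine ⟨fun ⟨W, hx, h⟩ => ?_, fun h => exists_isOpenImmersion_of_isIso_stalkMap g x⟩
  have h1 : IsIso ((W.ι ≫ g).stalkMap ⟨x, hx⟩) := inferInstance
  rw [Scheme.Hom.stalkMap_comp] at h1
  have h1' : IsIso (g.stalkMap (W.ι ⟨x, hx⟩) ≫ W.ι.stalkMap ⟨x, hx⟩) := h1
  have h2 : IsIso (g.stalkMap (W.ι ⟨x, hx⟩)) :=
    IsIso.of_isIso_comp_right _ (W.ι.stalkMap ⟨x, hx⟩)
  exact h2

section birational

variable [IsIntegral X] [IsIntegral Y] (hη : IsIso (g.stalkMap (genericPoint X)))

include hη in
lemma apply_genericPoint_of_isIso : g (genericPoint X) = genericPoint Y :=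
  apply_genericPoint_of_stalkMap_injective g (genericPoint X)
    (ConcreteCategory.bijective_of_isIso _).injective

include hη in
/-- Every element of a stalk of `X` is a fraction of stalk elements of `Y` without common factor. -/
lemma exists_reduced (x : X) [UniqueFactorizationMonoid (Y.presheaf.stalk (g x))]
    (a : X.presheaf.stalk x) :
    ∃ b c : Y.presheaf.stalk (g x), c ≠ 0 ∧ IsRelPrime b c ∧
      g.stalkMap x c * a = g.stalkMap x b := by
  have hgη := apply_genericPoint_of_isIso g hη
  have hs : genericPoint X ⤳ x := genericPoint_specializes x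
  let τ := (X.presheaf.stalkSpecializes hs : X.presheaf.stalk x ⟶ _)
  let σ := Y.presheaf.stalkSpecializes (hs.map g.continuous)
  have hinjK : Function.Injective τ := by
    intro p q hpq
    exact IsFractionRing.injective (X.presheaf.stalk x) X.functionField hpq
  obtain ⟨k, hk⟩ := (ConcreteCategory.bijective_of_isIso (g.stalkMap (genericPoint X))).surjective (τ a)
  let e := Y.presheaf.stalkCongr (Inseparable.of_eq hgη)
  obtain ⟨b, c, hbc, he⟩ := IsFractionRing.exists_reduced_fraction (A := Y.presheaf.stalk (g x))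
    (K := Y.functionField) (e.hom k)
  have hc0 : (c : Y.presheaf.stalk (g x)) ≠ 0 := nonZeroDivisors.coe_ne_zero c
  refine ⟨b, c, hc0, hbc, hinjK ?_⟩
  have h1 : e.hom k * algebraMap _ Y.functionField (c : Y.presheaf.stalk (g x)) =
      algebraMap _ Y.functionField b := by
    rw [← he, IsLocalization.mk'_spec]
  have halg : ∀ z : Y.presheaf.stalk (g x), algebraMap _ Y.functionField z = e.hom (σ z) := fun z => by
    change Y.presheaf.stalkSpecializes _ z = _
    rw [← CommRingCat.comp_apply, TopCat.Presheaf.stalkCongr_hom,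
      TopCat.Presheaf.stalkSpecializes_comp]
  rw [halg, halg, ← map_mul] at h1
  have h2 : k * σ c = σ b := (ConcreteCategory.bijective_of_isIso e.hom).injective h1
  have hnat : ∀ z, τ (g.stalkMap x z) = g.stalkMap (genericPoint X) (σ z) := fun z => by
    rw [← CommRingCat.comp_apply, ← CommRingCat.comp_apply,
      ← Scheme.Hom.stalkSpecializes_stalkMap]
  rw [map_mul, hnat, hnat, ← h2, map_mul, hk]
  exact mul_comm _ _

end birational

lemma mem_fromSpecStalk_injective {Z : Scheme.{u}} (z : Z) :
    Function.Injective (Z.fromSpecStalk z) := (Z.fromSpecStalk z).isEmbedding.injective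

/-- The heart of purity: if `x` has dimension at least two and `g` is a local isomorphism at all
proper generizations of `x`, then the stalk map at `x` is bijective. -/
lemma isIso_stalkMap_of_generizations [IsIntegral X] [IsIntegral Y] [IsLocallyNoetherian X]
    (hY : ∀ y : Y, UniqueFactorizationMonoid (Y.presheaf.stalk y))
    (hη : IsIso (g.stalkMap (genericPoint X))) (x : X)
    (hgen : ∀ z : X, z ⤳ x → z ≠ x → IsIso (g.stalkMap z))
    (hdim : 1 < ringKrullDim (X.presheaf.stalk x)) : IsIso (g.stalkMap x) := by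
  have := hY (g x)
  have hgη := apply_genericPoint_of_isIso g hη
  rw [ConcreteCategory.isIso_iff_bijective]
  refine ⟨stalkMap_injective g hgη x, fun a => ?_⟩
  obtain ⟨b, c, hc0, hbc, habc⟩ := exists_reduced g hη x a
  by_cases hcu : IsUnit c
  · obtain ⟨v, rfl⟩ := hcu
    refine ⟨b * ↑v⁻¹, ?_⟩
    rw [map_mul, ← habc, mul_comm, ← mul_assoc, ← map_mul, Units.inv_mul, map_one, one_mul]
  exfalso
  set φ := (g.stalkMap x).hom
  have hφc : ¬ IsUnit (φ c) := fun h => hcu ((isUnit_map_iff φ c).mp h)
  obtain ⟨q, hq⟩ := Ideal.nonempty_minimalPrimes (I := Ideal.span {φ c})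
    (by rwa [ne_eq, Ideal.span_singleton_eq_top])
  have := hq.1.1
  have hqh : q.height ≤ 1 := Ideal.height_le_one_of_isPrincipal_of_mem_minimalPrimes _ q hq
  have hcq : φ c ∈ q := hq.1.2 (Ideal.subset_span rfl)
  have hqmax : q ≠ IsLocalRing.maximalIdeal _ := fun h => by
    rw [← IsLocalRing.maximalIdeal_height_eq_ringKrullDim, ← h] at hdim
    exact absurd hdim (not_lt.mpr (WithBot.coe_le_coe.mpr hqh))
  -- the corresponding points
  let Qp : PrimeSpectrum (X.presheaf.stalk x) := ⟨q, inferInstance⟩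
  let z : X := X.fromSpecStalk x Qp
  have hzx : z ⤳ x := by
    have : z ∈ Set.range (X.fromSpecStalk x) := ⟨_, rfl⟩
    rwa [Scheme.range_fromSpecStalk] at this
  have hznx : z ≠ x := fun h => hqmax (by
    have h' : Qp = IsLocalRing.closedPoint (X.presheaf.stalk x) :=
      mem_fromSpecStalk_injective x (h.trans Scheme.fromSpecStalk_closedPoint.symm)
    exact congrArg PrimeSpectrum.asIdeal h')
  let Pp : PrimeSpectrum (Y.presheaf.stalk (g x)) := PrimeSpectrum.comap φ Qp
  have hgz : g z = Y.fromSpecStalk (g x) Pp := by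
    rw [← Scheme.Hom.comp_apply, ← Scheme.SpecMap_stalkMap_fromSpecStalk, Scheme.Hom.comp_apply]
    rfl
  obtain ⟨π, hπ, hπc⟩ : ∃ π, Prime π ∧ π ∣ c ∧ π ∈ Pp.asIdeal := by
    obtain ⟨s, hs, hsprod⟩ := UniqueFactorizationMonoid.exists_prime_factors c hc0
    have hmem : s.prod ∈ Pp.asIdeal := by
      obtain ⟨w, hw⟩ := hsprod
      have : s.prod * w ∈ Pp.asIdeal := hw ▸ hcq
      exact (Ideal.mul_unit_mem_iff_mem _ w.isUnit).mp this
    obtain ⟨π, hπs, hπP⟩ := (Pp.isPrime.multiset_prod_mem_iff_exists_mem s).mp hmem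
    exact ⟨π, hs π hπs, (Multiset.dvd_prod hπs).trans hsprod.dvd, hπP⟩
  obtain ⟨hπc, hπP⟩ := hπc
  have hbP : b ∈ Pp.asIdeal := by
    change φ b ∈ q
    rw [show φ b = φ c * a from habc.symm]
    exact q.mul_mem_right a hcq
  have hπb : ¬ π ∣ b := fun h => hπ.not_unit (hbc h hπc)
  let Rp : PrimeSpectrum (Y.presheaf.stalk (g x)) :=
    ⟨Ideal.span {π}, (Ideal.span_singleton_prime hπ.ne_zero).mpr hπ⟩
  have hle : Rp.asIdeal ≤ Pp.asIdeal := (Ideal.span_singleton_le_iff_mem _).mpr hπP
  let w : Y := Y.fromSpecStalk (g x) Rp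
  have hw : w ⤳ g z := by
    rw [hgz]
    exact ((PrimeSpectrum.le_iff_specializes Rp Pp).mp hle).map (Y.fromSpecStalk (g x)).continuous
  have := hgen z hzx hznx
  obtain ⟨r, hr⟩ : w ∈ Set.range (Y.fromSpecStalk (g z)) := by
    rw [Scheme.range_fromSpecStalk]; exact hw
  obtain ⟨r', rfl⟩ := (Spec.map (g.stalkMap z)).surjective r
  rw [← Scheme.Hom.comp_apply, Scheme.SpecMap_stalkMap_fromSpecStalk, Scheme.Hom.comp_apply] at hr
  set z' : X := X.fromSpecStalk z r'
  have hz'z : z' ⤳ z := by
    have : z' ∈ Set.range (X.fromSpecStalk z) := ⟨_, rfl⟩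
    rwa [Scheme.range_fromSpecStalk] at this
  obtain ⟨Q', hQ'⟩ : z' ∈ Set.range (X.fromSpecStalk x) := by
    rw [Scheme.range_fromSpecStalk]; exact hz'z.trans hzx
  let Q'' : PrimeSpectrum (X.presheaf.stalk x) := Q'
  have hle' : Q''.asIdeal ≤ q :=
    (PrimeSpectrum.le_iff_specializes Q'' Qp).mpr ((X.fromSpecStalk x).isEmbedding.isInducing.specializes_iff.mp
      (hQ' ▸ hz'z))
  have hQQ : PrimeSpectrum.comap φ Q'' = Rp := by
    refine mem_fromSpecStalk_injective (g x) ?_
    change Y.fromSpecStalk (g x) (Spec.map (g.stalkMap x) Q') = w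
    rw [← Scheme.Hom.comp_apply, Scheme.SpecMap_stalkMap_fromSpecStalk, Scheme.Hom.comp_apply, hQ', hr]
  rcases eq_or_lt_of_le hle' with h | h
  · have : Pp = Rp := by
      rw [← hQQ]; ext1; rw [PrimeSpectrum.comap_asIdeal, PrimeSpectrum.comap_asIdeal, h]
    exact hπb (Ideal.mem_span_singleton.mp (this ▸ hbP : b ∈ Rp.asIdeal))
  · have hbot : Q''.asIdeal = ⊥ := by
      by_contra hne
      have h0 : (1 : ℕ∞) ≤ Q''.asIdeal.height := by
        rw [ENat.one_le_iff_ne_zero]
        intro h0
        rw [Ideal.height_eq_zero_iff, IsDomain.minimalPrimes_eq_singleton_bot] at h0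
        exact hne h0
      have h1 : Q''.asIdeal.height < q.height :=
        Ideal.height_strict_mono_of_isPrime h
      exact absurd (h0.trans_lt h1) (not_lt.mpr hqh)
    have : π ∈ (⊥ : Ideal (X.presheaf.stalk x)).comap φ := by
      rw [← hbot]
      have : π ∈ (PrimeSpectrum.comap φ Q'').asIdeal := by
        rw [hQQ]; exact Ideal.subset_span rfl
      exact this
    exact hπ.ne_zero (stalkMap_injective g hgη x (by
      rw [map_zero]; exact this))

/-- Purity: a maximal point of the non-local-isomorphism locus has dimension one. -/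
lemma ringKrullDim_eq_one_of_maximal [IsIntegral X] [IsLocallyNoetherian X] [IsIntegral Y]
    [IsLocallyNoetherian Y] [LocallyOfFiniteType g]
    (hY : ∀ y : Y, UniqueFactorizationMonoid (Y.presheaf.stalk y))
    (hV : ∃ W : X.Opens, (W : Set X).Nonempty ∧ IsOpenImmersion (W.ι ≫ g))
    (ξ : X) (hξ : ¬ IsIso (g.stalkMap ξ))
    (hmax : ∀ z : X, z ⤳ ξ → z ≠ ξ → IsIso (g.stalkMap z)) :
    ringKrullDim (X.presheaf.stalk ξ) = 1 := by
  have : LocallyOfFinitePresentation g := LocallyOfFinitePresentation.iff_locallyOfFiniteType.mpr ‹_›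
  obtain ⟨W, hW, hWg⟩ := hV
  have hη : IsIso (g.stalkMap (genericPoint X)) :=
    (exists_isOpenImmersion_iff_isIso_stalkMap g _).mp
      ⟨W, ((genericPoint_spec X).mem_open_set_iff W.isOpen).mpr (by simpa using hW), hWg⟩
  refine le_antisymm ?_ ?_
  · by_contra h
    exact hξ (isIso_stalkMap_of_generizations g hY hη ξ hmax (not_le.mp h))
  · by_contra h
    have h0 : ringKrullDim (X.presheaf.stalk ξ) ≤ 0 := Order.le_of_lt_succ (not_le.mp h)
    have : Ring.KrullDimLE 0 (X.presheaf.stalk ξ) := Ring.krullDimLE_iff.mpr h0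
    have hf : IsField (X.presheaf.stalk ξ) := Ring.KrullDimLE.isField_of_isReduced
    refine hξ ?_
    have hξη : ξ = genericPoint X := by
      obtain ⟨p, hp⟩ : genericPoint X ∈ Set.range (X.fromSpecStalk ξ) := by
        rw [Scheme.range_fromSpecStalk]; exact genericPoint_specializes ξ
      have : Subsingleton (PrimeSpectrum (X.presheaf.stalk ξ)) :=
        (PrimeSpectrum.subsingleton_iff_isField_of_isReduced (R := X.presheaf.stalk ξ)).mpr hf
      let p' : PrimeSpectrum (X.presheaf.stalk ξ) := p
      have hp' : p' = IsLocalRing.closedPoint (X.presheaf.stalk ξ) := Subsingleton.elim _ _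
      calc ξ = X.fromSpecStalk ξ (IsLocalRing.closedPoint (X.presheaf.stalk ξ)) :=
            Scheme.fromSpecStalk_closedPoint.symm
        _ = X.fromSpecStalk ξ p' := by rw [hp']
        _ = genericPoint X := hp
    rw [hξη]; exact hη

end Groth.Agent.SchBasics
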