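import Groth.Agent.SchBasics.Reduced

set_option autoImplicit false
universe u
open AlgebraicGeometry CategoryTheory TopologicalSpace Topology

namespace Groth.Agent.SchBasics

variable {X Y Z : Scheme.{u}}

lemma isOpenImmersion_of_isImmersion_of_isOpen_range (g : X ⟶ Y) [IsImmersion g] [IsReduced Y]
    (h : IsOpen (Set.range g)) : IsOpenImmersion g := by
  let V : Y.Opens := ⟨Set.range g, h⟩
  let l : X ⟶ V := IsOpenImmersion.lift V.ι g (by rw [Scheme.Opens.range_ι]; rfl)
  have hl : l ≫ V.ι = g := IsOpenImmersion.lift_fac _ _ _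
  have : IsImmersion l := by
    have : IsImmersion (l ≫ V.ι) := by rw [hl]; infer_instance
    exact IsImmersion.of_comp l V.ι
  have hs : Surjective l := ⟨fun v => by
    obtain ⟨x, hx⟩ := (v.2 : v.1 ∈ Set.range g)
    refine ⟨x, V.ι.isOpenEmbedding.injective ?_⟩
    rw [← Scheme.Hom.comp_apply, hl, hx]; rfl⟩
  have : IsClosedImmersion l := IsClosedImmersion.of_isPreimmersion l
    (by rw [Set.range_eq_univ.mpr l.surjective]; exact isClosed_univ)
  have := isIso_of_isClosedImmersion_of_surjective l
  rw [← hl]; infer_instance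

lemma isOpenImmersion_of_isImmersion_of_isDominant (g : X ⟶ Y) [IsImmersion g] [IsDominant g]
    [IsReduced Y] : IsOpenImmersion g := by
  refine isOpenImmersion_of_isImmersion_of_isOpen_range g ?_
  convert g.isLocallyClosed_range.isOpen_coborder.inter (isOpen_univ : IsOpen (Set.univ : Set Y)) using 1
  rw [← g.denseRange.closure_range]
  exact (coborder_inter_closure (s := Set.range g)).symm

/-- Two immersions of reduced schemes with the same image are isomorphic. -/
lemma exists_iso_of_range_eq {W : Scheme.{u}} (i : X ⟶ Z) (i' : W ⟶ Z) [IsImmersion i] [IsImmersion i']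
    [IsReduced X] [IsReduced W] (h : Set.range i = Set.range i') :
    ∃ e : X ≅ W, e.hom ≫ i' = i := by
  have hO : IsOpen (coborder (Set.range i)) := i.isLocallyClosed_range.isOpen_coborder
  let U : Z.Opens := ⟨coborder (Set.range i), hO⟩
  have key : ∀ (A : Scheme.{u}) (a : A ⟶ Z) [IsImmersion a], Set.range a = Set.range i →
      ∃ l : A ⟶ U, l ≫ U.ι = a ∧ IsClosedImmersion l ∧ Set.range l = U.ι ⁻¹' Set.range i := by
    intro A a _ ha
    let l : A ⟶ U := IsOpenImmersion.lift U.ι a (by
      rw [Scheme.Opens.range_ι, ha]; exact subset_coborder)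
    have hl : l ≫ U.ι = a := IsOpenImmersion.lift_fac _ _ _
    have : IsImmersion l := by
      have : IsImmersion (l ≫ U.ι) := by rw [hl]; infer_instance
      exact IsImmersion.of_comp l U.ι
    have hr : Set.range l = U.ι ⁻¹' Set.range i := by
      rw [← ha, ← hl, Scheme.Hom.comp_base, TopCat.coe_comp, Set.range_comp,
        U.ι.isOpenEmbedding.injective.preimage_image]
    have hc : IsClosed (Set.range l) := by
      rw [hr]
      exact (isClosed_preimage_val_coborder : IsClosed (Subtype.val ⁻¹' Set.range i : Set (coborder (Set.range i))))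
    exact ⟨l, hl, IsClosedImmersion.of_isPreimmersion l hc, hr⟩
  obtain ⟨l, hl, _, hr⟩ := key X i rfl
  obtain ⟨l', hl', _, hr'⟩ := key W i' h.symm
  have hker : l'.ker = l.ker := by
    rw [ker_of_isReduced_of_isClosedImmersion l, ker_of_isReduced_of_isClosedImmersion l']
    congr 1; ext1; exact hr'.trans hr.symm
  have := IsClosedImmersion.isIso_lift l' l hker
  refine ⟨asIso (IsClosedImmersion.lift l' l hker.le), ?_⟩
  rw [asIso_hom, ← hl', ← Category.assoc, IsClosedImmersion.lift_fac, hl]

end Groth.Agent.SchBasics
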