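import Groth.Agent.SchBasics.SectionSmooth
import Groth.Agent.PPH.QRLocal
import Mathlib.AlgebraicGeometry.Morphisms.Smooth
import Mathlib.AlgebraicGeometry.Morphisms.Separated

/-!
A section is a quasi-regular immersion near a point exactly when the morphism is smooth there.
-/

set_option autoImplicit false
set_option linter.style.haveILetI false
set_option backward.isDefEq.respectTransparency.types false

universe u

open CategoryTheory AlgebraicGeometry TopologicalSpace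

namespace Groth.Agent.SchBasics

/-- The kernel of the sections map over a principal open is the localized kernel. -/
theorem ker_app_basicOpen {Z X : Scheme.{u}} (i : Z ⟶ X) {U : X.Opens} (hU : IsAffineOpen U)
    (hP : IsAffineOpen (i ⁻¹ᵁ U)) (b : Γ(X, U)) :
    RingHom.ker (i.app (X.basicOpen b)).hom =
      (RingHom.ker (i.app U).hom).map (X.presheaf.map (homOfLE (X.basicOpen_le b)).op).hom := by
  have hsq : ∀ z, (i.app (X.basicOpen b)) (X.presheaf.map (homOfLE (X.basicOpen_le b)).op z) =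
      Z.presheaf.map (homOfLE (i.preimage_mono (X.basicOpen_le b))).op (i.app U z) := fun z =>
    congr($(i.naturality (homOfLE (X.basicOpen_le b)).op) z)
  refine le_antisymm (fun x hx => ?_) (Ideal.map_le_iff_le_comap.2 fun a ha => ?_)
  · let _ := (X.presheaf.map (homOfLE (X.basicOpen_le b)).op).hom.toAlgebra
    have : IsLocalization.Away b Γ(X, X.basicOpen b) := hU.isLocalization_basicOpen b
    obtain ⟨k, z, hz⟩ := IsLocalization.Away.surj b x
    let _ := (Z.presheaf.map (homOfLE (Z.basicOpen_le (i.app U b))).op).hom.toAlgebra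
    have : IsLocalization.Away (i.app U b) Γ(Z, Z.basicOpen (i.app U b)) :=
      hP.isLocalization_basicOpen _
    have hle : Z.basicOpen (i.app U b) ≤ i ⁻¹ᵁ X.basicOpen b := (i.preimage_basicOpen b).ge
    have h0 : algebraMap Γ(Z, i ⁻¹ᵁ U) Γ(Z, Z.basicOpen (i.app U b)) (i.app U z) = 0 := by
      have h1 := hsq z
      rw [show (X.presheaf.map (homOfLE (X.basicOpen_le b)).op) z = x * _ from hz.symm, map_mul,
        show (i.app (X.basicOpen b)) x = 0 from hx, zero_mul] at h1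
      have h2 := congrArg (Z.presheaf.map (homOfLE hle).op) h1.symm
      rw [map_zero, ← ConcreteCategory.comp_apply, ← Functor.map_comp, ← op_comp] at h2
      exact h2
    obtain ⟨⟨_, N, rfl⟩, hN⟩ := (IsLocalization.map_eq_zero_iff (Submonoid.powers (i.app U b)) _ _).1 h0
    have hker : b ^ N * z ∈ RingHom.ker (i.app U).hom := by
      show (i.app U) (b ^ N * z) = 0
      rw [map_mul, map_pow]; exact hN
    have h3 := Ideal.mem_map_of_mem (algebraMap Γ(X, U) Γ(X, X.basicOpen b)) hker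
    rw [map_mul, ← hz, map_pow] at h3
    have hu := IsLocalization.Away.algebraMap_isUnit (S := Γ(X, X.basicOpen b)) b
    rw [Ideal.unit_mul_mem_iff_mem _ (hu.pow N), Ideal.mul_unit_mem_iff_mem _ (hu.pow k)] at h3
    exact h3
  · show (i.app (X.basicOpen b)) _ = 0
    rw [hsq, show (i.app U) a = 0 from ha, map_zero]

variable {X S : Scheme.{u}} (f : X ⟶ S) (u : S ⟶ X)

theorem preimage_eq_of_section (hu : u ≫ f = 𝟙 S) {W : S.Opens} {U : X.Opens} (e : U ≤ f ⁻¹ᵁ W)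
    (e' : W ≤ u ⁻¹ᵁ U) : u ⁻¹ᵁ U = W := by
  refine le_antisymm (fun t ht => ?_) e'
  have h : f (u t) ∈ W := e ht
  rwa [← Scheme.Hom.comp_apply, hu] at h

/-- The retraction of rings attached to a section over affine opens. -/
noncomputable def sectionRetr (hu : u ≫ f = 𝟙 S) {W : S.Opens} {U : X.Opens} (e : U ≤ f ⁻¹ᵁ W)
    (e' : W ≤ u ⁻¹ᵁ U) :
    letI := (f.appLE W U e).hom.toAlgebra
    Γ(X, U) →ₐ[Γ(S, W)] Γ(S, W) :=
  letI := (f.appLE W U e).hom.toAlgebra
  { (u.appLE U W e').hom with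
    commutes' := fun r => by
      have h : f.appLE W U e ≫ u.appLE U W e' = 𝟙 _ := by
        rw [Scheme.Hom.appLE_comp_appLE]
        have : ∀ (g : S ⟶ S) (h : W ≤ g ⁻¹ᵁ W), g = 𝟙 S → g.appLE W W h = 𝟙 _ := by
          rintro g h rfl
          simp [Scheme.Hom.appLE]
          exact (Category.id_comp _).trans ((congrArg S.presheaf.map (Subsingleton.elim _ (𝟙 _))).trans
            (S.presheaf.map_id _))
        exact this _ _ hu
      exact congr($h r) }

theorem isClosedImmersion_restrict (hu : u ≫ f = 𝟙 S) {W : S.Opens} (hW : IsAffineOpen W) {U : X.Opens}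
    (hU : IsAffineOpen U) (e : U ≤ f ⁻¹ᵁ W) (e' : W ≤ u ⁻¹ᵁ U) :
    IsClosedImmersion (u.resLE U W e') := by
  have : IsAffine U.toScheme := hU
  have : IsAffine W.toScheme := hW
  have h : u.resLE U W e' ≫ f.resLE W U e = 𝟙 _ := by
    rw [Scheme.Hom.resLE_comp_resLE, ← cancel_mono W.ι, Scheme.Hom.resLE_comp_ι, hu]
    simp
  have : IsClosedImmersion (u.resLE U W e' ≫ f.resLE W U e) := by rw [h]; infer_instance
  exact IsClosedImmersion.of_comp _ (f.resLE W U e)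

theorem ker_app_comp_ι (hu : u ≫ f = 𝟙 S) {W : S.Opens} {U : X.Opens} (e : U ≤ f ⁻¹ᵁ W)
    (e' : W ≤ u ⁻¹ᵁ U) {V : S.Opens} (hV : W ≤ V) :
    RingHom.ker ((V.ι ≫ u).app U).hom = RingHom.ker (u.appLE U W e').hom := by
  have hpre := preimage_eq_of_section f u hu e e'
  have h1 : RingHom.ker (u.app U).hom = RingHom.ker (u.appLE U W e').hom := by
    rw [Scheme.Hom.appLE, CommRingCat.hom_comp, RingHom.ker_comp_of_injective]
    subst hpre
    rw [Subsingleton.elim (homOfLE e') (𝟙 _), op_id, CategoryTheory.Functor.map_id]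
    exact fun _ _ h => h
  rw [← h1, Scheme.Hom.comp_app]
  show RingHom.ker ((V.ι.app (u ⁻¹ᵁ U)).hom.comp (u.app U).hom) = _
  rw [RingHom.ker_comp_of_injective]
  rw [Scheme.Opens.ι_app]
  suffices ∀ (O : S.Opens) (h : O ≤ u ⁻¹ᵁ U), O = u ⁻¹ᵁ U →
      Function.Injective (S.presheaf.map (homOfLE h).op).hom from this _ _ (by
    rw [Scheme.Hom.image_preimage_eq_opensRange_inf, Scheme.Opens.opensRange_ι, hpre]
    exact inf_eq_right.2 hV)
  rintro O h rfl
  rw [Subsingleton.elim (homOfLE h) (𝟙 _), op_id, CategoryTheory.Functor.map_id]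
  exact fun _ _ h => h

theorem exists_chart_of_standardSmooth (hu : u ≫ f = 𝟙 S) {W : S.Opens} (hW : IsAffineOpen W) {U : X.Opens}
    (hU : IsAffineOpen U) (e : U ≤ f ⁻¹ᵁ W) (e' : W ≤ u ⁻¹ᵁ U)
    (h : (f.appLE W U e).hom.IsStandardSmooth) :
    ∃ (U' : X.affineOpens) (_ : U'.1 ≤ f ⁻¹ᵁ W) (_ : W ≤ u ⁻¹ᵁ U'.1),
      ∃ rs : List Γ(X, U'.1), RegImm.Kind.quasi.Seq Γ(X, U'.1) rs ∧
        RingHom.ker ((W.ι ≫ u).app U'.1).hom = Ideal.ofList rs := by
  algebraize [(f.appLE W U e).hom]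
  obtain ⟨g, hg, hloc⟩ := exists_quasiRegular_of_isStandardSmooth (sectionRetr f u hu e e')
  let _ := (X.presheaf.map (homOfLE (X.basicOpen_le g)).op).hom.toAlgebra
  have : IsLocalization.Away g Γ(X, X.basicOpen g) := hU.isLocalization_basicOpen g
  obtain ⟨n, fs, hqr, hspan⟩ := hloc Γ(X, X.basicOpen g)
  have e'' : W ≤ u ⁻¹ᵁ X.basicOpen g := by
    rw [Scheme.preimage_basicOpen]
    intro x hx
    have hh : x ∈ S.basicOpen ((u.appLE U W e') g) := by
      rw [show (u.appLE U W e') g = 1 from hg, S.basicOpen_of_isUnit isUnit_one]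
      exact hx
    rw [Scheme.Hom.appLE, ConcreteCategory.comp_apply, S.basicOpen_res] at hh
    exact hh.2
  have eU : X.basicOpen g ≤ f ⁻¹ᵁ W := (X.basicOpen_le g).trans e
  refine ⟨⟨X.basicOpen g, hU.basicOpen g⟩, eU, e'', List.ofFn fs, ?_, ?_⟩
  · show CAlgX.IsQuasiRegular (List.ofFn fs).get
    have hget : ∀ i, (List.ofFn fs).get i = fs (Fin.cast List.length_ofFn i) := fun i => by simp; rfl
    rw [funext hget]
    generalize List.length_ofFn (f := fs) = h'
    revert h'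
    generalize (List.ofFn fs).length = l
    rintro rfl
    exact hqr
  · have h1 := ker_app_comp_ι f u hu e e' (le_refl W)
    have h2 := ker_app_basicOpen (W.ι ≫ u) hU (by
      rw [Scheme.Hom.comp_preimage, preimage_eq_of_section f u hu e e', Scheme.Opens.ι_preimage_self]
      have : IsAffine W.toScheme := hW
      exact isAffineOpen_top W.toScheme) g
    rw [h2, h1]
    refine Eq.trans ?_ (hspan.symm.trans ?_)
    · rfl
    · show Ideal.span _ = Ideal.span _
      congr 1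
      ext y
      simp [List.mem_ofFn']

theorem regImm_of_standardSmooth (hu : u ≫ f = 𝟙 S) {W : S.Opens} (hW : IsAffineOpen W) {U : X.Opens}
    (hU : IsAffineOpen U) (e : U ≤ f ⁻¹ᵁ W) (e' : W ≤ u ⁻¹ᵁ U)
    (h : (f.appLE W U e).hom.IsStandardSmooth) :
    RegImm.IsRegularImmersion RegImm.Kind.quasi (W.ι ≫ u) := by
  obtain ⟨⟨U', hU'⟩, eU, e'', rs, hq, hker⟩ := exists_chart_of_standardSmooth f u hu hW hU e e' h
  have hci := isClosedImmersion_restrict f u hu hW hU' eU e''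
  have hfac : W.ι ≫ u = u.resLE U' W e'' ≫ U'.ι := (Scheme.Hom.resLE_comp_ι u e'').symm
  refine ⟨by rw [hfac]; infer_instance, fun z => ⟨⟨U', hU'⟩, e'' z.2, ?_, rs, hq, hker⟩⟩
  have hpre := preimage_eq_of_section f u hu eU e''
  have htop : (W.ι ≫ u) ⁻¹ᵁ U' = ⊤ := by
    rw [Scheme.Hom.comp_preimage, hpre, Scheme.Opens.ι_preimage_self]
  have hm : (W.ι ≫ u) ∣_ U' = ((W.ι ≫ u) ⁻¹ᵁ U').ι ≫ u.resLE U' W e'' := by
    rw [← cancel_mono U'.ι, morphismRestrict_ι, Category.assoc, Scheme.Hom.resLE_comp_ι]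
  rw [hm]
  have : IsIso ((W.ι ≫ u) ⁻¹ᵁ U').ι := by
    rw [htop]
    exact (Scheme.topIso W.toScheme).isIso_hom
  infer_instance

theorem regImmAt_of_standardSmooth (hu : u ≫ f = 𝟙 S) {W : S.Opens} (hW : IsAffineOpen W) {U : X.Opens}
    (hU : IsAffineOpen U) (e : U ≤ f ⁻¹ᵁ W) (e' : W ≤ u ⁻¹ᵁ U)
    (h : (f.appLE W U e).hom.IsStandardSmooth) (s : S) (hs : s ∈ W) :
    RegImm.IsRegularImmersionAt RegImm.Kind.quasi u s := by
  obtain ⟨⟨U', hU'⟩, eU, e'', rs, hq, hker⟩ := exists_chart_of_standardSmooth f u hu hW hU e e' h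
  have hci := isClosedImmersion_restrict f u hu hW hU' eU e''
  refine ⟨⟨U', hU'⟩, e'' hs, ?_, rs, hq, ?_⟩
  · have hpre := preimage_eq_of_section f u hu eU e''
    subst hpre
    rw [Scheme.Hom.resLE_eq_morphismRestrict] at hci
    exact hci
  · refine Eq.trans ?_ hker
    rw [ker_app_comp_ι f u hu eU e'' (le_refl W), Scheme.Hom.appLE, CommRingCat.hom_comp,
      RingHom.ker_comp_of_injective]
    have hpre := preimage_eq_of_section f u hu eU e''
    subst hpre
    rw [Subsingleton.elim (homOfLE e'') (𝟙 _), op_id, CategoryTheory.Functor.map_id]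
    exact fun _ _ h => h

/-- Standard smooth charts restrict to charts over principal opens of the base. -/
theorem isStandardSmooth_restrict_basicOpen {W₁ : S.Opens} (hW₁ : IsAffineOpen W₁) {U₁ : X.Opens}
    (hU₁ : IsAffineOpen U₁) (e : U₁ ≤ f ⁻¹ᵁ W₁) (h : (f.appLE W₁ U₁ e).hom.IsStandardSmooth) (g : Γ(S, W₁)) :
    (f.appLE (S.basicOpen g) (X.basicOpen (f.appLE W₁ U₁ e g))
      (by rw [Scheme.basicOpen_appLE]; exact inf_le_right)).hom.IsStandardSmooth := by
  let _ := (S.presheaf.map (homOfLE (S.basicOpen_le g)).op).hom.toAlgebra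
  let _ := (X.presheaf.map (homOfLE (X.basicOpen_le (f.appLE W₁ U₁ e g))).op).hom.toAlgebra
  have : IsLocalization.Away g Γ(S, S.basicOpen g) := hW₁.isLocalization_basicOpen g
  have : IsLocalization.Away (f.appLE W₁ U₁ e g) Γ(X, X.basicOpen (f.appLE W₁ U₁ e g)) :=
    hU₁.isLocalization_basicOpen _
  have hm : IsLocalization ((Submonoid.powers g).map (f.appLE W₁ U₁ e).hom)
      Γ(X, X.basicOpen (f.appLE W₁ U₁ e g)) := by
    rw [Submonoid.map_powers]; infer_instance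
  convert RingHom.isStandardSmooth_localizationPreserves (f.appLE W₁ U₁ e).hom (Submonoid.powers g)
    Γ(S, S.basicOpen g) Γ(X, X.basicOpen (f.appLE W₁ U₁ e g)) h using 1
  refine IsLocalization.ringHom_ext (Submonoid.powers g) (RingHom.ext fun z => ?_)
  rw [RingHom.comp_apply, RingHom.comp_apply, IsLocalization.map_eq]
  show (S.presheaf.map _ ≫ f.appLE _ _ _) z = (f.appLE _ _ _ ≫ X.presheaf.map _) z
  rw [Scheme.Hom.map_appLE, Scheme.Hom.appLE_map]

theorem exists_chart_at (hu : u ≫ f = 𝟙 S) [LocallyOfFinitePresentation f] (s : S)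
    (hs : u s ∈ f.smoothLocus) :
    ∃ (W : S.Opens) (_ : IsAffineOpen W) (U : X.Opens) (_ : IsAffineOpen U) (e : U ≤ f ⁻¹ᵁ W)
      (_ : W ≤ u ⁻¹ᵁ U), s ∈ W ∧ (f.appLE W U e).hom.IsStandardSmooth := by
  let O := f.smoothLocus
  have : Smooth (O.ι ≫ f) := by
    rw [← Scheme.Hom.smoothLocus_eq_top_iff, ← Scheme.Hom.preimage_smoothLocus_eq,
      Scheme.Opens.ι_preimage_self]
  obtain ⟨W₁, hW₁, V₁, hV₁, hxV, e, hstd⟩ := Smooth.exists_isStandardSmooth (O.ι ≫ f) ⟨u s, hs⟩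
  let U₁ := O.ι ''ᵁ V₁
  have hU₁ : IsAffineOpen U₁ := hV₁.image_of_isOpenImmersion O.ι
  have e₁ : U₁ ≤ f ⁻¹ᵁ W₁ := by
    rintro _ ⟨z, hz, rfl⟩
    exact e hz
  have hstd₁ : (f.appLE W₁ U₁ e₁).hom.IsStandardSmooth := by
    have heq : (O.ι ≫ f).appLE W₁ V₁ e = f.appLE W₁ U₁ e₁ ≫ (O.ι.appIso V₁).hom := by
      rw [Scheme.Hom.appIso_hom', Scheme.Hom.appLE_comp_appLE]
    rw [heq] at hstd
    exact (RingHom.isStandardSmooth_respectsIso.cancel_right_isIso _ _).1 hstd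
  have hsW : s ∈ W₁ := by
    have := e₁ ⟨⟨u s, hs⟩, hxV, rfl⟩
    change f (u s) ∈ W₁ at this
    rwa [← Scheme.Hom.comp_apply, hu] at this
  obtain ⟨g, hgle, hsg⟩ := hW₁.exists_basicOpen_le (V := u ⁻¹ᵁ U₁) ⟨s, ⟨⟨u s, hs⟩, hxV, rfl⟩⟩ hsW
  refine ⟨_, hW₁.basicOpen g, _, hU₁.basicOpen _, _, ?_, hsg,
    isStandardSmooth_restrict_basicOpen f hW₁ hU₁ e₁ hstd₁ g⟩
  intro t ht
  rw [Scheme.Hom.mem_preimage, Scheme.basicOpen_appLE]
  refine ⟨hgle ht, ?_⟩
  show f (u t) ∈ S.basicOpen g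
  rwa [← Scheme.Hom.comp_apply, hu]

theorem exists_regImm_of_mem_smoothLocus [LocallyOfFinitePresentation f] (hu : u ≫ f = 𝟙 S) (s : S)
    (hs : u s ∈ f.smoothLocus) :
    ∃ V : S.Opens, s ∈ V ∧ RegImm.IsRegularImmersion RegImm.Kind.quasi (V.ι ≫ u) := by
  obtain ⟨W, hW, U, hU, e, e', hsW, h⟩ := exists_chart_at f u hu s hs
  exact ⟨W, hsW, regImm_of_standardSmooth f u hu hW hU e e' h⟩

theorem regImmAt_of_mem_smoothLocus [LocallyOfFinitePresentation f] (hu : u ≫ f = 𝟙 S) (s : S)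
    (hs : u s ∈ f.smoothLocus) : RegImm.IsRegularImmersionAt RegImm.Kind.quasi u s := by
  obtain ⟨W, hW, U, hU, e, e', hsW, h⟩ := exists_chart_at f u hu s hs
  exact regImmAt_of_standardSmooth f u hu hW hU e e' h s hsW

theorem mem_smoothLocus_of_regImm [LocallyOfFinitePresentation f] (hu : u ≫ f = 𝟙 S) (s : S)
    {V : S.Opens} (hsV : s ∈ V) (h : RegImm.IsRegularImmersion RegImm.Kind.quasi (V.ι ≫ u)) :
    u s ∈ f.smoothLocus := by
  classical
  obtain ⟨⟨U₀, hU₀⟩, hxU₀, hci, rs, hqr, hker⟩ := h.2 ⟨s, hsV⟩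
  replace hxU₀ : u s ∈ U₀ := hxU₀
  obtain ⟨_, ⟨W₁, hW₁, rfl⟩, hsW₁, hW₁V⟩ :=
    S.isBasis_affineOpens.exists_subset_of_mem_open hsV V.isOpen
  replace hW₁ : IsAffineOpen W₁ := hW₁
  have hfs : f (u s) = s := by rw [← Scheme.Hom.comp_apply, hu]; rfl
  obtain ⟨h₁, hh₁, hxh₁⟩ := hU₀.exists_basicOpen_le (V := f ⁻¹ᵁ W₁)
    ⟨u s, show f (u s) ∈ W₁ from hfs.symm ▸ hsW₁⟩ hxU₀
  obtain ⟨g, hg, hsg⟩ := hW₁.exists_basicOpen_le (V := u ⁻¹ᵁ X.basicOpen h₁) ⟨s, hxh₁⟩ hsW₁
  obtain ⟨b, hb⟩ := hU₀.basicOpen_basicOpen_is_basicOpen h₁ (f.appLE W₁ (X.basicOpen h₁) hh₁ g)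
  let W := S.basicOpen g
  have hbeq : X.basicOpen b = X.basicOpen h₁ ⊓ f ⁻¹ᵁ W := by rw [hb, Scheme.basicOpen_appLE]
  have e : X.basicOpen b ≤ f ⁻¹ᵁ W := hbeq.le.trans inf_le_right
  have e' : W ≤ u ⁻¹ᵁ X.basicOpen b := fun t ht => by
    rw [Scheme.Hom.mem_preimage, hbeq]
    refine ⟨hg ht, ?_⟩
    show f (u t) ∈ W
    rwa [← Scheme.Hom.comp_apply, hu]
  have hWV : W ≤ V := (S.basicOpen_le g).trans hW₁V
  have hP : IsAffineOpen ((V.ι ≫ u) ⁻¹ᵁ U₀) := by
    have : IsAffine U₀.toScheme := hU₀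
    exact isAffine_of_isAffineHom ((V.ι ≫ u) ∣_ U₀)
  algebraize [(f.appLE W (X.basicOpen b) e).hom]
  have : Algebra.FinitePresentation Γ(S, W) Γ(X, X.basicOpen b) :=
    f.finitePresentation_appLE (hW₁.basicOpen g) (hU₀.basicOpen b) e
  let ε := sectionRetr f u hu e e'
  let fs : Fin rs.length → Γ(X, X.basicOpen b) := fun i =>
    (X.presheaf.map (homOfLE (X.basicOpen_le b)).op) (rs.get i)
  let _ := (X.presheaf.map (homOfLE (X.basicOpen_le b)).op).hom.toAlgebra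
  have : IsLocalization.Away b Γ(X, X.basicOpen b) := hU₀.isLocalization_basicOpen b
  have hq : CAlgX.IsQuasiRegular fs :=
    PPH.QR.isQuasiRegular_of_qrs (Submonoid.powers b) Γ(X, X.basicOpen b) fun n F hF he d =>
      ⟨1, one_mem _, by rw [one_mul]; exact hqr n F hF he d⟩
  have hspan : Ideal.span (Set.range fs) = RingHom.ker ε := by
    refine Eq.trans ?_ (ker_app_comp_ι f u hu e e' hWV)
    rw [ker_app_basicOpen _ hU₀ hP b, hker, Ideal.ofList, Ideal.map_span]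
    congr 1
    rw [← Set.range_list_get rs, ← Set.range_comp]
    rfl
  obtain ⟨a, ha, hstd⟩ := exists_isStandardSmooth_of_quasiRegular ε fs hspan hq
  rw [Scheme.Hom.mem_smoothLocus,
    formallySmooth_stalkMap_iff W (hW₁.basicOpen g) _ (hU₀.basicOpen b) e (e' hsg)]
  refine (Algebra.basicOpen_subset_smoothLocus_iff_smooth (f := a)).2 inferInstance ?_
  show (hU₀.basicOpen b).primeIdealOf ⟨u s, e' hsg⟩ ∈ PrimeSpectrum.basicOpen a
  rw [← (hU₀.basicOpen b).fromSpec_preimage_basicOpen a]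
  show (hU₀.basicOpen b).fromSpec ((hU₀.basicOpen b).primeIdealOf ⟨u s, e' hsg⟩) ∈ X.basicOpen a
  rw [IsAffineOpen.fromSpec_primeIdealOf]
  show s ∈ u ⁻¹ᵁ X.basicOpen a
  rw [Scheme.preimage_basicOpen]
  have hh : s ∈ S.basicOpen ((u.appLE (X.basicOpen b) W e') a) := by
    rw [show (u.appLE (X.basicOpen b) W e') a = 1 from ha, S.basicOpen_of_isUnit isUnit_one]
    exact hsg
  rw [Scheme.Hom.appLE, ConcreteCategory.comp_apply, S.basicOpen_res] at hh
  exact hh.2

end Groth.Agent.SchBasics
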