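import Mathlib.AlgebraicGeometry.Morphisms.FinitePresentation
import Mathlib.AlgebraicGeometry.Morphisms.FiniteType

set_option autoImplicit false
universe u
open AlgebraicGeometry CategoryTheory CategoryTheory.Limits

namespace Groth.Agent.SchBasics

variable {X Y Z : Scheme.{u}}

/-- If `f ≫ g` is locally of finite presentation and `g` locally of finite type, then `f` is
locally of finite presentation. -/
lemma locallyOfFinitePresentation_of_comp (f : X ⟶ Y) (g : Y ⟶ Z)
    [LocallyOfFinitePresentation (f ≫ g)] [LocallyOfFiniteType g] :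
    LocallyOfFinitePresentation f := by
  rw [HasRingHomProperty.iff_exists_appLE (P := @LocallyOfFinitePresentation)
    (RingHom.finitePresentation_stableUnderComposition.stableUnderCompositionWithLocalizationAway
      RingHom.finitePresentation_holdsForLocalizationAway).left]
  intro x
  obtain ⟨W, hW, hxW, -⟩ := exists_isAffineOpen_mem_and_subset (U := ⊤)
    (TopologicalSpace.Opens.mem_top (g (f x)))
  obtain ⟨U, hU, hxU, hUW⟩ := exists_isAffineOpen_mem_and_subset (U := g ⁻¹ᵁ W) (x := f x) hxW
  obtain ⟨V, hV, hxV, hVU⟩ := exists_isAffineOpen_mem_and_subset (U := f ⁻¹ᵁ U) (x := x) hxU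
  refine ⟨⟨U, hU⟩, ⟨V, hV⟩, hxV, hVU, ?_⟩
  have e : V ≤ (f ≫ g) ⁻¹ᵁ W := fun y hy => hUW (hVU hy)
  have h1 := HasRingHomProperty.appLE @LocallyOfFinitePresentation (f ≫ g) inferInstance
    ⟨W, hW⟩ ⟨V, hV⟩ e
  rw [← Scheme.Hom.appLE_comp_appLE f g W U V hUW hVU, CommRingCat.hom_comp] at h1
  have h2 := g.finiteType_appLE hW hU hUW
  algebraize [(g.appLE W U hUW).hom, (f.appLE U V hVU).hom,
    (f.appLE U V hVU).hom.comp (g.appLE W U hUW).hom]
  have : IsScalarTower Γ(Z, W) Γ(Y, U) Γ(X, V) := IsScalarTower.of_algebraMap_eq' rfl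
  exact Algebra.FinitePresentation.of_restrict_scalars_finitePresentation Γ(Z, W) Γ(Y, U) Γ(X, V)

lemma locallyOfFinitePresentation_diagonal (f : X ⟶ Y) [LocallyOfFiniteType f] :
    LocallyOfFinitePresentation (pullback.diagonal f) := by
  have : LocallyOfFinitePresentation (pullback.diagonal f ≫ pullback.fst f f) := by
    rw [pullback.diagonal_fst]; infer_instance
  exact locallyOfFinitePresentation_of_comp (pullback.diagonal f) (pullback.fst f f)

end Groth.Agent.SchBasics
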