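import Mathlib.AlgebraicGeometry.Morphisms.Immersion
import Mathlib.AlgebraicGeometry.Morphisms.ClosedImmersion

/-! Immersions are closed immersions of affines near a point, inside a given open. -/

set_option autoImplicit false
set_option backward.isDefEq.respectTransparency.types false

universe u

open CategoryTheory Limits AlgebraicGeometry TopologicalSpace

namespace Groth.Agent.SchBasics

variable {Z X : Scheme.{u}} (i : Z ⟶ X)

/-- an immersion is, locally on both sides, a closed immersion of affines -/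
lemma exists_closed_chart_le [IsImmersion i] {z : Z} (T : X.Opens) (hzT : i z ∈ T) :
    ∃ W : X.Opens, IsAffineOpen W ∧ IsAffineOpen (i ⁻¹ᵁ W) ∧ z ∈ i ⁻¹ᵁ W ∧ W ≤ T ∧
      Function.Surjective (i.app W) := by
  have hzC : i z ∈ i.coborderRange := subset_coborder ⟨z, rfl⟩
  obtain ⟨_, ⟨W, hW, rfl⟩, hzW, hWle⟩ := X.isBasis_affineOpens.exists_subset_of_mem_open
    (show i z ∈ (T : Set X) ∩ (i.coborderRange : Set X) from ⟨hzT, hzC⟩) (T.2.inter i.coborderRange.2)
  have hWC : W ≤ i.coborderRange := fun y hy => (hWle hy).2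
  have himg : i.coborderRange.ι ''ᵁ (i.coborderRange.ι ⁻¹ᵁ W) = W := by
    rw [Scheme.Hom.image_preimage_eq_opensRange_inf, Scheme.Opens.opensRange_ι, inf_eq_right.2 hWC]
  have hpre : i.liftCoborder ⁻¹ᵁ (i.coborderRange.ι ⁻¹ᵁ W) = i ⁻¹ᵁ W := by
    rw [i.liftCoborder_preimage, himg]
  have hW' : IsAffineOpen (i.coborderRange.ι ⁻¹ᵁ W) :=
    (i.coborderRange.ι.isAffineOpen_iff_of_isOpenImmersion).1 (by rwa [himg])
  have hclosed : IsClosedImmersion (i ∣_ W) := by
    have : IsPreimmersion (i ∣_ W) := IsZariskiLocalAtTarget.restrict (inferInstance : IsPreimmersion i) W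
    refine IsClosedImmersion.of_isPreimmersion _ ?_
    rw [show Set.range (i ∣_ W) = (Scheme.Opens.ι W) ⁻¹' Set.range i by
      ext y
      constructor
      · rintro ⟨x, rfl⟩
        exact ⟨(i ⁻¹ᵁ W).ι x, congr($((morphismRestrict_ι i W).symm) x)⟩
      · rintro ⟨x, hx⟩
        refine ⟨⟨x, show i x ∈ W from hx ▸ y.2⟩, (Scheme.Opens.ι W).isOpenEmbedding.injective ?_⟩
        exact (congr($(morphismRestrict_ι i W) ⟨x, _⟩)).trans hx]
    have hlc : IsClosed ((Subtype.val : ↥(i.coborderRange : Set X) → X) ⁻¹' Set.range i) :=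
      isClosed_preimage_val.2 fun y hy => by
        have h1 : y ∈ coborder (Set.range i) ∩ closure (Set.range i) :=
          ⟨hy.1, closure_mono Set.inter_subset_right hy.2⟩
        rwa [coborder_inter_closure] at h1
    refine (hlc.preimage (f := fun y : Scheme.Opens.toScheme W => (⟨(Scheme.Opens.ι W) y, hWC y.2⟩ : (i.coborderRange : Set X)))
      (Continuous.subtype_mk (Scheme.Opens.ι W).continuous _))
  refine ⟨W, hW, hpre ▸ hW'.preimage i.liftCoborder, hzW, fun y hy => (hWle hy).1, ?_⟩
  have : IsAffine (W : Scheme.{u}) := hW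
  have h1 := (i ∣_ W).app_surjective ⊤ (isAffineOpen_top _)
  rw [morphismRestrict_app] at h1
  have h2 : Function.Surjective (i.app ((Scheme.Opens.ι W) ''ᵁ ⊤)) := by
    have := (ConcreteCategory.bijective_of_isIso
      (Z.presheaf.map (eqToHom (image_morphismRestrict_preimage i W ⊤)).op)).1
    intro y
    obtain ⟨x, hx⟩ := h1 _
    exact ⟨x, this hx⟩
  rwa [Scheme.Opens.ι_image_top] at h2

end Groth.Agent.SchBasics
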