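import Groth.Agent.Var76.OmegaUniv
import Groth.Agent.EGA73.QCohCrit

/-!
Universal derivations restrict to open subschemes, so a sheaf of differentials of any morphism is
quasi-coherent and is computed on affine charts by Kähler differentials.
-/

universe u

open CategoryTheory CategoryTheory.Limits AlgebraicGeometry TopologicalSpace Opposite

set_option backward.isDefEq.respectTransparency false

noncomputable section

namespace Groth.Agent.SchBasics

open Groth.Agent

variable {X Y : Scheme.{u}} {f : X ⟶ Y} (U : X.Opens)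

theorem restrict_ι_smul {F : X.Modules} (W : (U : Scheme).Opens) (r : Γ(U, W)) (m : Γ(F.restrict U.ι, W)) :
    (F.restrictAppIso U.ι W).hom (r • m) =
      (show Γ(X, U.ι ''ᵁ W) from r) • (F.restrictAppIso U.ι W).hom m := by
  rw [Scheme.Modules.smul_restrictAppIso_hom_apply, Scheme.Opens.ι_appIso]
  rfl

/-- A derivation restricted to an open subscheme. -/
def restrictDer {F : X.Modules} (D : OmegaSh.Der f F) : OmegaSh.Der (U.ι ≫ f) (F.restrict U.ι) where
  d {W} := AddMonoidHom.mk' (fun a => D.app (U.ι ''ᵁ W.unop) a) fun a b => map_add _ a b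
  d_mul {W} a b := by
    refine (Var76.OmegaUniv.Der.map_mul D (U.ι ''ᵁ W.unop) a b).trans ?_
    exact (congrArg₂ (· + ·) (restrict_ι_smul U W.unop a (D.app (U.ι ''ᵁ W.unop) b))
      (restrict_ι_smul U W.unop b (D.app (U.ι ''ᵁ W.unop) a))).symm
  d_map {W W'} i a :=
    Var76.OmegaUniv.Der.res D (leOfHom (U.ι.opensFunctor.map i.unop)) a
  d_app {V} c := by
    show D.app (U.ι ''ᵁ ((U.ι ≫ f) ⁻¹ᵁ V.unop)) ((U.ι ≫ f).app V.unop c) = 0
    rw [Scheme.Hom.comp_app, ConcreteCategory.comp_apply, Scheme.Opens.ι_app]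
    exact (Var76.OmegaUniv.Der.res D (U.ι.image_preimage_le (f ⁻¹ᵁ V.unop)) (f.app V.unop c)).trans
      ((congrArg _ (D.d_app (X := V) c)).trans (map_zero _))

theorem restrictDer_app {F : X.Modules} (D : OmegaSh.Der f F) (W : (U : Scheme).Opens) (a : Γ(U, W)) :
    (restrictDer U D).app W a = D.app (U.ι ''ᵁ W) a := rfl

variable {U}

/-- A derivation of an open subscheme as a derivation with values in the pushforward. -/
def pushDer {F : (U : Scheme).Modules} (D : OmegaSh.Der (U.ι ≫ f) F) :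
    OmegaSh.Der f ((Scheme.Modules.pushforward U.ι).obj F) where
  d {W} := AddMonoidHom.mk' (fun a => D.app (U.ι ⁻¹ᵁ W.unop) (U.ι.app W.unop a)) fun a b => by
    rw [map_add, map_add]
  d_mul {W} a b := by
    show D.app _ (U.ι.app W.unop (a * b)) = _
    rw [map_mul, Var76.OmegaUniv.Der.map_mul]
    rfl
  d_map {W W'} g a := by
    show D.app _ (U.ι.app W'.unop (X.presheaf.map g a)) = _
    have hn : U.ι.app W'.unop (X.presheaf.map g a) =
        (U : Scheme).presheaf.map (homOfLE ((Opens.map U.ι.base).map g.unop).le).op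
          (U.ι.app W.unop a) :=
      congr($(Scheme.Hom.naturality U.ι g) a)
    rw [hn]
    exact Var76.OmegaUniv.Der.res D ((Opens.map U.ι.base).map g.unop).le (U.ι.app W.unop a)
  d_app {V} c := by
    show D.app _ (U.ι.app (f ⁻¹ᵁ V.unop) (f.app V.unop c)) = 0
    rw [← ConcreteCategory.comp_apply, ← Scheme.Hom.comp_app U.ι f V.unop]
    exact D.d_app (X := V) c

theorem pushDer_app {F : (U : Scheme).Modules} (D : OmegaSh.Der (U.ι ≫ f) F) (W : X.Opens) (a : Γ(X, W)) :
    (pushDer D).app W a = D.app (U.ι ⁻¹ᵁ W) (U.ι.app W a) := rfl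

variable (U)

/-- A universal derivation restricts to a universal derivation. -/
theorem isUniversal_restrictDer {Ω : X.Modules} {d : OmegaSh.Der f Ω} (hd : OmegaSh.IsUniversal d) :
    OmegaSh.IsUniversal (restrictDer U d) := by
  intro F E
  let adj := Scheme.Modules.restrictAdjunction U.ι
  obtain ⟨α, hα, huniq⟩ := hd _ (pushDer E)
  have hαv : ∀ W a, α.app W (d.app W a) = E.app (U.ι ⁻¹ᵁ W) (U.ι.app W a) := fun W a =>
    congrArg (fun D : OmegaSh.Der f _ => D.app W a) hα
  refine ⟨(adj.homEquiv Ω F).symm α, ?_, ?_⟩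
  · refine PresheafOfModules.Derivation.ext (funext fun W => AddMonoidHom.ext fun a => ?_)
    show ((adj.homEquiv Ω F).symm α).app W.unop (d.app (U.ι ''ᵁ W.unop) a) = E.app W.unop a
    rw [Adjunction.homEquiv_counit, Scheme.Modules.Hom.comp_app, ConcreteCategory.comp_apply]
    refine (congrArg _ (hαv (U.ι ''ᵁ W.unop) a)).trans ?_
    rw [Scheme.Modules.restrictAdjunction_counit_app_app]
    refine (Var76.OmegaUniv.Der.res E (U.ι.preimage_image_eq W.unop).ge _).symm.trans ?_
    congr 1
    show (U : Scheme).presheaf.map (homOfLE (U.ι.preimage_image_eq W.unop).ge).op (U.ι.app _ a) = a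
    rw [Scheme.Opens.ι_app]
    show X.presheaf.map _ (X.presheaf.map _ a) = a
    rw [← ConcreteCategory.comp_apply, ← Functor.map_comp]
    exact congr($(X.presheaf.map_id (op (U.ι ''ᵁ W.unop))) a)
  · intro β hβ
    have hβv : ∀ W a, β.app W (d.app (U.ι ''ᵁ W) a) = E.app W a := fun W a =>
      congrArg (fun D : OmegaSh.Der (U.ι ≫ f) F => D.app W a) hβ
    rw [Equiv.eq_symm_apply]
    refine huniq _ (PresheafOfModules.Derivation.ext (funext fun W => AddMonoidHom.ext fun s => ?_))
    show (adj.homEquiv Ω F β).app W.unop (d.app W.unop s) = E.app _ (U.ι.app W.unop s)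
    rw [Adjunction.homEquiv_unit, Scheme.Modules.Hom.comp_app, ConcreteCategory.comp_apply,
      Scheme.Modules.restrictAdjunction_unit_app_app]
    refine Eq.trans ?_ (hβv (U.ι ⁻¹ᵁ W.unop) _)
    show β.app _ (Ω.presheaf.map _ (d.app W.unop s)) = β.app _ (d.app _ (U.ι.app W.unop s))
    rw [Scheme.Opens.ι_app]
    exact congrArg _ (Var76.OmegaUniv.Der.res d (U.ι.image_preimage_le W.unop) s).symm

theorem quasiSeparated_ι_comp (hU : IsAffineOpen U) (f : X ⟶ Y) : QuasiSeparated (U.ι ≫ f) := by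
  haveI : IsAffine U := hU
  exact .of_comp _ (terminal.from Y)

variable {U} {Ω : X.Modules} {d : OmegaSh.Der f Ω}

/-- Sheaves of differentials are quasi-coherent. -/
theorem isQuasicoherent_of_isUniversal (hd : OmegaSh.IsUniversal d) : Ω.IsQuasicoherent := by
  refine EGA73.isQuasicoherent_of_affine_cover Ω (fun x : X.affineOpens => x.1) (fun x => x.2)
    (iSup_affineOpens_eq_top X) fun x => ?_
  haveI := quasiSeparated_ι_comp x.1 x.2 f
  obtain ⟨e, -⟩ := Var76.OmegaUniv.exists_iso (x.1.ι ≫ f) _ (isUniversal_restrictDer x.1 hd)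
  haveI : (Omega.sheaf (x.1.ι ≫ f)).IsQuasicoherent := Omega57.isQuasicoherent_omega _
  haveI : (Ω.restrict x.1.ι).IsQuasicoherent :=
    (SheafOfModules.isQuasicoherent (R := x.1.toScheme.ringCatSheaf)).prop_of_iso e inferInstance
  exact (SheafOfModules.isQuasicoherent (R := (Spec Γ(X, x.1)).ringCatSheaf)).prop_of_iso
    (((Scheme.Modules.restrictFunctorComp x.2.isoSpec.inv x.1.ι).app Ω).symm ≪≫
      (Scheme.Modules.restrictFunctorCongr (show x.2.isoSpec.inv ≫ x.1.ι = x.2.fromSpec from rfl)).app Ω)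
    (Scheme.Modules.isQuasicoherent_restrictFunctor x.2.isoSpec.inv (Ω.restrict x.1.ι))

/-- The comparison map from Kähler differentials to sections of a sheaf of differentials. -/
def chartHom (D : OmegaSh.Der f Ω) (V : Y.Opens) (U : X.Opens) (h : U ≤ f ⁻¹ᵁ V) :
    CommRingCat.KaehlerDifferential (f.appLE V U h) ⟶ OmAff.sectMod Ω U :=
  (ModuleCat.Derivation.mk (M := OmAff.sectMod Ω U) (f := f.appLE V U h) (fun b => D.app U b)
    (fun a b => map_add _ a b) (fun a b => Var76.OmegaUniv.Der.map_mul D U a b)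
    (fun c => Var76.OmegaUniv.Der.appLE D h c)).desc

theorem chartHom_d (D : OmegaSh.Der f Ω) (V : Y.Opens) (U : X.Opens) (h : U ≤ f ⁻¹ᵁ V) (b : Γ(X, U)) :
    chartHom D V U h (CommRingCat.KaehlerDifferential.d b) = D.app U b :=
  ModuleCat.Derivation.desc_d _ b

/-- The derivation on sections over an open, relative to any equal map of rings. -/
def derOf (D : OmegaSh.Der f Ω) {W : X.Opens} {A : CommRingCat.{u}} (φ : A ⟶ Γ(X, W))
    (hφ : ∀ c, D.app W (φ c) = 0) : (OmAff.sectMod Ω W).Derivation φ :=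
  ModuleCat.Derivation.mk (M := OmAff.sectMod Ω W) (f := φ) (fun b => D.app W b)
    (fun a b => map_add _ a b) (fun a b => Var76.OmegaUniv.Der.map_mul D W a b) hφ

/-- On an affine chart a sheaf of differentials is the module of Kähler differentials. -/
theorem isIso_chartHom (hd : OmegaSh.IsUniversal d) (hU : IsAffineOpen U) {V : Y.Opens}
    (hV : IsAffineOpen V) (h : U ≤ f ⁻¹ᵁ V) : IsIso (chartHom d V U h) := by
  haveI := quasiSeparated_ι_comp U hU f
  obtain ⟨e, he⟩ := Var76.OmegaUniv.exists_iso (U.ι ≫ f) _ (isUniversal_restrictDer U hd)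
  set U' : (U : Scheme).Opens := U.ι ⁻¹ᵁ U
  have hU' : IsAffineOpen U' := hU.preimage_of_isOpenImmersion U.ι (by simp)
  have hI : U.ι ''ᵁ U' = U := by simp [U']
  have e' : U' ≤ (U.ι ≫ f) ⁻¹ᵁ V := fun y hy => h hy
  haveI := Omega57.isIso_toSect (U.ι ≫ f) hU' hV e'
  let δ := derOf d (W := U.ι ''ᵁ U') ((U.ι ≫ f).appLE V U' e') fun c =>
    Var76.OmegaUniv.Der.appLE (restrictDer U d) e' c
  have h0 : IsIso δ.desc := by
    rw [ConcreteCategory.isIso_iff_bijective]
    have hval : ∀ z, δ.desc z = (Ω.restrictAppIso U.ι U').hom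
        (e.hom.app U' (OmAff.toSect (U.ι ≫ f) V U' e' z)) := by
      intro z
      letI := ((U.ι ≫ f).appLE V U' e').hom.toAlgebra
      have hz : z ∈ Submodule.span Γ(U, U') (Set.range (KaehlerDifferential.D Γ(Y, V) Γ(U, U'))) := by
        rw [KaehlerDifferential.span_range_derivation]; trivial
      induction hz using Submodule.span_induction with
      | mem y hy =>
        obtain ⟨b, rfl⟩ := hy
        refine (ModuleCat.Derivation.desc_d δ b).trans ?_
        refine Eq.trans ?_ (congrArg (fun t => (Ω.restrictAppIso U.ι U').hom (e.hom.app U' t))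
          (OmAff.toSect_d (U.ι ≫ f) V U' e' b)).symm
        exact (congrArg (fun D : OmegaSh.Der (U.ι ≫ f) _ => D.app U' b) he).symm
      | zero =>
        refine (map_zero δ.desc.hom).trans ?_
        rw [map_zero, map_zero, map_zero]
      | add y z _ _ hy hz =>
        refine (map_add δ.desc.hom y z).trans ?_
        rw [map_add, map_add, map_add]
        exact congrArg₂ (· + ·) hy hz
      | smul a y _ hy =>
        refine (δ.desc.hom.map_smul a y).trans ?_
        refine Eq.trans ?_ (congrArg (fun t => (Ω.restrictAppIso U.ι U').hom (e.hom.app U' t))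
          ((OmAff.toSect (U.ι ≫ f) V U' e').hom.map_smul a y)).symm
        refine Eq.trans ?_ (congrArg (Ω.restrictAppIso U.ι U').hom
          (Scheme.Modules.Hom.app_smul e.hom a _)).symm
        refine Eq.trans ?_ (restrict_ι_smul U U' a _).symm
        exact congrArg _ hy
    have hb := (ConcreteCategory.bijective_of_isIso (Ω.restrictAppIso U.ι U').hom).comp
      ((ConcreteCategory.bijective_of_isIso (e.hom.app U')).comp
        (ConcreteCategory.bijective_of_isIso (OmAff.toSect (U.ι ≫ f) V U' e')))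
    exact (funext hval : _ = _) ▸ hb
  have hle : U.ι ''ᵁ U' ≤ f ⁻¹ᵁ V := hI.le.trans h
  have hφ : (U.ι ≫ f).appLE V U' e' = f.appLE V (U.ι ''ᵁ U') hle := by
    rw [Scheme.Hom.comp_appLE, Scheme.Opens.ι_appLE, Scheme.Hom.appLE]
  have h1 : IsIso (chartHom d V (U.ι ''ᵁ U') hle) := by
    have key : ∀ (φ : Γ(Y, V) ⟶ Γ(X, U.ι ''ᵁ U')) (hz : ∀ c, d.app (U.ι ''ᵁ U') (φ c) = 0),
        φ = f.appLE V (U.ι ''ᵁ U') hle → IsIso (derOf d φ hz).desc →
        IsIso (chartHom d V (U.ι ''ᵁ U') hle) := by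
      rintro φ hz rfl hh
      exact hh
    exact key _ _ hφ h0
  have key : ∀ (W : X.Opens) (hW : W ≤ f ⁻¹ᵁ V), W = U → IsIso (chartHom d V W hW) →
      IsIso (chartHom d V U h) := by
    rintro W hW rfl hh
    exact hh
  exact key _ hle hI h1

/-- Sections of a sheaf of differentials over an affine chart. -/
theorem exists_chartEquiv (hd : OmegaSh.IsUniversal d) (hU : IsAffineOpen U) {V : Y.Opens}
    (hV : IsAffineOpen V) (h : U ≤ f ⁻¹ᵁ V) :
    letI := (f.appLE V U h).hom.toAlgebra
    ∃ e : Ω[Γ(X, U)⁄Γ(Y, V)] ≃ₗ[Γ(X, U)] Γ(Ω, U),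
      ∀ a, e (KaehlerDifferential.D Γ(Y, V) Γ(X, U) a) = d.app U a := by
  have := isIso_chartHom hd hU hV h
  exact ⟨(asIso (chartHom d V U h)).toLinearEquiv, fun a => chartHom_d d V U h a⟩

end Groth.Agent.SchBasics
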