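import Groth.Agent.SchBasics.StageLocal
import Groth.Agent.S4994

/-!
Differential smoothness descends along cofiltered limits.
-/

set_option autoImplicit false
set_option backward.isDefEq.respectTransparency.types false

universe u

open CategoryTheory CategoryTheory.Limits AlgebraicGeometry TopologicalSpace

namespace Groth.Agent.SchBasics

instance lfp_pullback_snd {X Y S : Scheme.{u}} (g : X ⟶ S) (b : Y ⟶ S) [LocallyOfFinitePresentation g] :
    LocallyOfFinitePresentation (pullback.snd g b) :=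
  MorphismProperty.pullback_snd (P := @LocallyOfFinitePresentation) g b ‹_›

theorem mem_smoothLocus_of_smooth_restrict {X Y : Scheme.{u}} (f : X ⟶ Y) [LocallyOfFinitePresentation f]
    (V : X.Opens) {z : X} (hz : z ∈ V) [Smooth (V.ι ≫ f)] : z ∈ f.smoothLocus := by
  have h : (⟨z, hz⟩ : V) ∈ (V.ι ⁻¹ᵁ f.smoothLocus) := by
    rw [Scheme.Hom.preimage_smoothLocus_eq, Scheme.Hom.smoothLocus_eq_top]
    trivial
  exact h

theorem smooth_smoothLocus_ι {X Y : Scheme.{u}} (f : X ⟶ Y) [LocallyOfFinitePresentation f] :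
    Smooth (f.smoothLocus.ι ≫ f) := by
  rw [← Scheme.Hom.smoothLocus_eq_top_iff, ← Scheme.Hom.preimage_smoothLocus_eq,
    Scheme.Opens.ι_preimage_self]

theorem mem_smoothLocus_of_isPullback {X' X Y' Y : Scheme.{u}} {pX : X' ⟶ X} {f' : X' ⟶ Y'} {f : X ⟶ Y}
    {pY : Y' ⟶ Y} (h : IsPullback pX f' f pY) [LocallyOfFinitePresentation f]
    [LocallyOfFinitePresentation f'] {z : X'} (hz : pX z ∈ f.smoothLocus) : z ∈ f'.smoothLocus := by
  have := smooth_smoothLocus_ι f
  have : Smooth ((pX ⁻¹ᵁ f.smoothLocus).ι ≫ f') :=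
    MorphismProperty.of_isPullback (isPullback_restrict h f.smoothLocus) ‹_›
  exact mem_smoothLocus_of_smooth_restrict f' _ (show z ∈ pX ⁻¹ᵁ f.smoothLocus from hz)

theorem isPullback_selfProduct {X' X S' S : Scheme.{u}} {pX : X' ⟶ X} {g' : X' ⟶ S'} {g : X ⟶ S}
    {t : S' ⟶ S} (h : IsPullback pX g' g t) :
    IsPullback (pullback.map g' g' g g pX pX t h.w.symm h.w.symm) (pullback.snd g' g') (pullback.snd g g)
      pX := by
  refine IsPullback.of_right ?_ (pullback.lift_snd _ _ _) (IsPullback.of_hasPullback g g)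
  rw [pullback.lift_fst, h.w]
  exact (IsPullback.of_hasPullback g' g').paste_horiz h

theorem diagonal_comp_map {X' X S' S : Scheme.{u}} {pX : X' ⟶ X} {g' : X' ⟶ S'} {g : X ⟶ S}
    {t : S' ⟶ S} (h : IsPullback pX g' g t) :
    pullback.diagonal g' ≫ pullback.map g' g' g g pX pX t h.w.symm h.w.symm = pX ≫ pullback.diagonal g := by
  ext <;> simp [pullback.map, pullback.lift_fst, pullback.lift_snd]

theorem diagonal_mem_smoothLocus_of_isPullback {X' X S' S : Scheme.{u}} {pX : X' ⟶ X} {g' : X' ⟶ S'}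
    {g : X ⟶ S} {t : S' ⟶ S} (h : IsPullback pX g' g t) [LocallyOfFinitePresentation g]
    [LocallyOfFinitePresentation g'] {x : X'}
    (hx : pullback.diagonal g (pX x) ∈ (pullback.snd g g).smoothLocus) :
    pullback.diagonal g' x ∈ (pullback.snd g' g').smoothLocus := by
  refine mem_smoothLocus_of_isPullback (isPullback_selfProduct h) ?_
  rwa [← Scheme.Hom.comp_apply, diagonal_comp_map h, Scheme.Hom.comp_apply]

variable {I : Type u} [SmallCategory I] [IsCofiltered I] (D : I ⥤ Scheme.{u}) (c : Cone D)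
  [∀ (i j : I) (f : i ⟶ j), IsAffineHom (D.map f)] {i₀ : I}
  {X₀ : Scheme.{u}} (f₀ : X₀ ⟶ D.obj i₀) [LocallyOfFinitePresentation f₀]
  {X : Scheme.{u}} (f : X ⟶ c.pt) (qX : X ⟶ X₀)

/-- A stage at which the second projection is smooth at the image of a diagonal point. -/
theorem exists_stage_diagonal (hc : IsLimit c) (hX : IsPullback qX f f₀ (c.π.app i₀)) (x : X)
    [LocallyOfFinitePresentation f] (hx : pullback.diagonal f x ∈ (pullback.snd f f).smoothLocus) :
    ∃ j : Over i₀, pullback.diagonal (pullback.snd f₀ (D.map j.hom))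
      ((LimTop61.bcCone D c f₀ qX f hX.w).π.app j x) ∈
        (pullback.snd (pullback.snd f₀ (D.map j.hom)) (pullback.snd f₀ (D.map j.hom))).smoothLocus := by
  have := stable_smooth.{u}
  have := local_smooth.{u}
  have hXX := isPullback_selfProduct hX
  obtain ⟨j, φ, Xj, Yj, fj, gj, pY, pX, rX, hYj, hXj, h1, h2, V, hxV, hV⟩ :=
    exists_stage_nhd (P := @Smooth) D c Lim60.descProp_smooth (fun h m _ => comp_ι_smooth h m)
      hc hX hXX (pullback.diagonal f x) _ hx (smooth_smoothLocus_ι (pullback.snd f f))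
  refine ⟨Over.mk φ, ?_⟩
  let gc := pullback.snd f₀ (D.map φ)
  let pc := pullback.fst f₀ (D.map φ)
  let rc : X ⟶ pullback f₀ (D.map φ) := (LimTop61.bcCone D c f₀ qX f hX.w).π.app (Over.mk φ)
  have hrc1 : rc ≫ pc = qX := pullback.lift_fst _ _ _
  have hrc2 : rc ≫ gc = f ≫ c.π.app j := pullback.lift_snd _ _ _
  have hgc : IsPullback pc gc f₀ (D.map φ) := IsPullback.of_hasPullback _ _
  have hC := isPullback_selfProduct hgc
  let e := hYj.isoPullback
  have hXj' : IsPullback pX (fj ≫ e.hom) (pullback.snd f₀ f₀) pc :=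
    hXj.of_iso (Iso.refl _) (Iso.refl _) e (Iso.refl _) (by simp) (by simp) (by simp) (by simp [e, pc])
  let d : Xj ⟶ pullback gc gc := hC.lift pX (fj ≫ e.hom) hXj'.w
  have hd1 : d ≫ pullback.map gc gc f₀ f₀ pc pc (D.map φ) hgc.w.symm hgc.w.symm = pX :=
    hC.lift_fst _ _ _
  have hd2 : d ≫ pullback.snd gc gc = fj ≫ e.hom := hC.lift_snd _ _ _
  have : IsIso d := by
    have : d = (IsPullback.isoIsPullback _ _ hXj' hC).hom := by
      apply hC.hom_ext <;> simp [hd1, hd2]
    rw [this]; infer_instance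
  have hcompat : pullback.diagonal f ≫ rX ≫ d = rc ≫ pullback.diagonal gc := by
    apply hC.hom_ext
    · simp only [Category.assoc, hd1, h1, diagonal_comp_map hgc, diagonal_comp_map hX]
      rw [reassoc_of% hrc1]
    · simp only [Category.assoc, hd2, pullback.diagonal_snd, Category.comp_id]
      apply hgc.hom_ext
      · rw [hrc1]
        simp only [Category.assoc, e, pc, IsPullback.isoPullback_hom_fst]
        rw [← hXj.w, reassoc_of% h1, pullback.lift_snd, pullback.diagonal_snd_assoc]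
      · rw [hrc2]
        simp only [Category.assoc, e, gc, IsPullback.isoPullback_hom_snd]
        rw [h2, pullback.diagonal_snd_assoc]
  show pullback.diagonal gc (rc x) ∈ (pullback.snd gc gc).smoothLocus
  rw [← Scheme.Hom.comp_apply, ← hcompat, Scheme.Hom.comp_apply, Scheme.Hom.comp_apply]
  show rX (pullback.diagonal f x) ∈ d ⁻¹ᵁ (pullback.snd gc gc).smoothLocus
  have : LocallyOfFinitePresentation fj := MorphismProperty.of_isPullback hXj inferInstance
  have : Smooth (V.ι ≫ fj ≫ e.hom) := by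
    have : Smooth (V.ι ≫ fj) := hV
    rw [← Category.assoc]; infer_instance
  have h3 := mem_smoothLocus_of_smooth_restrict (fj ≫ e.hom) V hxV
  rw [Scheme.Hom.preimage_smoothLocus_eq]
  simpa only [hd2] using h3

/-- The stage where differential smoothness holds. -/
theorem exists_stage_diffSmooth (hc : IsLimit c) [CompactSpace X₀] (hX : IsPullback qX f f₀ (c.π.app i₀))
    [LocallyOfFinitePresentation f]
    (h : ∀ x : X, pullback.diagonal f x ∈ (pullback.snd f f).smoothLocus) :
    ∃ j : Over i₀, ∀ y, pullback.diagonal (pullback.snd f₀ (D.map j.hom)) y ∈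
        (pullback.snd (pullback.snd f₀ (D.map j.hom)) (pullback.snd f₀ (D.map j.hom))).smoothLocus := by
  classical
  let qc := LimTop61.bcCone D c f₀ qX f hX.w
  have hlim : IsLimit qc := LimTop61.isLimitBcCone D c hc f₀ qX f hX
  have hl : ∀ j : Over i₀, LocallyOfFinitePresentation (pullback.snd f₀ (D.map j.hom)) := fun j =>
    lfp_pullback_snd f₀ (D.map j.hom)
  let U : ∀ j : Over i₀, ((LimTop61.bcDiagram D f₀).obj j).Opens := fun j =>
    pullback.diagonal (pullback.snd f₀ (D.map j.hom)) ⁻¹ᵁ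
      (pullback.snd (pullback.snd f₀ (D.map j.hom)) (pullback.snd f₀ (D.map j.hom))).smoothLocus
  have hmono : ∀ {k j : Over i₀} (ψ : k ⟶ j), (LimTop61.bcDiagram D f₀).map ψ ⁻¹ᵁ U j ≤ U k := by
    intro k j ψ z hz
    have hsq : IsPullback ((LimTop61.bcDiagram D f₀).map ψ) (pullback.snd f₀ (D.map k.hom))
        (pullback.snd f₀ (D.map j.hom)) (D.map ψ.left) := by
      refine IsPullback.of_right ?_ (pullback.lift_snd _ _ _) (IsPullback.of_hasPullback _ _)
      rw [show (LimTop61.bcDiagram D f₀).map ψ ≫ pullback.fst _ _ = pullback.fst f₀ (D.map k.hom) from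
        pullback.lift_fst _ _ _, ← D.map_comp, Over.w ψ]
      exact IsPullback.of_hasPullback _ _
    exact @diagonal_mem_smoothLocus_of_isPullback _ _ _ _ _ _ _ _ hsq (hl j) (hl k) z hz
  have : ∀ j, CompactSpace ((LimTop61.bcDiagram D f₀).obj j) := fun j => inferInstance
  have : CompactSpace X := Scheme.compactSpace_of_isLimit (LimTop61.bcDiagram D f₀) qc hlim
  choose r hr using fun x => exists_stage_diagonal D c f₀ f qX hc hX x (h x)
  obtain ⟨s, hs⟩ := isCompact_univ.elim_finite_subcover (fun x => ((qc.π.app (r x) ⁻¹ᵁ U (r x) : X.Opens) : Set X))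
    (fun _ => Opens.isOpen _) fun x _ => Set.mem_iUnion.2 ⟨x, hr x⟩
  obtain ⟨m, hm⟩ := IsCofiltered.inf_objs_exists (s.image r ∪ {Over.mk (𝟙 i₀)})
  have htop : qc.π.app m ⁻¹ᵁ U m = ⊤ := by
    refine top_le_iff.1 fun z _ => ?_
    obtain ⟨x, hxs, hzx⟩ := Set.mem_iUnion₂.1 (hs (Set.mem_univ z))
    obtain ⟨ψ⟩ := hm (Finset.mem_union_left _ (Finset.mem_image_of_mem r hxs))
    refine hmono ψ ?_
    show (LimTop61.bcDiagram D f₀).map ψ (qc.π.app m z) ∈ U (r x)
    rw [← Scheme.Hom.comp_apply, qc.w ψ]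
    exact hzx
  obtain ⟨k, ψ, hk⟩ := exists_map_eq_top (LimTop61.bcDiagram D f₀) qc hlim (U m) htop
  exact ⟨k, fun y => hmono ψ (hk.ge (Set.mem_univ y))⟩

end Groth.Agent.SchBasics
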