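import Mathlib
import Groth.Agent.S9415
import Groth.Agent.FlatMor67.RegularSmooth
import Groth.Agent.Sep12.Basic

/-! Regularity from derivations in characteristic zero. -/

set_option autoImplicit false
universe u

open IsLocalRing TensorProduct KaehlerDifferential

namespace Groth.Agent.SchBasics

/-- An element with a derivation sending it to one is a non-zero-divisor. -/
theorem isSMulRegular_of_derivation {R : Type u} [CommRing R] [IsLocalRing R] [IsNoetherianRing R]
    (hQ : ∀ n : ℕ, n ≠ 0 → IsUnit (n : R)) {x : R} (hx : x ∈ maximalIdeal R)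
    (D : Derivation ℤ R R) (hD : D x = 1) : IsSMulRegular R x := by
  suffices h : ∀ y, x * y = 0 → y = 0 by
    intro a b hab
    have h' := h (a - b) (by rw [mul_sub]; exact sub_eq_zero.mpr hab)
    exact sub_eq_zero.mp h'
  intro y hy
  have key : ∀ j : ℕ, y ∈ Ideal.span {x ^ j} := by
    intro j
    induction j with
    | zero => simp
    | succ j ih =>
      obtain ⟨z, rfl⟩ := Ideal.mem_span_singleton.mp ih
      have h0 : x ^ (j + 1) * z = 0 := by rw [← hy]; ring
      have h1 : (x ^ (j + 1)) * D z + z * (((j + 1 : ℕ) : R) * x ^ j) = 0 := by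
        have := congrArg D h0
        rw [Derivation.leibniz, Derivation.leibniz_pow, map_zero, hD] at this
        simpa [smul_eq_mul, nsmul_eq_mul] using this
      obtain ⟨c, hc⟩ := (hQ (j + 1) (Nat.succ_ne_zero j)).exists_left_inv
      refine Ideal.mem_span_singleton.mpr ⟨-(c * D z), ?_⟩
      linear_combination c * h1 - (x ^ j * z) * hc
  have hmem : y ∈ ⨅ j : ℕ, maximalIdeal R ^ j := by
    refine Submodule.mem_iInf _ |>.mpr fun j => ?_
    exact (Ideal.span_singleton_le_iff_mem _).mpr (Ideal.pow_mem_pow hx j) (key j)
  rw [Ideal.iInf_pow_eq_bot_of_isLocalRing _ (maximalIdeal.isMaximal R).ne_top] at hmem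
  exact hmem

/-- Zariski: in characteristic zero derivations dual to generators of the maximal ideal force regularity. -/
theorem ringKrullDim_eq_of_derivations : ∀ (c : ℕ) (R : Type u) [CommRing R] [IsLocalRing R]
    [IsNoetherianRing R], (∀ n : ℕ, n ≠ 0 → IsUnit (n : R)) →
    ∀ (x : Fin c → R), Ideal.span (Set.range x) = maximalIdeal R →
    ∀ (D : Fin c → Derivation ℤ R R), (∀ i j, D i (x j) = if i = j then 1 else 0) →
    ringKrullDim R = c := by
  intro c
  induction c with
  | zero =>
    intro R _ _ _ _ x hx _ _
    rw [Set.range_eq_empty, Ideal.span_empty] at hx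
    exact ringKrullDim_eq_zero_of_isField (IsLocalRing.isField_iff_maximalIdeal_eq.mpr hx.symm)
  | succ c ih =>
    intro R _ _ _ hQ x hx D hD
    have hx0 : x 0 ∈ maximalIdeal R := hx ▸ Ideal.subset_span ⟨0, rfl⟩
    have hreg := isSMulRegular_of_derivation hQ hx0 (D 0) (by rw [hD]; simp)
    let I : Ideal R := Ideal.span {x 0}
    have : Nontrivial (R ⧸ I) := Ideal.Quotient.nontrivial_iff.mpr fun h =>
      (maximalIdeal.isMaximal R).ne_top (top_le_iff.mp (h ▸ (Ideal.span_singleton_le_iff_mem _).mpr hx0))
    have := IsLocalRing.of_surjective' (Ideal.Quotient.mk I) Ideal.Quotient.mk_surjective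
    have hm : maximalIdeal (R ⧸ I) = (maximalIdeal R).map (Ideal.Quotient.mk I) :=
      (IsLocalRing.eq_maximalIdeal (Ideal.IsMaximal.map_of_surjective_of_ker_le
        Ideal.Quotient.mk_surjective (by
          rw [Ideal.mk_ker]; exact (Ideal.span_singleton_le_iff_mem _).mpr hx0))).symm
    have hd : ∀ i : Fin c, ∀ r : R, Ideal.Quotient.mkₐ ℤ I r = 0 →
        Ideal.Quotient.mkₐ ℤ I (D i.succ r) = 0 := by
      intro i r hr
      rw [Ideal.Quotient.mkₐ_eq_mk, Ideal.Quotient.eq_zero_iff_mem, Ideal.mem_span_singleton] at hr ⊢
      obtain ⟨a, rfl⟩ := hr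
      refine ⟨D i.succ a, ?_⟩
      rw [Derivation.leibniz, hD, if_neg (Fin.succ_ne_zero i)]
      simp
    have hdim := ih (R ⧸ I) (fun n hn => by
        simpa using (hQ n hn).map (Ideal.Quotient.mk I))
      (fun i => Ideal.Quotient.mk I (x i.succ)) (by
        rw [hm, ← hx, Ideal.map_span, ← Set.range_comp]
        refine le_antisymm (Ideal.span_mono ?_) (Ideal.span_le.mpr ?_)
        · rintro _ ⟨i, rfl⟩
          exact ⟨i.succ, rfl⟩
        · rintro _ ⟨i, rfl⟩
          refine Fin.cases ?_ (fun j => Ideal.subset_span ⟨j, rfl⟩) i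
          rw [Function.comp_apply, Ideal.Quotient.eq_zero_iff_mem.mpr (Ideal.mem_span_singleton_self _)]
          exact Ideal.zero_mem _)
      (fun i => Derivation.liftOfSurjective (Ideal.Quotient.mkₐ_surjective ℤ I) (hd i))
      (fun i j => by
        show Derivation.liftOfSurjective (Ideal.Quotient.mkₐ_surjective ℤ I) (hd i)
          (Ideal.Quotient.mkₐ ℤ I (x j.succ)) = _
        rw [Derivation.liftOfSurjective_apply, hD]
        by_cases h : i = j <;> simp [h])
    rw [← ringKrullDim_quotient_span_singleton_succ_eq_ringKrullDim hreg hx0, hdim]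
    norm_cast

/-- In characteristic zero a local algebra with free differentials is regular. -/
theorem isRegularLocalRing_of_free_kaehler (k R : Type u) [Field k] [CharZero k] [CommRing R]
    [IsLocalRing R] [IsNoetherianRing R] [Algebra k R] [Module.Free R Ω[R⁄k]]
    [Module.Finite R Ω[R⁄k]] : IsRegularLocalRing R := by
  classical
  let κ := ResidueField R
  let c := (maximalIdeal R).spanFinrank
  obtain ⟨s, hcard, hspan⟩ := Submodule.FG.exists_span_finset_card_eq_spanFinrank
    (maximalIdeal R).fg_of_isNoetherianRing
  let e : Fin c ≃ s := (s.equivFinOfCardEq hcard).symm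
  let x : Fin c → R := fun i => (e i : R)
  have hx : Ideal.span (Set.range x) = maximalIdeal R := by
    have : Set.range x = (s : Set R) := by
      show Set.range (Subtype.val ∘ e) = _
      rw [e.surjective.range_comp, Subtype.range_coe_subtype]; rfl
    rw [this]; exact hspan
  have hxm : ∀ i, x i ∈ maximalIdeal R := fun i => hx ▸ Ideal.subset_span ⟨i, rfl⟩
  -- minimality
  have hmin : ∀ r : Fin c → R, ∑ i, r i * x i ∈ maximalIdeal R ^ 2 → ∀ i, r i ∈ maximalIdeal R := by
    intro r hr
    let v : Fin c → CotangentSpace R := fun i => (maximalIdeal R).toCotangent ⟨x i, hxm i⟩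
    have hv : LinearIndependent κ v := by
      refine linearIndependent_of_top_le_span_of_card_eq_finrank ?_ ?_
      · have := (EGA4Alg4.span_eq_maximalIdeal_iff (A := R)
          (Set.range fun i => (⟨x i, hxm i⟩ : maximalIdeal R))).mp (by
            rw [← Set.range_comp]; exact hx)
        rw [← Set.range_comp] at this
        exact this.ge
      · rw [Fintype.card_fin]
        exact IsLocalRing.spanFinrank_maximalIdeal_eq_finrank_cotangentSpace R
    have ha : (maximalIdeal R).toCotangent ⟨_, Ideal.pow_le_self two_ne_zero hr⟩ = 0 :=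
      ((maximalIdeal R).toCotangent_eq_zero _).mpr hr
    have hsum : ∑ i, residue R (r i) • v i = 0 := by
      rw [← ha]
      have : (⟨_, Ideal.pow_le_self two_ne_zero hr⟩ : maximalIdeal R) = ∑ i, r i • ⟨_, hxm i⟩ :=
        Subtype.ext (by simp)
      rw [this, map_sum]
      exact Finset.sum_congr rfl fun i _ => by rw [map_smul]; rfl
    intro i
    exact Ideal.Quotient.eq_zero_iff_mem.mp (Fintype.linearIndependent_iff.mp hv _ hsum i)
  have : Algebra.FormallySmooth k κ := Sep12.formallySmooth_of_perfectField k κ
  have hinj := S9415.injective_of_formallySmooth (k := k) (P := R) (S := κ) IsLocalRing.residue_surjective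
  let l : (Fin c → R) →ₗ[R] Ω[R⁄k] := Fintype.linearCombination R fun i => D k R (x i)
  have hl : Function.Injective (l.lTensor κ) := by
    rw [injective_iff_map_eq_zero]
    intro z hz
    obtain ⟨r, rfl⟩ := TensorProduct.mk_surjective R (Fin c → R) κ residue_surjective z
    rw [TensorProduct.mk_apply, LinearMap.lTensor_tmul] at hz
    let a : R := ∑ i, r i * x i
    have hxk : ∀ i, algebraMap R κ (x i) = 0 := fun i => Ideal.Quotient.eq_zero_iff_mem.mpr (hxm i)
    have hak : a ∈ RingHom.ker (algebraMap R κ) := by
      simp [a, RingHom.mem_ker, hxk]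
    have h0 : kerCotangentToTensor k R κ ((RingHom.ker (algebraMap R κ)).toCotangent ⟨a, hak⟩) = 0 := by
      rw [kerCotangentToTensor_toCotangent, ← hz]
      show (1 : κ) ⊗ₜ[R] D k R a = _
      rw [show D k R a = l r + ∑ i, x i • D k R (r i) by
        simp [a, l, Fintype.linearCombination_apply, Finset.sum_add_distrib]]
      rw [TensorProduct.tmul_add, add_eq_left, TensorProduct.tmul_sum]
      exact Finset.sum_eq_zero fun i _ => by
        rw [TensorProduct.tmul_smul, TensorProduct.smul_tmul', Algebra.smul_def, hxk, zero_mul,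
          TensorProduct.zero_tmul]
    have hsq : a ∈ RingHom.ker (algebraMap R κ) ^ 2 := ((RingHom.ker (algebraMap R κ)).toCotangent_eq_zero _).mp
      (hinj (h0.trans (map_zero _).symm))
    have hker : RingHom.ker (algebraMap R κ) = maximalIdeal R := Ideal.mk_ker
    rw [hker] at hsq
    have hr := hmin r hsq
    rw [TensorProduct.mk_apply, pi_eq_sum_univ r, TensorProduct.tmul_sum]
    exact Finset.sum_eq_zero fun i _ => by
      rw [TensorProduct.tmul_smul, TensorProduct.smul_tmul', Algebra.smul_def,
        show algebraMap R κ (r i) = 0 from Ideal.Quotient.eq_zero_iff_mem.mpr (hr i), zero_mul,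
        TensorProduct.zero_tmul]
  obtain ⟨l', hl'⟩ := (IsLocalRing.split_injective_iff_lTensor_residueField_injective l).mpr hl
  let Dd : Fin c → Derivation ℤ R R := fun i =>
    ((LinearMap.proj i).comp l' |>.compDer (D k R)).restrictScalars ℤ
  have hD : ∀ i j, Dd i (x j) = if i = j then 1 else 0 := by
    intro i j
    show l' (D k R (x j)) i = _
    have : l (Pi.single j 1) = D k R (x j) := by
      simp [l, Fintype.linearCombination_apply_single]
    rw [← this, show l' (l (Pi.single j 1)) = Pi.single j 1 from LinearMap.congr_fun hl' _]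
    by_cases h : i = j <;> simp [h]
  have hQ : ∀ n : ℕ, n ≠ 0 → IsUnit (n : R) := fun n hn => by
    rw [← map_natCast (algebraMap k R)]
    exact (IsUnit.mk0 (n : k) (Nat.cast_ne_zero.mpr hn)).map _
  have hdim := ringKrullDim_eq_of_derivations c R hQ x hx Dd hD
  exact IsRegularLocalRing.of_spanFinrank_maximalIdeal_le R (le_of_eq hdim.symm)

/-- In characteristic zero smoothness at a prime is freeness of the differentials. -/
theorem isSmoothAt_iff_free_kaehler (k A : Type u) [Field k] [CharZero k] [CommRing A]
    [Algebra k A] [Algebra.FiniteType k A] (q : Ideal A) [q.IsPrime] :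
    Algebra.IsSmoothAt k q ↔
      Module.Free (Localization.AtPrime q) Ω[Localization.AtPrime q⁄k] := by
  have : IsNoetherianRing A := Algebra.FiniteType.isNoetherianRing k A
  have : IsNoetherianRing (Localization.AtPrime q) :=
    IsLocalization.isNoetherianRing q.primeCompl _ inferInstance
  have : Algebra.EssFiniteType A (Localization.AtPrime q) :=
    Algebra.EssFiniteType.of_isLocalization _ q.primeCompl
  have : Algebra.EssFiniteType k (Localization.AtPrime q) := .comp k A _
  constructor
  · intro h
    have : Algebra.FormallySmooth k (Localization.AtPrime q) := h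
    exact Module.free_of_flat_of_isLocalRing
  · intro h
    have := isRegularLocalRing_of_free_kaehler k (Localization.AtPrime q)
    have : Algebra.FormallySmooth k q.ResidueField := Sep12.formallySmooth_of_perfectField k _
    exact FlatMor67.isSmoothAt_of_regular q

end Groth.Agent.SchBasics
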