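import Groth.Agent.S2853
import Groth.Agent.S2821
import Groth.Agent.LimTop61.NormalPoint
import Groth.Agent.Cyc90.FlatRelDim
import Groth.Agent.Unr55.SmoothStalkCor
import Groth.Agent.SchBasics.DiffSmoothLimit

/-!
A proper morphism to a smooth scheme over a discrete valuation ring, isomorphic on the generic fibre,
with flat source and irreducible closed fibre, is an isomorphism (integral target).
-/

set_option autoImplicit false
set_option linter.style.haveILetI false
set_option backward.isDefEq.respectTransparency.types false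

universe u

open CategoryTheory CategoryTheory.Limits AlgebraicGeometry TopologicalSpace IsLocalRing

namespace Groth.Agent.SchBasics.FibreIso

/-- A local map from a valuation ring to a birational ring is bijective. -/
theorem bijective_of_valuationRing {A B : Type u} [CommRing A] [IsDomain A] [ValuationRing A]
    [CommRing B] [IsDomain B] (φ : A →+* B) [IsLocalHom φ] (hinj : Function.Injective φ)
    (hfrac : ∀ b : B, ∃ a₁ a₂ : A, a₂ ≠ 0 ∧ b * φ a₂ = φ a₁) : Function.Bijective φ := by
  refine ⟨hinj, fun b => ?_⟩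
  obtain ⟨a₁, a₂, h0, h⟩ := hfrac b
  have key : a₂ ∣ a₁ → ∃ a, φ a = b := fun ⟨c, hc⟩ => ⟨c, by
    refine (mul_right_cancel₀ (b := φ a₂) (fun h' => h0 (hinj (h'.trans (map_zero φ).symm))) ?_).symm
    rw [h, hc, map_mul, mul_comm]⟩
  rcases ValuationRing.dvd_total a₂ a₁ with hd | ⟨c, hc⟩
  · exact key hd
  · by_cases h1 : a₁ = 0
    · exact key ⟨0, by rw [h1, mul_zero]⟩
    · have hu : IsUnit (φ c) := by
        refine IsUnit.of_mul_eq_one b (mul_left_cancel₀ (a := φ a₁)
          (fun h' => h1 (hinj (h'.trans (map_zero φ).symm))) ?_)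
        rw [mul_one, ← mul_assoc, ← map_mul, ← hc, mul_comm, h]
      exact key (by rw [hc]; exact (IsUnit.of_map φ c hu).mul_right_dvd.2 dvd_rfl)

theorem quasiFinite_of_surjective {A B : Type u} [CommRing A] [CommRing B] (φ : A →+* B)
    (hφ : Function.Surjective φ) : φ.QuasiFinite := by
  let := φ.toAlgebra
  have : Module.Finite A B := Module.Finite.of_surjective (Algebra.linearMap A B) hφ
  exact (inferInstance : Algebra.QuasiFinite A B)

variable {V : Type u} [CommRing V] [IsDomain V] [IsDiscreteValuationRing V]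

theorem eq_closed_or_eq_generic (p : ↥(Spec (CommRingCat.of V))) :
    p = IsLocalRing.closedPoint V ∨ PrimeSpectrum.asIdeal (R := V) p = ⊥ := by
  by_cases h : PrimeSpectrum.asIdeal (R := V) p = ⊥
  · exact .inr h
  · have := Ideal.IsPrime.isMaximal (PrimeSpectrum.isPrime (R := V) p) h
    exact .inl (PrimeSpectrum.ext (IsLocalRing.eq_maximalIdeal this))

/-- Two prime steps below a point of codimension one are impossible. -/
theorem eq_or_eq_genericPoint_of_dim_one {X : Scheme.{u}} [IsIntegral X] {w ξ : X}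
    (h : w ⤳ ξ) (hξ : ringKrullDim (X.presheaf.stalk ξ) = 1) : w = ξ ∨ w = genericPoint X := by
  by_contra hne
  rw [not_or] at hne
  obtain ⟨p, rfl⟩ : w ∈ Set.range (X.fromSpecStalk ξ) := by rw [Scheme.range_fromSpecStalk]; exact h
  obtain ⟨p₀, hp₀⟩ : genericPoint X ∈ Set.range (X.fromSpecStalk ξ) := by
    rw [Scheme.range_fromSpecStalk]; exact (genericPoint_spec X).specializes trivial
  have hemb := (X.fromSpecStalk ξ).isEmbedding
  have h01 : PrimeSpectrum.asIdeal (R := X.presheaf.stalk ξ) p₀ <
      PrimeSpectrum.asIdeal (R := X.presheaf.stalk ξ) p := by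
    refine lt_of_le_of_ne ?_ fun e => hne.2 ?_
    · refine (PrimeSpectrum.le_iff_specializes (R := X.presheaf.stalk ξ) p₀ p).2 ?_
      have hsp : (p₀ : Spec (X.presheaf.stalk ξ)) ⤳ p := by
        rw [← hemb.isInducing.specializes_iff, hp₀]
        exact (genericPoint_spec X).specializes trivial
      exact hsp
    · rw [← hp₀, PrimeSpectrum.ext e]
  have h12 : PrimeSpectrum.asIdeal (R := X.presheaf.stalk ξ) p < maximalIdeal (X.presheaf.stalk ξ) := by
    refine lt_of_le_of_ne (IsLocalRing.le_maximalIdeal (PrimeSpectrum.isPrime (R := X.presheaf.stalk ξ) p).ne_top)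
      fun e => hne.1 ?_
    have hp : p = IsLocalRing.closedPoint (X.presheaf.stalk ξ) := PrimeSpectrum.ext e
    rw [hp]
    exact Scheme.fromSpecStalk_closedPoint
  let c : LTSeries (PrimeSpectrum (X.presheaf.stalk ξ)) :=
    ((RelSeries.singleton _ p₀).snoc p h01).snoc (IsLocalRing.closedPoint _) (by
      rw [RelSeries.last_snoc]; exact h12)
  have hc : (c.length : WithBot ℕ∞) ≤ ringKrullDim (X.presheaf.stalk ξ) := Order.LTSeries.length_le_krullDim c
  rw [hξ] at hc
  have : c.length ≤ 1 := by exact_mod_cast hc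
  simp [c] at this

section

variable {X Y : Scheme.{u}} (f : X ⟶ Y) (h : Y ⟶ Spec (CommRingCat.of V))

/-- The open generic fibre. -/
noncomputable def genOpen : Y.Opens :=
  h ⁻¹ᵁ ((PrimeSpectrum.basicOpen (Classical.choose (IsDiscreteValuationRing.exists_irreducible V)) :
    TopologicalSpace.Opens (PrimeSpectrum V)) : (Spec (CommRingCat.of V)).Opens)

theorem mem_genOpen_iff {y : Y} : y ∈ genOpen h ↔ h y ≠ IsLocalRing.closedPoint V := by
  let ϖ := Classical.choose (IsDiscreteValuationRing.exists_irreducible V)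
  have hϖ : Irreducible ϖ := Classical.choose_spec (IsDiscreteValuationRing.exists_irreducible V)
  show ϖ ∉ PrimeSpectrum.asIdeal (R := V) (h y) ↔ _
  constructor
  · intro hy e
    rw [e] at hy
    exact hy (hϖ.maximalIdeal_eq.ge (Ideal.mem_span_singleton_self ϖ))
  · intro hy hmem
    rcases eq_closed_or_eq_generic (h y) with e | e
    · exact hy e
    · rw [e] at hmem
      exact hϖ.ne_zero (Ideal.mem_bot.1 hmem)

/-- Every point of a scheme flat over `V` generalizes to the generic fibre. -/
theorem exists_specializes_mem_genOpen [Flat h] (y : Y) : ∃ w, w ⤳ y ∧ w ∈ genOpen h := by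
  let η : Spec (CommRingCat.of V) := (⟨⊥, Ideal.isPrime_bot⟩ : PrimeSpectrum V)
  have hη : η ⤳ h y := (PrimeSpectrum.le_iff_specializes (R := V) η (h y)).1 (bot_le : ⊥ ≤ _)
  obtain ⟨w, hw, he⟩ := Flat.generalizingMap h hη
  refine ⟨w, hw, (mem_genOpen_iff h).2 ?_⟩
  rw [he]
  intro e
  have : (⊥ : Ideal V) = maximalIdeal V := congrArg PrimeSpectrum.asIdeal e
  exact IsDiscreteValuationRing.not_a_field V this.symm

theorem isIso_stalkMap_of_mem_genOpen [IsIso (f ∣_ genOpen h)] {x : X} (hx : f x ∈ genOpen h) :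
    IsIso (f.stalkMap x) :=
  ((MorphismProperty.isomorphisms CommRingCat).arrow_mk_iso_iff
    (morphismRestrictStalkMap f (genOpen h) ⟨x, hx⟩)).1
    (show IsIso ((f ∣_ genOpen h).stalkMap ⟨x, hx⟩) from inferInstance)

theorem isIso_of_dvr_of_integral [IsIntegral Y] [Smooth h] [IsProper f] [Flat (f ≫ h)]
    [LocallyOfFiniteType (f ≫ h)] (hη : IsIso (f ∣_ genOpen h))
    (hs : IsPreirreducible ((f ≫ h) ⁻¹' {IsLocalRing.closedPoint V})) : IsIso f := by
  classical
  have : IsLocallyNoetherian Y := LocallyOfFiniteType.isLocallyNoetherian h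
  have : IsLocallyNoetherian X := LocallyOfFiniteType.isLocallyNoetherian (f ≫ h)
  set W := genOpen h with hW
  have hηW : genericPoint Y ∈ W := by
    obtain ⟨w, -, hwW⟩ := exists_specializes_mem_genOpen h (genericPoint Y)
    exact ((genericPoint_spec Y).specializes trivial).mem_open W.2 hwW
  have hgenX : ∀ x : X, ∃ w, w ⤳ x ∧ f w ∈ W := fun x => by
    obtain ⟨w, hw, hwW⟩ := exists_specializes_mem_genOpen (f ≫ h) x
    exact ⟨w, hw, hwW⟩
  have hsurjW : ∀ y ∈ W, ∃ x, f x = y := fun y hy => by
    obtain ⟨x, hx⟩ := (f ∣_ W).surjective (⟨y, hy⟩ : W.toScheme)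
    exact ⟨x.1, (morphismRestrict_base_coe f W x).symm.trans (congrArg Subtype.val hx)⟩
  have hinjW : ∀ a b : X, f a ∈ W → f a = f b → a = b := fun a b ha e => by
    have : (⟨a, ha⟩ : (f ⁻¹ᵁ W).toScheme) = ⟨b, show f b ∈ W from e ▸ ha⟩ :=
      ((f ∣_ W).isOpenEmbedding.injective) (Subtype.ext (by
        rw [morphismRestrict_base_coe, morphismRestrict_base_coe]; exact e))
    exact congrArg Subtype.val this
  obtain ⟨η₀, hη₀⟩ := hsurjW _ hηW
  have hirrY : ∀ x : X, η₀ ⤳ x := fun x => by
    obtain ⟨w, hw, hwW⟩ := hgenX x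
    refine Specializes.trans ?_ hw
    let a : (f ⁻¹ᵁ W).toScheme := ⟨η₀, show f η₀ ∈ W from hη₀ ▸ hηW⟩
    let b : (f ⁻¹ᵁ W).toScheme := ⟨w, hwW⟩
    have h1 : a ⤳ b := by
      rw [← (f ∣_ W).isOpenEmbedding.isInducing.specializes_iff]
      refine (subtype_specializes_iff _ _).2 ?_
      rw [morphismRestrict_base_coe, morphismRestrict_base_coe]
      show f η₀ ⤳ f w
      rw [hη₀]
      exact (genericPoint_spec Y).specializes trivial
    exact h1.map (f ⁻¹ᵁ W).ι.continuous
  have hgenη : IsGenericPoint η₀ (Set.univ : Set X) :=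
    Set.eq_univ_of_forall fun x => specializes_iff_mem_closure.1 (hirrY x)
  have : IrreducibleSpace X := by
    rw [irreducibleSpace_def]
    have h2 : IsIrreducible (closure ({η₀} : Set X)) := isIrreducible_singleton.closure
    rwa [hgenη] at h2
  have hredX : IsReduced X := by
    have key : ∀ (U : X.Opens) (hU : IsAffineOpen U) (n : Γ(X, U)), IsNilpotent n → n = 0 := by
      intro U hU n hn
      let ϖ := Classical.choose (IsDiscreteValuationRing.exists_irreducible V)
      have hϖ : Irreducible ϖ := Classical.choose_spec (IsDiscreteValuationRing.exists_irreducible V)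
      let ψ := (f ≫ h).appLE ⊤ U le_top
      have hflat : ψ.hom.Flat :=
        HasRingHomProperty.appLE (P := @Flat) (f ≫ h) inferInstance ⟨⊤, isAffineOpen_top _⟩ ⟨U, hU⟩ le_top
      let ϖ' : Γ(Spec (CommRingCat.of V), ⊤) := (Scheme.ΓSpecIso (CommRingCat.of V)).inv ϖ
      let r : Γ(X, U) := ψ ϖ'
      have hr : ∀ a, r * a = 0 → a = 0 := by
        let : Algebra Γ(Spec (CommRingCat.of V), ⊤) Γ(X, U) := ψ.hom.toAlgebra
        have : Module.Flat Γ(Spec (CommRingCat.of V), ⊤) Γ(X, U) := hflat
        intro a ha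
        have hinj : Function.Injective (fun b : Γ(Spec (CommRingCat.of V), ⊤) => ϖ' * b) := by
          intro b c hbc
          have h1 := congrArg (Scheme.ΓSpecIso (CommRingCat.of V)).hom hbc
          have h0 : (Scheme.ΓSpecIso (CommRingCat.of V)).hom ϖ' = ϖ := by
            show ((Scheme.ΓSpecIso (CommRingCat.of V)).inv ≫ (Scheme.ΓSpecIso (CommRingCat.of V)).hom) ϖ = ϖ
            rw [Iso.inv_hom_id]
            rfl
          simp only [map_mul, h0] at h1
          exact (Scheme.ΓSpecIso (CommRingCat.of V)).commRingCatIsoToRingEquiv.injective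
            (mul_left_cancel₀ hϖ.ne_zero h1)
        have hreg : IsSMulRegular Γ(X, U) ϖ' :=
          Module.IsTorsionFree.isSMulRegular (isRegular_iff.2 ⟨hinj, fun b c hbc => hinj (by
            simpa only [mul_comm ϖ'] using hbc)⟩)
        exact hreg (show ϖ' • a = ϖ' • (0 : Γ(X, U)) by rw [smul_zero, Algebra.smul_def]; exact ha)
      have hbo : (X.basicOpen r : Set X) ⊆ (f ⁻¹ᵁ W : X.Opens) := by
        intro x hx
        rw [show X.basicOpen r = U ⊓ (f ≫ h) ⁻¹ᵁ (Spec (CommRingCat.of V)).basicOpen ϖ' from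
          Scheme.basicOpen_appLE (f ≫ h) U ⊤ le_top ϖ'] at hx
        have h2 : (f ≫ h) x ∈ (Spec (CommRingCat.of V)).basicOpen ϖ' := hx.2
        rw [show (Spec (CommRingCat.of V)).basicOpen ϖ' = PrimeSpectrum.basicOpen ϖ from
          basicOpen_eq_of_affine (R := CommRingCat.of V) ϖ] at h2
        exact h2
      let ρ := X.presheaf.map (homOfLE (X.basicOpen_le r)).op
      have h1 : ρ n = 0 := by
        refine TopCat.Presheaf.section_ext X.sheaf (X.basicOpen r) _ _ fun x hx => ?_
        have := isIso_stalkMap_of_mem_genOpen f h (x := x) (hbo hx)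
        have : _root_.IsReduced (X.presheaf.stalk x) :=
          isReduced_of_injective (inv (f.stalkMap x)).hom (ConcreteCategory.bijective_of_isIso _).1
        refine Eq.trans ?_ (map_zero (X.presheaf.germ (X.basicOpen r) x hx).hom).symm
        exact ((hn.map ρ.hom).map (X.presheaf.germ (X.basicOpen r) x hx).hom).eq_zero
      have := hU.isLocalization_basicOpen r
      obtain ⟨⟨_, k, rfl⟩, hk⟩ := (IsLocalization.map_eq_zero_iff (Submonoid.powers r) Γ(X, X.basicOpen r) n).1 h1
      induction k generalizing n with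
      | zero => simpa using hk
      | succ k ih =>
        refine hr n ?_
        refine ih (r * n) ((Commute.all r n).isNilpotent_mul_left hn) ?_ ?_
        · rw [map_mul]
          show _ * ρ n = 0
          rw [h1, mul_zero]
        · show r ^ k * (r * n) = 0
          rw [← mul_assoc, ← pow_succ]
          exact hk
    have : ∀ U : X.affineOpens, _root_.IsReduced Γ(X, U) := fun U => ⟨key U.1 U.2⟩
    have hst : ∀ x : X, _root_.IsReduced (X.presheaf.stalk x) := fun x => by
      obtain ⟨U, hU, hxU, -⟩ := exists_isAffineOpen_mem_and_subset (U := ⊤) (show x ∈ (⊤ : X.Opens) from trivial)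
      let := X.presheaf.algebra_section_stalk ⟨x, hxU⟩
      have := hU.isLocalization_stalk ⟨x, hxU⟩
      have : _root_.IsReduced Γ(X, U) := ⟨key U hU⟩
      exact isReduced_localizationPreserves (hU.primeIdealOf ⟨x, hxU⟩).asIdeal.primeCompl
        (X.presheaf.stalk x) ‹_›
    exact isReduced_of_isReduced_stalk X
  have : IsIntegral X := isIntegral_of_irreducibleSpace_of_isReduced X
  have hη₀' : η₀ = genericPoint X := hgenη.eq (genericPoint_spec X)
  have hgen : f (genericPoint X) = genericPoint Y := by rw [← hη₀', hη₀]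
  have hbir : IsIso (f.stalkMap (genericPoint X)) :=
    isIso_stalkMap_of_mem_genOpen f h (by rw [hgen]; exact hηW)
  -- surjectivity
  have hsurj : ∀ y : Y, ∃ x, f x = y := fun y => by
    obtain ⟨w, hw, hwW⟩ := exists_specializes_mem_genOpen h y
    obtain ⟨a, rfl⟩ := hsurjW w hwW
    exact (f.isClosedMap _ isClosed_univ).closure_subset_iff.2 (Set.singleton_subset_iff.2
      (Set.mem_image_of_mem f (Set.mem_univ a))) (specializes_iff_mem_closure.1 hw) |>.imp fun x hx => hx.2
  have hY : ∀ y : Y, IsRegularLocalRing (Y.presheaf.stalk y) := fun y => by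
    have : LocallyOfFinitePresentation h := inferInstance
    refine (Unr55.isRegularLocalRing_stalk_iff_of_smooth h y
      (mem_smoothLocus_of_smooth_restrict h ⊤ (show y ∈ (⊤ : Y.Opens) from trivial))).2 ?_
    have : IsRegularRing V := inferInstance
    let := (Spec (CommRingCat.of V)).presheaf.algebra_section_stalk (U := ⊤) ⟨h y, trivial⟩
    have := StructureSheaf.IsLocalization.to_stalk V (h y)
    exact IsRegularLocalRing.of_ringEquiv
      (IsLocalization.algEquiv (PrimeSpectrum.asIdeal (R := V) (h y)).primeCompl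
        (Localization.AtPrime (PrimeSpectrum.asIdeal (R := V) (h y)))
        ((Spec.structureSheaf V).presheaf.stalk (h y))).toRingEquiv
  have hUFD : ∀ y : Y, UniqueFactorizationMonoid (Y.presheaf.stalk y) := fun y =>
    have := hY y
    (S2821.result (Y.presheaf.stalk y)).2
  -- codimension one
  have hiso : ∀ x : X, ringKrullDim (X.presheaf.stalk x) = 1 → IsIso (f.stalkMap x) := by
    intro x hx
    by_cases hxW : f x ∈ W
    · exact isIso_stalkMap_of_mem_genOpen f h hxW
    have hclosed : (f ≫ h) x = IsLocalRing.closedPoint V := not_not.1 fun e => hxW ((mem_genOpen_iff h).2 e)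
    have hnotgen : ∀ w : X, (f ≫ h) w = IsLocalRing.closedPoint V → w ≠ genericPoint X := by
      rintro w hw rfl
      refine (mem_genOpen_iff h).1 hηW ?_
      rw [← hgen]
      exact hw
    -- `x` is the generic point of the closed fibre
    let Z : Set X := (f ≫ h) ⁻¹' {IsLocalRing.closedPoint V}
    have hZc : IsClosed Z := (isClosed_singleton_closedPoint V).preimage (f ≫ h).continuous
    obtain ⟨x₀, hx₀⟩ := QuasiSober.sober (⟨⟨x, hclosed⟩, hs⟩ : IsIrreducible Z) hZc
    have hx₀x : x₀ = x := by
      have hsp : x₀ ⤳ x := hx₀.specializes hclosed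
      rcases eq_or_eq_genericPoint_of_dim_one hsp hx with e | e
      · exact e
      · exact absurd e (hnotgen x₀ hx₀.mem)
    subst hx₀x
    have hmaxY : E4O.IsFibreMax h (f x₀) := fun w hw hwh => by
      obtain ⟨v, rfl⟩ := hsurj w
      refine (hw.antisymm ((hx₀.specializes ?_).map f.continuous)).eq
      show h (f v) = IsLocalRing.closedPoint V
      rw [hwh]
      exact hclosed
    have hd1 : ringKrullDim (Y.presheaf.stalk (f x₀)) = 1 := by
      rw [Cyc90.ringKrullDim_stalk_eq_of_isFibreMax h (f x₀) hmaxY, show h (f x₀) = IsLocalRing.closedPoint V from hclosed]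
      let := (Spec (CommRingCat.of V)).presheaf.algebra_section_stalk (U := ⊤) ⟨IsLocalRing.closedPoint V, trivial⟩
      have : IsLocalization (maximalIdeal V).primeCompl
          ((Spec.structureSheaf V).presheaf.stalk (IsLocalRing.closedPoint V)) :=
        StructureSheaf.IsLocalization.to_stalk V (IsLocalRing.closedPoint V)
      have e := IsLocalization.atUnits V (maximalIdeal V).primeCompl (fun v hv => not_not.1 hv)
        (S := (Spec.structureSheaf V).presheaf.stalk (IsLocalRing.closedPoint V))
      exact (ringKrullDim_eq_of_ringEquiv e.toRingEquiv).symm.trans (IsDiscreteValuationRing.ringKrullDim_eq_one V)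
    have := hY (f x₀)
    have hdom : IsDomain (Y.presheaf.stalk (f x₀)) := inferInstance
    have hprin : (maximalIdeal (Y.presheaf.stalk (f x₀))).IsPrincipal := by
      have h1 := IsRegularLocalRing.spanFinrank_maximalIdeal (R := Y.presheaf.stalk (f x₀))
      rw [hd1] at h1
      have h2 : (maximalIdeal (Y.presheaf.stalk (f x₀))).spanFinrank = 1 := by exact_mod_cast h1
      exact ((Submodule.spanFinrank_eq_one_iff _).1 h2).1
    have hval : ValuationRing (Y.presheaf.stalk (f x₀)) :=
      ((tfae_of_isNoetherianRing_of_isLocalRing_of_isDomain (R := Y.presheaf.stalk (f x₀))).out 4 1).1 hprin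
    have hηx : genericPoint X ⤳ x₀ := (genericPoint_spec X).specializes trivial
    have hηy : f (genericPoint X) ⤳ f x₀ := hηx.map f.continuous
    have hsm : Function.Bijective (f.stalkMap (genericPoint X)) := ConcreteCategory.bijective_of_isIso _
    have hcomm : ∀ o, f.stalkMap (genericPoint X) (Y.presheaf.stalkSpecializes hηy o) =
        X.presheaf.stalkSpecializes hηx (f.stalkMap x₀ o) :=
      fun o => Scheme.Hom.stalkSpecializes_stalkMap_apply f _ _ hηx o
    have hiX := LimTop61.stalkSpecializes_injective rfl hηx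
    have hinj : Function.Injective (f.stalkMap x₀) := fun o o' h' =>
      LimTop61.stalkSpecializes_injective hgen hηy (hsm.1 (by rw [hcomm, hcomm, h']))
    have : IsLocalHom (f.stalkMap x₀).hom := f.toLRSHom.prop x₀
    have hb : Function.Bijective (f.stalkMap x₀).hom := by
      refine bijective_of_valuationRing _ hinj fun b => ?_
      obtain ⟨k, hk⟩ := hsm.2 (X.presheaf.stalkSpecializes hηx b)
      obtain ⟨a₁, a₂, ha₂, hk'⟩ : ∃ a₁ a₂, a₂ ≠ 0 ∧
          k * Y.presheaf.stalkSpecializes hηy a₂ = Y.presheaf.stalkSpecializes hηy a₁ := by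
        clear hk hcomm hsm hbir
        revert hηy k
        rw [hgen]
        intro hηy k
        obtain ⟨⟨a₁, a₂⟩, h'⟩ := IsLocalization.surj (nonZeroDivisors (Y.presheaf.stalk (f x₀))) k
        exact ⟨a₁, a₂, nonZeroDivisors.coe_ne_zero a₂, h'⟩
      refine ⟨a₁, a₂, ha₂, hiX ?_⟩
      show X.presheaf.stalkSpecializes hηx (b * f.stalkMap x₀ a₂) =
        X.presheaf.stalkSpecializes hηx (f.stalkMap x₀ a₁)
      rw [map_mul, ← hcomm, ← hcomm, ← hk, ← map_mul, hk']
    exact (ConcreteCategory.isIso_iff_bijective (f.stalkMap x₀)).2 hb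
  obtain ⟨-, hopen⟩ := S2853.result f hUFD
    ⟨f ⁻¹ᵁ W, ⟨η₀, show f η₀ ∈ W from hη₀ ▸ hηW⟩, by
      rw [← morphismRestrict_ι]
      infer_instance⟩
    (fun x hx => by
      have := hiso x hx
      show (f.stalkMap x).hom.QuasiFinite
      exact quasiFinite_of_surjective _ (ConcreteCategory.bijective_of_isIso (f.stalkMap x)).2)
  have : IsOpenImmersion f := hopen inferInstance
  have : Surjective f := ⟨hsurj⟩
  exact (isIso_iff_isOpenImmersion_and_surjective f).2 ⟨inferInstance, inferInstance⟩

end

end Groth.Agent.SchBasics.FibreIso
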