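import Groth.Agent.SchBasics.FibreIsoBC
import Groth.Agent.SchBasics.FibreIsoCore
import Groth.Agent.An92.Rat.SectionExt
import Groth.Agent.Approx60.ProperStage

/-!
Isomorphy of a proper morphism spreads along discrete valuation rings (arbitrary smooth target).
-/

set_option autoImplicit false
set_option linter.style.haveILetI false
set_option backward.isDefEq.respectTransparency.types false

universe u

open CategoryTheory CategoryTheory.Limits AlgebraicGeometry TopologicalSpace

namespace Groth.Agent.SchBasics.FibreIso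

theorem isIso_morphismRestrict_of_isPullback {P Q X Y : Scheme.{u}} {eX : P ⟶ X} {f' : P ⟶ Q}
    {f : X ⟶ Y} {eY : Q ⟶ Y} (hP : IsPullback eX f' f eY) [IsIso f'] [IsOpenImmersion eY]
    (G : Y.Opens) (hG : (G : Set Y) ⊆ Set.range eY) : IsIso (f ∣_ G) := by
  let t : G.toScheme ⟶ Q := IsOpenImmersion.lift eY G.ι (by rw [Scheme.Opens.range_ι]; exact hG)
  have ht : t ≫ eY = G.ι := IsOpenImmersion.lift_fac eY G.ι _
  let s : (f ⁻¹ᵁ G).toScheme ⟶ P := hP.lift (f ⁻¹ᵁ G).ι ((f ∣_ G) ≫ t) (by
    rw [Category.assoc, ht, morphismRestrict_ι])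
  have h1 : IsPullback s (f ∣_ G) f' t := by
    refine IsPullback.of_right ?_ (hP.lift_snd _ _ _) hP
    rw [hP.lift_fst, ht]
    exact (isPullback_morphismRestrict f G).flip
  exact MorphismProperty.of_isPullback (P := MorphismProperty.isomorphisms Scheme.{u}) h1 ‹IsIso f'›

variable {V : Type u} [CommRing V] [IsDomain V] [IsDiscreteValuationRing V] {X Y : Scheme.{u}}
  (f : X ⟶ Y) (h : Y ⟶ Spec (CommRingCat.of V))

/-- The generic point of the spectrum of a discrete valuation ring. -/
noncomputable def genPt : Spec (CommRingCat.of V) := (⟨⊥, Ideal.isPrime_bot⟩ : PrimeSpectrum V)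

theorem isIso_restrict_genOpen (hη : IsoAt f h genPt) : IsIso (f ∣_ genOpen h) := by
  let ϖ := Classical.choose (IsDiscreteValuationRing.exists_irreducible V)
  have hϖ : Irreducible ϖ := Classical.choose_spec (IsDiscreteValuationRing.exists_irreducible V)
  have hloc : IsLocalization.Away ϖ (FractionRing V) := by
    refine IsLocalization.Away.mk ϖ ?_ (fun z => ?_) (fun a b hab => ?_)
    · exact isUnit_iff_ne_zero.2 ((map_ne_zero_iff _ (IsFractionRing.injective V (FractionRing V))).2 hϖ.ne_zero)
    · obtain ⟨⟨a, b⟩, hab⟩ := IsLocalization.surj (nonZeroDivisors V) z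
      obtain ⟨n, w, hw⟩ := IsDiscreteValuationRing.eq_unit_mul_pow_irreducible
        (nonZeroDivisors.coe_ne_zero b) hϖ
      refine ⟨n, a * (↑w⁻¹ : V), ?_⟩
      have hb : ((b : V)) = (w : V) * ϖ ^ n := hw
      rw [map_mul, ← hab, hb, map_mul, map_pow]
      have : algebraMap V (FractionRing V) w * algebraMap V (FractionRing V) (↑w⁻¹ : V) = 1 := by
        rw [← map_mul, Units.mul_inv, map_one]
      linear_combination (-z * algebraMap V (FractionRing V) ϖ ^ n) * this
    · exact ⟨0, by rw [pow_zero, one_mul, one_mul]; exact IsFractionRing.injective V (FractionRing V) hab⟩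
  let j : Spec (CommRingCat.of (FractionRing V)) ⟶ Spec (CommRingCat.of V) :=
    Spec.map (CommRingCat.ofHom (algebraMap V (FractionRing V)))
  have : IsOpenImmersion j := IsOpenImmersion.of_isLocalization ϖ
  have hj : ∀ p, j p = genPt := fun p => by
    refine PrimeSpectrum.ext ?_
    show Ideal.comap (algebraMap V (FractionRing V)) (PrimeSpectrum.asIdeal (R := FractionRing V) p) = ⊥
    rw [((Ideal.eq_bot_or_top (PrimeSpectrum.asIdeal (R := FractionRing V) p)).resolve_right (PrimeSpectrum.isPrime (R := FractionRing V) p).ne_top)]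
    exact Ideal.comap_bot_of_injective _ (IsFractionRing.injective V (FractionRing V))
  have := hη (FractionRing V) j hj
  refine isIso_morphismRestrict_of_isPullback (isPullback_bc f h j) (genOpen h) ?_
  intro y hy
  rw [Scheme.Pullback.range_fst]
  refine ⟨default, ?_⟩
  rw [hj]
  rcases eq_closed_or_eq_generic (h y) with e | e
  · exact absurd e ((mem_genOpen_iff h).1 hy)
  · exact (PrimeSpectrum.ext (x := h y) (y := genPt (V := V)) e).symm

theorem isPreirreducible_closedFibre (hs : PreAt f h (IsLocalRing.closedPoint V)) :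
    IsPreirreducible ((f ≫ h) ⁻¹' {IsLocalRing.closedPoint V}) := by
  let S := Spec (CommRingCat.of V)
  let t : Spec (CommRingCat.of (S.residueField (IsLocalRing.closedPoint V))) ⟶ S :=
    S.fromSpecResidueField _
  have := hs _ t fun p => Scheme.fromSpecResidueField_apply ..
  have h1 := (PreirreducibleSpace.isPreirreducible_univ (X := ↥(pullback (f ≫ h) t))).image
    (pullback.fst (f ≫ h) t) (pullback.fst (f ≫ h) t).continuous.continuousOn
  rwa [Set.image_univ, Scheme.Pullback.range_fst, Scheme.range_fromSpecResidueField] at h1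

/-- A proper morphism to a smooth scheme over a discrete valuation ring with flat source and
preirreducible closed fibre is an isomorphism if it is one on the generic fibre. -/
theorem isIso_of_dvr [Smooth h] [IsProper f] [Flat (f ≫ h)] [LocallyOfFiniteType (f ≫ h)]
    (hη : IsoAt f h genPt) (hs : PreAt f h (IsLocalRing.closedPoint V)) : IsIso f := by
  have hG := isIso_restrict_genOpen f h hη
  have hpre := isPreirreducible_closedFibre f h hs
  have : IsLocallyNoetherian Y := LocallyOfFiniteType.isLocallyNoetherian h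
  have hreg : ∀ y : Y, IsRegularLocalRing (Y.presheaf.stalk y) := fun y => by
    refine (Unr55.isRegularLocalRing_stalk_iff_of_smooth h y
      (mem_smoothLocus_of_smooth_restrict h ⊤ (show y ∈ (⊤ : Y.Opens) from trivial))).2 ?_
    have : IsRegularRing V := inferInstance
    let := (Spec (CommRingCat.of V)).presheaf.algebra_section_stalk (U := ⊤) ⟨h y, trivial⟩
    have := StructureSheaf.IsLocalization.to_stalk V (h y)
    exact IsRegularLocalRing.of_ringEquiv
      (IsLocalization.algEquiv (PrimeSpectrum.asIdeal (R := V) (h y)).primeCompl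
        (Localization.AtPrime (PrimeSpectrum.asIdeal (R := V) (h y)))
        ((Spec.structureSheaf V).presheaf.stalk (h y))).toRingEquiv
  have hint : ∀ y : Y, ∃ W : Y.Opens, IsAffineOpen W ∧ y ∈ W ∧ IsIntegral W.toScheme := fun y => by
    have := hreg y
    have : IsDomain (Y.presheaf.stalk y) := CAlg1.isDomain_regular _
    exact An92.Rat.exists_integral_nhd y
  choose W hW using hint
  have hcov : iSup W = ⊤ := top_le_iff.1 fun y _ => Opens.mem_iSup.2 ⟨y, (hW y).2.1⟩
  refine (IsZariskiLocalAtTarget.iff_of_iSup_eq_top (P := MorphismProperty.isomorphisms Scheme.{u}) W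
    hcov).2 fun y => ?_
  have := (hW y).2.2
  show IsIso (f ∣_ W y)
  have hfac : (f ∣_ W y) ≫ (W y).ι ≫ h = (f ⁻¹ᵁ W y).ι ≫ f ≫ h := by
    rw [← Category.assoc, morphismRestrict_ι, Category.assoc]
  have : Flat ((f ∣_ W y) ≫ (W y).ι ≫ h) := by rw [hfac]; infer_instance
  have : LocallyOfFiniteType ((f ∣_ W y) ≫ (W y).ι ≫ h) := by rw [hfac]; infer_instance
  refine isIso_of_dvr_of_integral (f ∣_ W y) ((W y).ι ≫ h) ?_ ?_
  · let G' : (W y).toScheme.Opens := genOpen ((W y).ι ≫ h)
    have hle : ((W y).ι ''ᵁ G' : Set Y) ⊆ Set.range (genOpen h).ι := by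
      rintro _ ⟨z, hz, rfl⟩
      rw [Scheme.Opens.range_ι]
      exact hz
    have : IsIso (f ∣_ ((W y).ι ''ᵁ G')) :=
      isIso_morphismRestrict_of_isPullback (isPullback_morphismRestrict f (genOpen h)).flip _ hle
    exact ((MorphismProperty.isomorphisms Scheme.{u}).arrow_mk_iso_iff
      (morphismRestrictRestrict f (W y) G')).2 this
  · rw [hfac]
    exact hpre.preimage (f ⁻¹ᵁ W y).ι.isOpenEmbedding

end Groth.Agent.SchBasics.FibreIso
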