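import Groth.Agent.Rig93.FlatDesc
import Groth.Agent.ConsProp93.Approx
import Groth.Agent.LimTop61.IsoDescent
import Groth.Agent.Lim60.Props
import Groth.Agent.Approx60.ProperStage

/-!
Noetherian models of a proper morphism to a smooth scheme with flat source.
-/

set_option autoImplicit false
set_option linter.style.haveILetI false

universe u

set_option backward.isDefEq.respectTransparency false

open CategoryTheory CategoryTheory.Limits AlgebraicGeometry TopologicalSpace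

namespace Groth.Agent.SchBasics.FibreIso

/-- A proper morphism to a smooth scheme, with flat finitely presented source, comes from a noetherian
base. -/
theorem exists_smooth_proper_model {X Y S : Scheme.{u}} [CompactSpace S] [QuasiSeparatedSpace S]
    (f : X ⟶ Y) (h : Y ⟶ S) [IsProper f] [Smooth h] [QuasiCompact h] [QuasiSeparated h]
    [LocallyOfFinitePresentation (f ≫ h)] [Flat (f ≫ h)] :
    ∃ (S' : Scheme.{u}) (_ : IsLocallyNoetherian S') (_ : CompactSpace S') (π : S ⟶ S')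
      (X' Y' : Scheme.{u}) (f' : X' ⟶ Y') (h' : Y' ⟶ S') (_ : IsProper f') (_ : IsProper h → IsProper h') (_ : Smooth h') (_ : QuasiCompact h')
      (_ : Flat (f' ≫ h')) (_ : LocallyOfFinitePresentation (f' ≫ h')) (eX : X ⟶ X') (eY : Y ⟶ Y'),
      IsPullback eX f f' eY ∧ IsPullback eY h h' π := by
  obtain ⟨J, _, _, D, π, hD, ⟨hc⟩⟩ := Approx60.exists_approximation S
  have := hD.aff
  have := hD.compact
  have hqS : ∀ i, QuasiSeparatedSpace (D.obj i) := fun i =>
    have := @Approx60.isLocallyNoetherian_of_lft_toZ _ (hD.lft i)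
    inferInstance
  have hln := fun i => @Approx60.isLocallyNoetherian_of_lft_toZ _ (hD.lft i)
  let p := f ≫ h
  obtain ⟨i, Xi, ui, e, hl, hqc, hqs, he⟩ := Approx60.S0591 D _ hc X p
  obtain ⟨i', Yi, vi, e', hl', hqc', hqs', he'⟩ := Approx60.S0591 D _ hc Y h
  obtain ⟨k, a, b, -⟩ := IsCofilteredOrEmpty.cone_objs i i'
  obtain ⟨eX₀, -, hX₀⟩ := ConsProp93.exists_isPullback_of_fac he (IsPullback.of_hasPullback ui (D.map a))
    (π.app k) ((Cone.mk S π).w a)
  obtain ⟨eY₀, -, hY₀⟩ := ConsProp93.exists_isPullback_of_fac he' (IsPullback.of_hasPullback vi (D.map b))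
    (π.app k) ((Cone.mk S π).w b)
  let a₀ := pullback.snd ui (D.map a)
  let b₀ := pullback.snd vi (D.map b)
  have : CompactSpace ↥(pullback ui (D.map a)) := QuasiCompact.compactSpace_of_compactSpace a₀
  have : QuasiSeparatedSpace ↥(pullback ui (D.map a)) := quasiSeparatedSpace_of_quasiSeparated a₀
  have hw : (f ≫ eY₀) ≫ b₀ = p ≫ π.app k := by rw [Category.assoc, hY₀.w]; rfl
  obtain ⟨j, φ, g, hg, hg'⟩ := LimTop61.exists_hom_descend (D := D) (c := Cone.mk S π) hc a₀ b₀ p eX₀ hX₀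
    (f ≫ eY₀) hw
  obtain ⟨eX₁, heX₁, hX₁⟩ := ConsProp93.exists_isPullback_of_fac hX₀ (IsPullback.of_hasPullback a₀ (D.map φ))
    (π.app j) ((Cone.mk S π).w φ)
  obtain ⟨eY₁, heY₁, hY₁⟩ := ConsProp93.exists_isPullback_of_fac hY₀ (IsPullback.of_hasPullback b₀ (D.map φ))
    (π.app j) ((Cone.mk S π).w φ)
  let a₁ := pullback.snd a₀ (D.map φ)
  let b₁ := pullback.snd b₀ (D.map φ)
  have : Flat (pullback.snd a₁ ((Cone.mk S π).π.app j)) :=
    (LimDesc62.prop_iff_of_isPullback (P := @Flat) hX₁).mp ‹Flat (f ≫ h)›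
  obtain ⟨m₁, ψ₁, hflat⟩ := Rig93.descProp_flat.desc D (Cone.mk S π) hc j a₁
    (inferInstance : LocallyOfFinitePresentation a₁) this
  have : Smooth (pullback.snd b₁ ((Cone.mk S π).π.app j)) :=
    (LimDesc62.prop_iff_of_isPullback (P := @Smooth) hY₁).mp ‹Smooth h›
  obtain ⟨m₂, ψ₂, hsm⟩ := Lim60.descProp_smooth.desc D (Cone.mk S π) hc j b₁
    (inferInstance : LocallyOfFinitePresentation b₁) this
  obtain ⟨m₃, ψ₃, hpr⟩ : ∃ (m₃ : J) (ψ₃ : m₃ ⟶ j), IsProper h → IsProper (pullback.snd b₁ (D.map ψ₃)) := by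
    by_cases hp : IsProper h
    · have := hp
      have : CompactSpace ↥(pullback b₀ (D.map φ)) := QuasiCompact.compactSpace_of_compactSpace b₁
      have : QuasiSeparatedSpace ↥(pullback b₀ (D.map φ)) := quasiSeparatedSpace_of_quasiSeparated b₁
      obtain ⟨l, χ, Xl, Yl, fl, gl, pY, pX, hYl, hXl, hprop⟩ :=
        Approx60.S2074 D (Cone.mk S π) hc j b₁ (𝟙 (D.obj j)) h (𝟙 S) (π.app j) eY₁
          (IsPullback.of_vert_isIso ⟨by simp⟩) hY₁
      refine ⟨l, χ, fun _ => ?_⟩
      have : IsIso gl := hYl.isIso_snd_of_isIso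
      have hsq : IsPullback pX (fl ≫ gl) b₁ (D.map χ) := by
        have h' := hXl.paste_vert hYl
        rwa [Category.comp_id] at h'
      rw [← hsq.isoPullback_inv_snd]
      infer_instance
    · exact ⟨j, 𝟙 j, fun h' => absurd h' hp⟩
  obtain ⟨m₀, χ₁', χ₂', hcomm₀⟩ := IsCofiltered.cospan ψ₁ ψ₂
  obtain ⟨m, χ₀, χ₃, hcomm⟩ := IsCofiltered.cospan (χ₁' ≫ ψ₁) ψ₃
  let χ₁ := χ₀ ≫ χ₁'
  let χ₂ := χ₀ ≫ χ₂'
  let ψ := χ₁ ≫ ψ₁
  have hψ₂ : ψ = χ₂ ≫ ψ₂ := by simp [ψ, χ₁, χ₂, hcomm₀]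
  have hψ₃ : ψ = χ₃ ≫ ψ₃ := by rw [← hcomm]; simp [ψ, χ₁]
  obtain ⟨eX, heX, hX⟩ := ConsProp93.exists_isPullback_of_fac hX₁ (IsPullback.of_hasPullback a₁ (D.map ψ))
    (π.app m) ((Cone.mk S π).w ψ)
  obtain ⟨eY, heY, hY⟩ := ConsProp93.exists_isPullback_of_fac hY₁ (IsPullback.of_hasPullback b₁ (D.map ψ))
    (π.app m) ((Cone.mk S π).w ψ)
  let Am := pullback a₁ (D.map ψ)
  let am : Am ⟶ D.obj m := pullback.snd a₁ (D.map ψ)
  let Bm := pullback b₁ (D.map ψ)
  let bm : Bm ⟶ D.obj m := pullback.snd b₁ (D.map ψ)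
  have hflatm : Flat am := by
    obtain ⟨e₁, -, h₁⟩ := ConsProp93.exists_isPullback_of_fac (IsPullback.of_hasPullback a₁ (D.map ψ))
      (IsPullback.of_hasPullback a₁ (D.map ψ₁)) (D.map χ₁) (D.map_comp χ₁ ψ₁).symm
    exact MorphismProperty.of_isPullback h₁ hflat
  have hsmm : Smooth bm := by
    obtain ⟨e₁, -, h₁⟩ := ConsProp93.exists_isPullback_of_fac (IsPullback.of_hasPullback b₁ (D.map ψ))
      (IsPullback.of_hasPullback b₁ (D.map ψ₂)) (D.map χ₂) (by rw [← D.map_comp, hψ₂])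
    exact MorphismProperty.of_isPullback h₁ hsm
  have hprm : IsProper h → IsProper bm := fun hp => by
    obtain ⟨e₁, -, h₁⟩ := ConsProp93.exists_isPullback_of_fac (IsPullback.of_hasPullback b₁ (D.map ψ))
      (IsPullback.of_hasPullback b₁ (D.map ψ₃)) (D.map χ₃) (by rw [← D.map_comp, hψ₃])
    exact MorphismProperty.of_isPullback h₁ (hpr hp)
  -- the morphism at stage `m`
  have hgj : (pullback.fst a₁ (D.map ψ) ≫ g) ≫ b₀ = (pullback.snd a₁ (D.map ψ) ≫ D.map ψ) ≫ D.map φ := by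
    rw [Category.assoc, hg, pullback.condition (f := a₀), ← Category.assoc, pullback.condition (f := a₁)]
  let g₁ : Am ⟶ pullback b₀ (D.map φ) :=
    pullback.lift (pullback.fst a₁ (D.map ψ) ≫ g) (pullback.snd a₁ (D.map ψ) ≫ D.map ψ) hgj
  let fm : Am ⟶ Bm := pullback.lift g₁ (pullback.snd a₁ (D.map ψ)) (pullback.lift_snd _ _ _)
  have hfm : fm ≫ bm = am := pullback.lift_snd _ _ _
  have e₁ : eX₁ ≫ g = f ≫ eY₀ := by
    rw [← hg']
    congr 1
    apply pullback.hom_ext
    · rw [pullback.lift_fst, heX₁]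
    · rw [pullback.lift_snd]; exact hX₁.w
  have e₂ : eX ≫ fm = f ≫ eY := by
    apply pullback.hom_ext
    · rw [Category.assoc, pullback.lift_fst, Category.assoc, heY]
      apply pullback.hom_ext
      · rw [Category.assoc, pullback.lift_fst, Category.assoc, heY₁, reassoc_of% heX, e₁]
      · rw [Category.assoc, pullback.lift_snd, Category.assoc, hY₁.w, reassoc_of% hX.w,
          (Cone.mk S π).w ψ]
        rfl
    · rw [Category.assoc, pullback.lift_snd, Category.assoc, hY.w, hX.w]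
      exact Category.assoc _ _ _
  have hXf : IsPullback eX f fm eY := by
    refine IsPullback.of_bot ?_ e₂ hY
    rw [hfm]
    exact hX
  have : CompactSpace Am := QuasiCompact.compactSpace_of_compactSpace am
  have : QuasiSeparatedSpace Am := quasiSeparatedSpace_of_quasiSeparated am
  have : CompactSpace Bm := QuasiCompact.compactSpace_of_compactSpace bm
  have : QuasiSeparatedSpace Bm := quasiSeparatedSpace_of_quasiSeparated bm
  have : LocallyOfFiniteType (fm ≫ bm) := by rw [hfm]; infer_instance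
  have : LocallyOfFiniteType fm := locallyOfFiniteType_of_comp fm bm
  obtain ⟨l, χ, Xl, Yl, fl, gl, pY, pX, hYl, hXl, hprop⟩ :=
    Approx60.S2074 D (Cone.mk S π) hc m fm bm f h eY eX hY hXf
  obtain ⟨eYl, heYl, hYl'⟩ := ConsProp93.exists_isPullback_of_fac hY hYl (π.app l) ((Cone.mk S π).w χ)
  let eXl : X ⟶ Xl := hXl.lift eX (f ≫ eYl) (by rw [Category.assoc, heYl, e₂])
  have hXl' : IsPullback eXl f fl eYl :=
    IsPullback.of_right (by rw [hXl.lift_fst, heYl]; exact hXf) (hXl.lift_snd _ _ _) hXl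
  have hXl₂ : IsPullback pX (fl ≫ gl) am (D.map χ) := by
    rw [← hfm]
    exact hXl.paste_vert hYl
  have : Flat (fl ≫ gl) := MorphismProperty.of_isPullback hXl₂ hflatm
  have : LocallyOfFinitePresentation (fl ≫ gl) := MorphismProperty.of_isPullback hXl₂ inferInstance
  have : Smooth gl := MorphismProperty.of_isPullback hYl hsmm
  have : QuasiCompact gl := MorphismProperty.of_isPullback hYl inferInstance
  exact ⟨D.obj l, hln l, inferInstance, π.app l, Xl, Yl, fl, gl, hprop, fun hp => MorphismProperty.of_isPullback hYl (hprm hp), inferInstance, inferInstance,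
    inferInstance, inferInstance, eXl, eYl, hXl', hYl'⟩

end Groth.Agent.SchBasics.FibreIso
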