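import Groth.Prelude.Def_CInt
import Groth.Agent.S1386
import Groth.Agent.S4806
import Groth.Agent.S10861
import Groth.Agent.LimDesc62.Points
import Groth.Agent.SchBasics.FibreIsoDvr
import Groth.Agent.SchBasics.FibreIsoModel
import Groth.Agent.FCx40.Valuative
import Mathlib.AlgebraicGeometry.Morphisms.FlatMono

/-!
Fibrewise isomorphisms: specialization, openness and closedness.
-/

set_option autoImplicit false
set_option linter.style.haveILetI false
set_option backward.isDefEq.respectTransparency.types false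

universe u

open CategoryTheory CategoryTheory.Limits AlgebraicGeometry TopologicalSpace

namespace Groth.Agent.SchBasics.FibreIso

variable {X Y S : Scheme.{u}} (f : X ⟶ Y) (h : Y ⟶ S)

theorem isIso_bc_of_isIso {T : Scheme.{u}} (t : T ⟶ S) [IsIso f] : IsIso (bc f h t) :=
  MorphismProperty.of_isPullback (P := MorphismProperty.isomorphisms Scheme.{u}) (isPullback_bc f h t) ‹IsIso f›

theorem isoAt_iff_isIso_bc {K : Type u} [Field K] (t : Spec (CommRingCat.of K) ⟶ S) (s : S)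
    (ht : ∀ p, t p = s) : IsoAt f h s ↔ IsIso (bc f h t) := by
  refine ⟨fun H => H K t ht, fun H L _ t' ht' => ?_⟩
  have hX : IsPullback (𝟙 X) f f (𝟙 Y) := IsPullback.id_horiz f
  have hY : IsPullback (𝟙 Y) h h (𝟙 S) := IsPullback.id_horiz h
  obtain ⟨Ω, _, a, b, hab⟩ := exists_common_field t t' (𝟙 S) (by
    show t default = t' default; rw [ht, ht'])
  refine (isIso_bc_iff hX hY (a ≫ t) t' b hab).1 ?_
  exact (isIso_bc_iff hX hY (a ≫ t) t a (Category.comp_id _).symm).2 H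

theorem isoAt_iff_fiberMap (s : S) : IsoAt f h s ↔ IsIso (CInt.fiberMap f h s) :=
  isoAt_iff_isIso_bc f h (S.fromSpecResidueField s) s fun _ => Scheme.fromSpecResidueField_apply ..

theorem fiberMap_eq (s : S) : MoreMor.fiberMap f h s = CInt.fiberMap f h s := by
  apply pullback.hom_ext
  · exact (pullback.lift_fst _ _ _).trans (pullback.lift_fst _ _ _).symm
  · exact (pullback.lift_snd _ _ _).trans ((pullback.lift_snd _ _ _).trans (Category.comp_id _)).symm

/-- The case of a noetherian base. -/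
theorem isoAt_of_specializes_noetherian [IsLocallyNoetherian S] [IsProper f] [Smooth h] [Flat (f ≫ h)]
    [LocallyOfFiniteType (f ≫ h)] {η s : S} (hsp : η ⤳ s) (hη : IsoAt f h η) (hs : PreAt f h s) :
    IsoAt f h s := by
  by_cases hne : η = s
  · exact hne ▸ hη
  let O := S.presheaf.stalk s
  obtain ⟨p, hp⟩ : η ∈ Set.range (S.fromSpecStalk s) := by rw [Scheme.range_fromSpecStalk]; exact hsp
  have hp' : PrimeSpectrum.asIdeal (R := O) p ≠ IsLocalRing.maximalIdeal O := fun e => hne (by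
    rw [← hp, show p = IsLocalRing.closedPoint O from PrimeSpectrum.ext e]
    exact Scheme.fromSpecStalk_closedPoint)
  obtain ⟨W, _, _, _, _, hker, hres⟩ := FCx40.exists_dvr_algebra (A := O) p hp'
  let j : Spec (CommRingCat.of W) ⟶ S :=
    Spec.map (CommRingCat.ofHom (algebraMap O W)) ≫ S.fromSpecStalk s
  have hj₀ : j genPt = η := by
    rw [Scheme.Hom.comp_apply, ← hp]
    congr 1
    exact PrimeSpectrum.ext (show Ideal.comap (algebraMap O W) ⊥ = _ from hker)
  have hj₁ : j (IsLocalRing.closedPoint W) = s := by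
    rw [Scheme.Hom.comp_apply, show Spec.map (CommRingCat.ofHom (algebraMap O W)) (IsLocalRing.closedPoint W) =
      IsLocalRing.closedPoint O from PrimeSpectrum.ext ?_]
    · exact Scheme.fromSpecStalk_closedPoint
    · show (IsLocalRing.maximalIdeal W).comap (algebraMap O W) = IsLocalRing.maximalIdeal O
      rw [← hres, ← RingHom.comap_ker, IsLocalRing.ker_residue]
  have hY : IsPullback (pullback.fst h j) (pullback.snd h j) h j := IsPullback.of_hasPullback h j
  have hX : IsPullback (pullback.fst f (pullback.fst h j)) (pullback.snd f (pullback.fst h j)) f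
    (pullback.fst h j) := IsPullback.of_hasPullback _ _
  let fW := pullback.snd f (pullback.fst h j)
  let hW := pullback.snd h j
  have : Flat (fW ≫ hW) := MorphismProperty.of_isPullback (hX.paste_vert hY) ‹Flat (f ≫ h)›
  have : LocallyOfFiniteType (fW ≫ hW) :=
    MorphismProperty.of_isPullback (hX.paste_vert hY) ‹LocallyOfFiniteType (f ≫ h)›
  have hiso : IsIso fW := isIso_of_dvr fW hW ((isoAt_iff hX hY genPt).2 (hj₀.symm ▸ hη))
    (preAt_of_isPullback' hX hY _ (hj₁.symm ▸ hs))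
  rw [← hj₁]
  exact (isoAt_iff hX hY _).1 fun K _ t _ => isIso_bc_of_isIso fW hW t

theorem isoAt_of_specializes_qcqs [CompactSpace S] [QuasiSeparatedSpace S] [IsProper f] [Smooth h]
    [QuasiCompact h] [QuasiSeparated h] [Flat (f ≫ h)] [LocallyOfFinitePresentation (f ≫ h)] {η s : S}
    (hsp : η ⤳ s) (hη : IsoAt f h η) (hs : PreAt f h s) : IsoAt f h s := by
  obtain ⟨S', _, _, π, X', Y', f', h', _, _, _, _, _, _, eX, eY, hX, hY⟩ := exists_smooth_proper_model f h
  exact (isoAt_iff hX hY s).2 (isoAt_of_specializes_noetherian f' h' (hsp.map π.continuous)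
    ((isoAt_iff hX hY η).1 hη) (preAt_of_isPullback hX hY s hs))

theorem exists_isPullback_bc_open {Y₀ X₀ : Scheme.{u}} (i : Y₀ ⟶ Y) [IsOpenImmersion i] {iX : X₀ ⟶ X}
    {f₀ : X₀ ⟶ Y₀} (hX : IsPullback iX f₀ f i) {T : Scheme.{u}} (t : T ⟶ S) :
    ∃ (p : pullback (f₀ ≫ i ≫ h) t ⟶ pullback (f ≫ h) t) (q : pullback (i ≫ h) t ⟶ pullback h t),
      IsPullback p (bc f₀ (i ≫ h) t) (bc f h t) q ∧ IsOpenImmersion q ∧
        Set.range q = pullback.fst h t ⁻¹' Set.range i := by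
  let q : pullback (i ≫ h) t ⟶ pullback h t :=
    pullback.map (i ≫ h) t h t i (𝟙 _) (𝟙 _) (by simp) (by simp)
  have hp₀ : (pullback.fst (f₀ ≫ i ≫ h) t ≫ iX) ≫ f = (bc f₀ (i ≫ h) t ≫ q) ≫ pullback.fst h t := by
    rw [Category.assoc, hX.w, Category.assoc, pullback.lift_fst, reassoc_of% bc_fst f₀ (i ≫ h) t]
  let p := (isPullback_bc f h t).lift _ _ hp₀
  refine ⟨p, q, IsPullback.of_right ?_ ((isPullback_bc f h t).lift_snd _ _ _) (isPullback_bc f h t),
    inferInstance, ?_⟩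
  · rw [IsPullback.lift_fst, pullback.lift_fst]
    exact (isPullback_bc f₀ (i ≫ h) t).paste_horiz hX
  · rw [Scheme.Pullback.range_map]
    simp

theorem isoAt_of_specializes [IsProper f] [Smooth h] [Flat (f ≫ h)] [LocallyOfFinitePresentation (f ≫ h)]
    {η s : S} (hsp : η ⤳ s) (hη : IsoAt f h η) (hs : PreAt f h s) : IsoAt f h s := by
  obtain ⟨S₀, hS₀, hsS₀, -⟩ := exists_isAffineOpen_mem_and_subset (X := S) (U := ⊤) (x := s) trivial
  have hηS₀ : η ∈ S₀ := hsp.mem_open S₀.2 hsS₀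
  have hY := (isPullback_morphismRestrict h S₀).flip
  have hX := (isPullback_morphismRestrict f (h ⁻¹ᵁ S₀)).flip
  let f₁ := f ∣_ (h ⁻¹ᵁ S₀)
  let h₁ := h ∣_ S₀
  have : Flat (f₁ ≫ h₁) := MorphismProperty.of_isPullback (hX.paste_vert hY) ‹Flat (f ≫ h)›
  have : LocallyOfFinitePresentation (f₁ ≫ h₁) :=
    MorphismProperty.of_isPullback (hX.paste_vert hY) ‹LocallyOfFinitePresentation (f ≫ h)›
  have : IsAffine S₀.toScheme := hS₀
  suffices IsoAt f₁ h₁ ⟨s, hsS₀⟩ from (isoAt_iff hX hY ⟨s, hsS₀⟩).1 this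
  have hη₁ : IsoAt f₁ h₁ ⟨η, hηS₀⟩ := (isoAt_iff hX hY ⟨η, hηS₀⟩).2 hη
  have hs₁ : PreAt f₁ h₁ ⟨s, hsS₀⟩ := preAt_of_isPullback' hX hY _ hs
  have hsp₁ : (⟨η, hηS₀⟩ : S₀.toScheme) ⤳ ⟨s, hsS₀⟩ := by
    exact (subtype_specializes_iff _ _).2 hsp
  intro K _ t ht
  let U : (h ⁻¹ᵁ S₀).toScheme.affineOpens → (pullback h₁ t).Opens :=
    fun A => pullback.fst h₁ t ⁻¹ᵁ A.1
  have hU : iSup U = ⊤ := by
    refine top_le_iff.1 fun z _ => ?_
    obtain ⟨_, ⟨A, hA, rfl⟩, hzA, -⟩ := (h ⁻¹ᵁ S₀).toScheme.isBasis_affineOpens.exists_subset_of_mem_open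
      (Set.mem_univ (pullback.fst h₁ t z)) isOpen_univ
    exact Opens.mem_iSup.2 ⟨⟨A, hA⟩, hzA⟩
  refine (IsZariskiLocalAtTarget.iff_of_iSup_eq_top (P := MorphismProperty.isomorphisms Scheme.{u}) U
    hU).2 fun A => ?_
  show IsIso (bc f₁ h₁ t ∣_ U A)
  have hXA := (isPullback_morphismRestrict f₁ A.1).flip
  let fA := f₁ ∣_ A.1
  let hA := A.1.ι ≫ h₁
  have hfac : fA ≫ hA = (f₁ ⁻¹ᵁ A.1).ι ≫ f₁ ≫ h₁ := by
    rw [← Category.assoc, morphismRestrict_ι, Category.assoc]
  have : Flat (fA ≫ hA) := by rw [hfac]; infer_instance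
  have : LocallyOfFinitePresentation (fA ≫ hA) := by rw [hfac]; infer_instance
  have : IsAffine A.1.toScheme := A.2
  have hηA : IsoAt fA hA ⟨η, hηS₀⟩ := fun L _ t' ht' => by
    obtain ⟨p, q, hp, -, -⟩ := exists_isPullback_bc_open f₁ h₁ A.1.ι hXA t'
    exact MorphismProperty.of_isPullback (P := MorphismProperty.isomorphisms Scheme.{u}) hp (hη₁ L t' ht')
  have hsA : PreAt fA hA ⟨s, hsS₀⟩ := fun L _ t' ht' => by
    obtain ⟨p, q, hp, hq, -⟩ := exists_isPullback_bc_open f₁ h₁ A.1.ι hXA t'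
    have := hs₁ L t' ht'
    have : IsOpenImmersion p := MorphismProperty.of_isPullback hp.flip hq
    constructor
    have h1 := (PreirreducibleSpace.isPreirreducible_univ
      (X := ↥(pullback (f₁ ≫ h₁) t'))).preimage p.isOpenEmbedding
    rwa [Set.preimage_univ] at h1
  have := isoAt_of_specializes_qcqs fA hA hsp₁ hηA hsA K t ht
  obtain ⟨p, q, hp, hq, hrange⟩ := exists_isPullback_bc_open f₁ h₁ A.1.ι hXA t
  refine isIso_morphismRestrict_of_isPullback hp (U A) ?_
  rw [hrange, Scheme.Opens.range_ι]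
  exact subset_rfl

/-- All fibres being isomorphisms gives an isomorphism. -/
theorem isIso_of_forall_isoAt [Smooth h] [IsProper f] [Flat (f ≫ h)] [LocallyOfFinitePresentation (f ≫ h)]
    (H : ∀ s, IsoAt f h s) : IsIso f := by
  have : LocallyOfFinitePresentation f := LimDesc62.lfp_of_comp f h
  have hflat : Flat f := by
    rw [Flat.iff_flat_stalkMap]
    intro x
    refine (((S1386.result f h).1 x).1 ⟨Flat.stalkMap (f ≫ h) x, ?_⟩).2
    have : IsIso (MoreMor.fiberMap f h (h (f x))) := by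
      rw [fiberMap_eq]
      exact (isoAt_iff_fiberMap f h _).1 (H _)
    exact Flat.stalkMap _ _
  have hfib : ∀ y : Y, IsIso (f.fiberToSpecResidueField y) := fun y => by
    let t := Y.fromSpecResidueField y ≫ h
    let ℓ : Spec (Y.residueField y) ⟶ pullback h t :=
      pullback.lift (Y.fromSpecResidueField y) (𝟙 _) (by simp [t])
    have hb := isPullback_bc f h t
    have hℓ : ℓ ≫ pullback.fst h t = Y.fromSpecResidueField y := pullback.lift_fst _ _ _
    have hp₀ : f.fiberι y ≫ f = (f.fiberToSpecResidueField y ≫ ℓ) ≫ pullback.fst h t := by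
      rw [Category.assoc, hℓ]
      exact f.fiber_fac y
    have hp : IsPullback (hb.lift _ _ hp₀) (f.fiberToSpecResidueField y) (bc f h t) ℓ := by
      refine IsPullback.of_right ?_ (hb.lift_snd _ _ _) hb
      rw [hb.lift_fst, hℓ]
      exact IsPullback.of_hasPullback f (Y.fromSpecResidueField y)
    refine MorphismProperty.of_isPullback (P := MorphismProperty.isomorphisms Scheme.{u}) hp ?_
    exact H (h y) (Y.residueField y) t fun p => by
      rw [Scheme.Hom.comp_apply, Scheme.fromSpecResidueField_apply]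
  have : IsClosedImmersion f := (S4806.result f).2 fun y => .inr (hfib y)
  have : IsOpenImmersion f := IsOpenImmersion.of_flat_of_mono f
  have : Surjective f := ⟨fun y => by
    have := hfib y
    let z : f.fiber y := inv (f.fiberToSpecResidueField y) default
    exact ⟨f.fiberι y z, (f.range_fiberι y).le ⟨z, rfl⟩⟩⟩
  exact (isIso_iff_isOpenImmersion_and_surjective f).2 ⟨inferInstance, inferInstance⟩

theorem isIso_restrict_of_forall_isoAt [Smooth h] [IsProper f] [Flat (f ≫ h)]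
    [LocallyOfFinitePresentation (f ≫ h)] (U : S.Opens) (H : ∀ s ∈ U, IsoAt f h s) :
    IsIso (f ∣_ (h ⁻¹ᵁ U)) := by
  have hY := (isPullback_morphismRestrict h U).flip
  have hX := (isPullback_morphismRestrict f (h ⁻¹ᵁ U)).flip
  have : Flat ((f ∣_ (h ⁻¹ᵁ U)) ≫ (h ∣_ U)) :=
    MorphismProperty.of_isPullback (hX.paste_vert hY) ‹Flat (f ≫ h)›
  have : LocallyOfFinitePresentation ((f ∣_ (h ⁻¹ᵁ U)) ≫ (h ∣_ U)) :=
    MorphismProperty.of_isPullback (hX.paste_vert hY) ‹LocallyOfFinitePresentation (f ≫ h)›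
  exact isIso_of_forall_isoAt _ _ fun s => (isoAt_iff hX hY s).2 (H s.1 s.2)

theorem isoAt_of_isIso_restrict (U : S.Opens) [IsIso (f ∣_ (h ⁻¹ᵁ U))] {s : S} (hs : s ∈ U) : IsoAt f h s :=
  (isoAt_iff (isPullback_morphismRestrict f (h ⁻¹ᵁ U)).flip (isPullback_morphismRestrict h U).flip
    (⟨s, hs⟩ : U.toScheme)).1 fun _ _ t _ => isIso_bc_of_isIso _ _ t

theorem isOpen_isoAt [Smooth h] [IsProper h] [IsProper (f ≫ h)] [Flat (f ≫ h)]
    [LocallyOfFinitePresentation (f ≫ h)] : IsOpen {s : S | IsoAt f h s} := by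
  have : IsProper f := IsProper.of_comp f h
  have : LocallyOfFinitePresentation f := LimDesc62.lfp_of_comp f h
  rw [isOpen_iff_forall_mem_open]
  intro s hs
  have hfs : IsClosedImmersion (CohIII.fiberMapOver f (f ≫ h) h rfl s) := by
    have := (isoAt_iff_fiberMap f h s).1 hs
    exact inferInstanceAs (IsClosedImmersion (CInt.fiberMap f h s))
  obtain ⟨S₁, hsS₁, hci⟩ := (S10861.result f (f ≫ h) h rfl s).2 hfs
  let E : Set X := {x | (h.stalkMap (f x)).hom.Flat ∧ (f.stalkMap x).hom.Flat}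
  have hE : IsOpen E := (S1386.result f h).2
  let Z : Set S := (f ≫ h) '' Eᶜ
  have hZ : IsClosed Z := (f ≫ h).isClosedMap _ hE.isClosed_compl
  have hsZ : s ∉ Z := by
    rintro ⟨x, hx, rfl⟩
    refine hx (((S1386.result f h).1 x).1 ⟨Flat.stalkMap (f ≫ h) x, ?_⟩)
    have : IsIso (MoreMor.fiberMap f h (h (f x))) := by
      rw [fiberMap_eq]
      exact (isoAt_iff_fiberMap f h _).1 hs
    exact Flat.stalkMap _ _
  let S₂ : S.Opens := S₁ ⊓ ⟨Zᶜ, hZ.isOpen_compl⟩
  let W := h ⁻¹ᵁ S₂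
  have hW : W ≤ h ⁻¹ᵁ S₁ := fun y hy => hy.1
  have : IsClosedImmersion (f ∣_ W) := by
    have h1 : IsClosedImmersion (f ∣_ (h ⁻¹ᵁ S₁) ∣_ ((h ⁻¹ᵁ S₁).ι ⁻¹ᵁ W)) :=
      IsZariskiLocalAtTarget.restrict hci _
    have h2 := (MorphismProperty.arrow_mk_iso_iff (P := @IsClosedImmersion)
      (morphismRestrictRestrict f (h ⁻¹ᵁ S₁) ((h ⁻¹ᵁ S₁).ι ⁻¹ᵁ W))).1 h1
    rwa [Scheme.Hom.image_preimage_eq_opensRange_inf, Scheme.Opens.opensRange_ι, inf_eq_right.2 hW] at h2
  have : Flat (f ∣_ W) := by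
    rw [Flat.iff_flat_stalkMap]
    intro x
    have hx : f.stalkMap x.1 |>.hom.Flat := by
      by_contra hn
      exact x.2.2 ⟨x.1, fun hE' => hn hE'.2, rfl⟩
    have := RingHom.toMorphismProperty_respectsIso_iff.1 RingHom.Flat.respectsIso
    exact ((RingHom.toMorphismProperty RingHom.Flat).arrow_mk_iso_iff (morphismRestrictStalkMap f W x)).2 hx
  have : IsOpenImmersion (f ∣_ W) := IsOpenImmersion.of_flat_of_mono _
  let B : Set Y := W.ι '' (Set.range (f ∣_ W))ᶜ
  have hBc : ∀ y ∈ W, y ∈ closure B → y ∈ B := by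
    intro y hy hcl
    have hc : IsClosed (Set.range (f ∣_ W))ᶜ := (f ∣_ W).isOpenEmbedding.isOpen_range.isClosed_compl
    have : (⟨y, hy⟩ : W.toScheme) ∈ closure (Set.range (f ∣_ W))ᶜ := by
      rw [W.ι.isOpenEmbedding.isInducing.closure_eq_preimage_closure_image]
      exact hcl
    exact ⟨_, hc.closure_subset this, rfl⟩
  let Z₃ : Set S := h '' closure B
  have hZ₃ : IsClosed Z₃ := h.isClosedMap _ isClosed_closure
  have hsS₂ : s ∈ S₂ := ⟨hsS₁, hsZ⟩
  have hsurj : ∀ y : Y, h y = s → ∃ x, f x = y := fun y hy => by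
    subst hy
    have := (isoAt_iff_fiberMap f h (h y)).1 hs
    obtain ⟨z, hz⟩ := (CInt.fiberMap f h (h y)).surjective (h.asFiber y)
    refine ⟨(f ≫ h).fiberι (h y) z, ?_⟩
    have e : CInt.fiberMap f h (h y) ≫ h.fiberι (h y) = (f ≫ h).fiberι (h y) ≫ f :=
      pullback.lift_fst _ _ _
    calc f ((f ≫ h).fiberι (h y) z) = ((f ≫ h).fiberι (h y) ≫ f) z := rfl
      _ = h.fiberι (h y) (CInt.fiberMap f h (h y) z) := by rw [← e]; rfl
      _ = y := by rw [hz]; exact h.fiberι_asFiber y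
  have hsZ₃ : s ∉ Z₃ := by
    rintro ⟨y, hy, rfl⟩
    obtain ⟨w, hw, hwy⟩ := hBc y hsS₂ hy
    obtain ⟨x, hx⟩ := hsurj y rfl
    refine hw ⟨⟨x, show f x ∈ W by rw [hx]; exact hsS₂⟩, Subtype.ext ?_⟩
    rw [morphismRestrict_base_coe]
    exact hx.trans hwy.symm
  let S₃ : S.Opens := S₂ ⊓ ⟨Z₃ᶜ, hZ₃.isOpen_compl⟩
  refine ⟨S₃, fun t ht => ?_, S₃.2, hsS₂, hsZ₃⟩
  have hW₃ : h ⁻¹ᵁ S₃ ≤ W := fun y hy => hy.1
  have h3 : IsOpenImmersion (f ∣_ (h ⁻¹ᵁ S₃)) := by
    have h1 : IsOpenImmersion (f ∣_ W ∣_ (W.ι ⁻¹ᵁ (h ⁻¹ᵁ S₃))) := inferInstance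
    have h2 := (MorphismProperty.arrow_mk_iso_iff (P := @IsOpenImmersion)
      (morphismRestrictRestrict f W (W.ι ⁻¹ᵁ (h ⁻¹ᵁ S₃)))).1 h1
    rwa [Scheme.Hom.image_preimage_eq_opensRange_inf, Scheme.Opens.opensRange_ι, inf_eq_right.2 hW₃] at h2
  have : Surjective (f ∣_ (h ⁻¹ᵁ S₃)) := ⟨fun y => by
    by_contra hne
    refine y.2.2 ⟨y.1, subset_closure ⟨⟨y.1, hW₃ y.2⟩, ?_, rfl⟩, rfl⟩
    rintro ⟨x, hx⟩
    have hx' : f x.1 = y.1 := (morphismRestrict_base_coe f W x).symm.trans (congrArg Subtype.val hx)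
    exact hne ⟨⟨x.1, show f x.1 ∈ h ⁻¹ᵁ S₃ by rw [hx']; exact y.2⟩,
      Subtype.ext (by rw [morphismRestrict_base_coe]; exact hx')⟩⟩
  have : IsIso (f ∣_ (h ⁻¹ᵁ S₃)) := (isIso_iff_isOpenImmersion_and_surjective _).2 ⟨h3, this⟩
  exact isoAt_of_isIso_restrict f h S₃ ht

theorem isClopen_isoAt [Smooth h] [IsProper h] [IsProper (f ≫ h)] [Flat (f ≫ h)]
    [LocallyOfFinitePresentation (f ≫ h)] (hpre : ∀ s, PreAt f h s) :
    IsClopen {s : S | IsoAt f h s} := by
  have : IsProper f := IsProper.of_comp f h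
  refine ⟨?_, isOpen_isoAt f h⟩
  rw [← isOpen_compl_iff, isOpen_iff_forall_mem_open]
  intro s hs
  obtain ⟨S₀, hS₀, hsS₀, -⟩ := exists_isAffineOpen_mem_and_subset (X := S) (U := ⊤) (x := s) trivial
  have hY := (isPullback_morphismRestrict h S₀).flip
  have hX := (isPullback_morphismRestrict f (h ⁻¹ᵁ S₀)).flip
  let f₁ := f ∣_ (h ⁻¹ᵁ S₀)
  let h₁ := h ∣_ S₀
  have : Flat (f₁ ≫ h₁) := MorphismProperty.of_isPullback (hX.paste_vert hY) ‹Flat (f ≫ h)›
  have : LocallyOfFinitePresentation (f₁ ≫ h₁) :=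
    MorphismProperty.of_isPullback (hX.paste_vert hY) ‹LocallyOfFinitePresentation (f ≫ h)›
  have : IsAffine S₀.toScheme := hS₀
  obtain ⟨S', _, _, π, X', Y', f', h', _, hproper, _, _, _, _, eX, eY, hX', hY'⟩ := exists_smooth_proper_model f₁ h₁
  have : LocallyOfFiniteType h' := inferInstance
  let U₀ : Set S₀.toScheme := {t | IsoAt f₁ h₁ t}
  have hU₀ : U₀ = {t : S₀.toScheme | IsoAt f h t.1} := Set.ext fun t => isoAt_iff hX hY t
  have hU₀' : U₀ = π ⁻¹' {t | IsoAt f' h' t} := Set.ext fun t => isoAt_iff hX' hY' t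
  have hopen : IsOpen U₀ := by
    rw [hU₀]
    exact (isOpen_isoAt f h).preimage continuous_subtype_val
  have hstable : StableUnderSpecialization U₀ := fun a b hab ha => by
    rw [hU₀] at ha ⊢
    exact isoAt_of_specializes f h (hab.map continuous_subtype_val) ha (hpre _)
  have hclosed : IsClosed U₀ := by
    let e : S₀.toScheme ≅ Spec Γ(S₀.toScheme, ⊤) := S₀.toScheme.isoSpec
    let V₀ : Set (PrimeSpectrum Γ(S₀.toScheme, ⊤)) := e.inv ⁻¹' U₀
    have : NoetherianSpace S' := by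
      have : IsNoetherian S' := { }
      infer_instance
    have : QuasiCompact π := QuasiCompact.of_comp π (terminal.from S')
    have : IsProper h' := hproper inferInstance
    let V : Set S' := {t | IsoAt f' h' t}
    have hVo : IsOpen V := isOpen_isoAt f' h'
    have hc : IsCompact U₀ := by
      rw [hU₀']
      exact QuasiCompact.isCompact_preimage V hVo (NoetherianSpace.isCompact V)
    have hV₀o : IsOpen V₀ := hopen.preimage e.inv.continuous
    have hV₀ : V₀ = e.hom '' U₀ :=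
      (congrFun (Set.image_eq_preimage_of_inverse (f := e.hom) (g := e.inv)
        (fun x => by rw [← Scheme.Hom.comp_apply, Iso.hom_inv_id]; rfl)
        (fun x => by rw [← Scheme.Hom.comp_apply, Iso.inv_hom_id]; rfl)) U₀).symm
    have hc' : IsCompact V₀ := hV₀ ▸ hc.image e.hom.continuous
    have hcl := PrimeSpectrum.isClosed_of_stableUnderSpecialization_of_isConstructible
      (hstable.preimage e.inv.continuous) ((hc'.isRetrocompact hV₀o).isConstructible hV₀o)
    have hpre₂ : U₀ = e.hom ⁻¹' V₀ := by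
      ext x
      show x ∈ U₀ ↔ e.inv (e.hom x) ∈ U₀
      rw [← Scheme.Hom.comp_apply, Iso.hom_inv_id]
      rfl
    rw [hpre₂]
    exact hcl.preimage e.hom.continuous
  refine ⟨Subtype.val '' U₀ᶜ, ?_, S₀.2.isOpenMap_subtype_val _ hclosed.isOpen_compl, ⟨⟨s, hsS₀⟩, ?_, rfl⟩⟩
  · rintro _ ⟨t, ht, rfl⟩ h'
    exact ht ((isoAt_iff hX hY t).2 h')
  · exact fun h' => hs ((isoAt_iff hX hY ⟨s, hsS₀⟩).1 h')

end Groth.Agent.SchBasics.FibreIso
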