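import Mathlib.AlgebraicGeometry.Morphisms.FlatDescent
import Mathlib.AlgebraicGeometry.PullbackCarrier
import Mathlib.AlgebraicGeometry.ResidueField
import Mathlib.AlgebraicGeometry.Geometrically.Irreducible

/-!
Base changes of a morphism over a base to field valued points of the base.
-/

set_option autoImplicit false
set_option linter.style.haveILetI false
set_option backward.isDefEq.respectTransparency.types false

universe u

open CategoryTheory CategoryTheory.Limits AlgebraicGeometry TopologicalSpace

namespace Groth.Agent.SchBasics.FibreIso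

variable {X Y S T : Scheme.{u}} (f : X ⟶ Y) (h : Y ⟶ S) (t : T ⟶ S)

/-- The base change of a morphism over `S`. -/
noncomputable def bc : pullback (f ≫ h) t ⟶ pullback h t :=
  pullback.map (f ≫ h) t h t f (𝟙 _) (𝟙 _) (by simp) (by simp)

theorem bc_fst : bc f h t ≫ pullback.fst h t = pullback.fst (f ≫ h) t ≫ f := pullback.lift_fst _ _ _

theorem bc_snd : bc f h t ≫ pullback.snd h t = pullback.snd (f ≫ h) t := by
  rw [bc, pullback.lift_snd, Category.comp_id]

theorem isPullback_bc : IsPullback (pullback.fst (f ≫ h) t) (bc f h t) f (pullback.fst h t) := by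
  refine IsPullback.of_bot ?_ (bc_fst f h t).symm (IsPullback.of_hasPullback h t)
  rw [bc_snd]
  exact IsPullback.of_hasPullback (f ≫ h) t

/-- `f` is an isomorphism on all fibres at `s`. -/
def IsoAt (s : S) : Prop :=
  ∀ (K : Type u) [Field K] (t : Spec (CommRingCat.of K) ⟶ S), (∀ p, t p = s) → IsIso (bc f h t)

/-- The source has preirreducible fibres over all field valued points at `s`. -/
def PreAt (s : S) : Prop :=
  ∀ (K : Type u) [Field K] (t : Spec (CommRingCat.of K) ⟶ S), (∀ p, t p = s) →
    PreirreducibleSpace ↥(pullback (f ≫ h) t)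

theorem preAt_of_geometricallyIrreducible [GeometricallyIrreducible (f ≫ h)] (s : S) : PreAt f h s :=
  fun K _ t _ => by
    have : IrreducibleSpace ↥(pullback (f ≫ h) t) :=
      GeometricallyIrreducible.geometrically_irreducibleSpace t _ _ (IsPullback.of_hasPullback _ _)
    infer_instance

theorem preirreducibleSpace_of_surjective {α β : Type*} [TopologicalSpace α] [TopologicalSpace β]
    [PreirreducibleSpace α] (φ : α → β) (hφ : Continuous φ) (hs : Function.Surjective φ) :
    PreirreducibleSpace β := by
  refine ⟨?_⟩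
  have h := (PreirreducibleSpace.isPreirreducible_univ (X := α)).image φ hφ.continuousOn
  rwa [Set.image_univ, hs.range_eq] at h

theorem fpqc_of_field {K L : Type u} [Field K] [Field L]
    (g : Spec (CommRingCat.of L) ⟶ Spec (CommRingCat.of K)) :
    (@Surjective ⊓ @Flat ⊓ @QuasiCompact : MorphismProperty Scheme.{u}) g := by
  refine ⟨⟨⟨fun p => ?_⟩, ?_⟩, ?_⟩
  · exact ⟨default, Subsingleton.elim (α := PrimeSpectrum K) _ _⟩
  · rw [← Spec.map_preimage g, HasRingHomProperty.Spec_iff (P := @Flat)]
    let : Algebra K L := RingHom.toAlgebra (Spec.preimage g).hom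
    exact inferInstanceAs (Module.Flat K L)
  · infer_instance

section Transfer

variable {X' Y' S' : Scheme.{u}} {f' : X' ⟶ Y'} {h' : Y' ⟶ S'} {eX : X ⟶ X'} {eY : Y ⟶ Y'} {π : S ⟶ S'}
  {f h}

/-- Pullback squares between base changes at compatible field valued points. -/
theorem exists_isPullback_bc (hX : IsPullback eX f f' eY) (hY : IsPullback eY h h' π)
    {K K' : Type u} [Field K] [Field K'] (t : Spec (CommRingCat.of K) ⟶ S)
    (t' : Spec (CommRingCat.of K') ⟶ S') (g : Spec (CommRingCat.of K) ⟶ Spec (CommRingCat.of K'))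
    (hg : g ≫ t' = t ≫ π) :
    ∃ (p : pullback (f ≫ h) t ⟶ pullback (f' ≫ h') t') (q : pullback h t ⟶ pullback h' t'),
      IsPullback p (bc f h t) (bc f' h' t') q ∧ Surjective p ∧
        (@Surjective ⊓ @Flat ⊓ @QuasiCompact : MorphismProperty Scheme.{u}) q ∧
        IsPullback q (pullback.snd h t) (pullback.snd h' t') g := by
  have hq₀ : (pullback.fst h t ≫ eY) ≫ h' = (pullback.snd h t ≫ g) ≫ t' := by
    rw [Category.assoc, hY.w, Category.assoc, hg, pullback.condition_assoc]
  let q : pullback h t ⟶ pullback h' t' := pullback.lift _ _ hq₀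
  have hq : IsPullback q (pullback.snd h t) (pullback.snd h' t') g := by
    refine IsPullback.of_right ?_ (pullback.lift_snd _ _ _) (IsPullback.of_hasPullback h' t')
    rw [pullback.lift_fst, hg]
    exact (IsPullback.of_hasPullback h t).paste_horiz hY
  have hp₀ : (pullback.fst (f ≫ h) t ≫ eX) ≫ f' = (bc f h t ≫ q) ≫ pullback.fst h' t' := by
    rw [Category.assoc, hX.w, Category.assoc, pullback.lift_fst, reassoc_of% bc_fst f h t]
  let p : pullback (f ≫ h) t ⟶ pullback (f' ≫ h') t' := (isPullback_bc f' h' t').lift _ _ hp₀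
  have hp : IsPullback p (bc f h t) (bc f' h' t') q := by
    refine IsPullback.of_right ?_ ((isPullback_bc f' h' t').lift_snd _ _ _) (isPullback_bc f' h' t')
    rw [IsPullback.lift_fst, pullback.lift_fst]
    exact (isPullback_bc f h t).paste_horiz hX
  have hqP : (@Surjective ⊓ @Flat ⊓ @QuasiCompact : MorphismProperty Scheme.{u}) q :=
    MorphismProperty.of_isPullback hq.flip (fpqc_of_field g)
  have hqs : Surjective q := hqP.1.1
  exact ⟨p, q, hp, MorphismProperty.of_isPullback (P := @Surjective) hp.flip hqs, hqP, hq⟩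

theorem isIso_bc_iff (hX : IsPullback eX f f' eY) (hY : IsPullback eY h h' π)
    {K K' : Type u} [Field K] [Field K'] (t : Spec (CommRingCat.of K) ⟶ S)
    (t' : Spec (CommRingCat.of K') ⟶ S') (g : Spec (CommRingCat.of K) ⟶ Spec (CommRingCat.of K'))
    (hg : g ≫ t' = t ≫ π) : IsIso (bc f h t) ↔ IsIso (bc f' h' t') := by
  obtain ⟨p, q, hp, -, hq, -⟩ := exists_isPullback_bc hX hY t t' g hg
  exact (MorphismProperty.iff_of_isPullback (P := MorphismProperty.isomorphisms Scheme.{u})
    (Q := @Surjective ⊓ @Flat ⊓ @QuasiCompact) hp.flip hq)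

theorem exists_common_field {K L : Type u} [Field K] [Field L] (t : Spec (CommRingCat.of K) ⟶ S)
    (t' : Spec (CommRingCat.of L) ⟶ S') (π : S ⟶ S') (he : π (t default) = t' default) :
    ∃ (Ω : Type u) (_ : Field Ω) (a : Spec (CommRingCat.of Ω) ⟶ Spec (CommRingCat.of K))
      (b : Spec (CommRingCat.of Ω) ⟶ Spec (CommRingCat.of L)), b ≫ t' = (a ≫ t) ≫ π := by
  obtain ⟨z, -, -⟩ := Scheme.Pullback.exists_preimage_pullback (f := t ≫ π) (g := t') default default
    (by rw [Scheme.Hom.comp_apply]; exact he)
  let P := pullback (t ≫ π) t'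
  refine ⟨P.residueField z, inferInstance, P.fromSpecResidueField z ≫ pullback.fst _ _,
    P.fromSpecResidueField z ≫ pullback.snd _ _, ?_⟩
  simp only [Category.assoc, pullback.condition]

theorem apply_eq_of_default {K : Type u} [Field K] (t : Spec (CommRingCat.of K) ⟶ S) (p) :
    t p = t default := congrArg t (Subsingleton.elim (α := PrimeSpectrum K) _ _)

theorem isoAt_iff (hX : IsPullback eX f f' eY) (hY : IsPullback eY h h' π) (s : S) :
    IsoAt f h s ↔ IsoAt f' h' (π s) := by
  constructor
  · intro H L _ t' ht'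
    let t : Spec (CommRingCat.of (S.residueField s)) ⟶ S := S.fromSpecResidueField s
    obtain ⟨Ω, _, a, b, hab⟩ := exists_common_field t t' π (by
      rw [Scheme.fromSpecResidueField_apply, ht'])
    exact (isIso_bc_iff hX hY (a ≫ t) t' b hab).1 (H Ω (a ≫ t) fun p => by
      rw [Scheme.Hom.comp_apply, Scheme.fromSpecResidueField_apply])
  · intro H K _ t ht
    refine (isIso_bc_iff hX hY t (t ≫ π) (𝟙 _) (Category.id_comp _)).2 (H K (t ≫ π) fun p => ?_)
    rw [Scheme.Hom.comp_apply, ht]

theorem preAt_of_isPullback (hX : IsPullback eX f f' eY) (hY : IsPullback eY h h' π) (s : S)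
    (H : PreAt f h s) : PreAt f' h' (π s) := by
  intro L _ t' ht'
  let t : Spec (CommRingCat.of (S.residueField s)) ⟶ S := S.fromSpecResidueField s
  obtain ⟨Ω, _, a, b, hab⟩ := exists_common_field t t' π (by
    rw [Scheme.fromSpecResidueField_apply, ht'])
  obtain ⟨p, -, -, hp, -, -⟩ := exists_isPullback_bc hX hY (a ≫ t) t' b hab
  have := H Ω (a ≫ t) fun p => by rw [Scheme.Hom.comp_apply, Scheme.fromSpecResidueField_apply]
  exact preirreducibleSpace_of_surjective p p.continuous p.surjective

theorem preAt_of_isPullback' (hX : IsPullback eX f f' eY) (hY : IsPullback eY h h' π) (s : S)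
    (H : PreAt f' h' (π s)) : PreAt f h s := by
  intro K _ t ht
  obtain ⟨p, q, hp, -, -, hq⟩ := exists_isPullback_bc hX hY t (t ≫ π) (𝟙 _) (Category.id_comp _)
  have := H K (t ≫ π) fun p => by rw [Scheme.Hom.comp_apply, ht]
  have hiso : IsIso q := by
    exact hq.isIso_fst_of_isIso
  have : IsIso p := hp.isIso_fst_of_isIso
  exact preirreducibleSpace_of_surjective (inv p) (inv p).continuous (inv p).surjective

end Transfer

end Groth.Agent.SchBasics.FibreIso
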