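import Groth.Agent.Var76.OmegaUniv

/-!
Formally unramified morphisms are those for which every derivation of the structure sheaf vanishes.
-/

universe u

open CategoryTheory CategoryTheory.Limits AlgebraicGeometry TopologicalSpace Opposite

set_option backward.isDefEq.respectTransparency false

noncomputable section

namespace Groth.Agent.SchBasics

open Groth.Agent

variable {X Y : Scheme.{u}} {f : X ⟶ Y}

theorem der_app_eq_zero [FormallyUnramified f] {F : X.Modules} (D : OmegaSh.Der f F) (W : X.Opens)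
    (a : Γ(X, W)) : D.app W a = 0 := by
  refine QC70.section_ext F _ _ fun p hp => ?_
  obtain ⟨_, ⟨V, hV, rfl⟩, hpV, -⟩ := Y.isBasis_affineOpens.exists_subset_of_mem_open
    (show f p ∈ (⊤ : Y.Opens) from trivial) (⊤ : Y.Opens).isOpen
  obtain ⟨_, ⟨U, hU, rfl⟩, hpU, hle⟩ := X.isBasis_affineOpens.exists_subset_of_mem_open
    (show p ∈ W ⊓ f ⁻¹ᵁ V from ⟨hp, hpV⟩) (W ⊓ f ⁻¹ᵁ V).isOpen
  have hUW : U ≤ W := hle.trans inf_le_left
  have h : U ≤ f ⁻¹ᵁ V := hle.trans inf_le_right
  refine ⟨U, hUW, hpU, ?_⟩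
  rw [QC70.res_zero, ← Var76.OmegaUniv.Der.res]
  generalize QC70.resO X hUW a = b
  let δ : (OmAff.sectMod F U).Derivation (f.appLE V U h) :=
    ModuleCat.Derivation.mk (fun b => D.app U b) (fun a b => map_add _ a b)
      (fun a b => Var76.OmegaUniv.Der.map_mul D U a b) (fun c => Var76.OmegaUniv.Der.appLE D h c)
  have hsub : Subsingleton (CommRingCat.KaehlerDifferential (f.appLE V U h)) := by
    have hfu := f.formallyUnramified_appLE hV hU h
    letI := (f.appLE V U h).hom.toAlgebra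
    haveI : Algebra.FormallyUnramified Γ(Y, V) Γ(X, U) := hfu
    exact inferInstanceAs (Subsingleton Ω[Γ(X, U)⁄Γ(Y, V)])
  have := δ.desc_d b
  rw [Subsingleton.elim (CommRingCat.KaehlerDifferential.d b) 0, map_zero] at this
  exact this.symm

/-- The derivation `s ↦ d (s|U)` with values in the pushforward of the differentials of an open subscheme. -/
def openDer (f : X ⟶ Y) {U : X.Opens} [QuasiSeparated (U.ι ≫ f)] :
    OmegaSh.Der f ((Scheme.Modules.pushforward U.ι).obj (Omega.sheaf (U.ι ≫ f))) where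
  d {W} := AddMonoidHom.mk' (fun a => OmegaSh.dSect (U.ι ≫ f) _ (U.ι.app W.unop a)) fun a b => by
    rw [map_add]; exact OmegaSh.dSect_add (U.ι ≫ f) _ _ _
  d_mul {W} a b := by
    show OmegaSh.dSect (U.ι ≫ f) _ (U.ι.app W.unop (a * b)) = _
    rw [map_mul, OmegaSh.dSect_mul]
    rfl
  d_map {W W'} g a := by
    show OmegaSh.dSect (U.ι ≫ f) _ (U.ι.app W'.unop (X.presheaf.map g a)) = _
    have hn : U.ι.app W'.unop (X.presheaf.map g a) =
        (U : Scheme).presheaf.map (homOfLE ((Opens.map U.ι.base).map g.unop).le).op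
          (U.ι.app W.unop a) :=
      congr($(Scheme.Hom.naturality U.ι g) a)
    rw [hn, OmegaSh.dSect_map]
    rfl
  d_app {V} c := by
    show OmegaSh.dSect (U.ι ≫ f) _ (U.ι.app (f ⁻¹ᵁ V.unop) (f.app V.unop c)) = 0
    have : U.ι.app (f ⁻¹ᵁ V.unop) (f.app V.unop c) = (U.ι ≫ f).app V.unop c :=
      (congr($(Scheme.Hom.comp_app U.ι f V.unop) c)).symm
    rw [this]
    exact OmegaSh.dSect_app (U.ι ≫ f) _ c

theorem formallyUnramified_of_der
    (h : ∀ (F : X.Modules) (D : OmegaSh.Der f F) (W : X.Opens) (a : Γ(X, W)), D.app W a = 0) :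
    FormallyUnramified f := by
  refine ⟨fun {V} hV {U} hU e => ?_⟩
  haveI : IsAffine U := hU
  haveI : QuasiSeparated (U.ι ≫ f) := .of_comp _ (terminal.from Y)
  set U' : (U : Scheme).Opens := U.ι ⁻¹ᵁ U
  have hU' : IsAffineOpen U' := hU.preimage_of_isOpenImmersion U.ι (by simp)
  have e' : U' ≤ (U.ι ≫ f) ⁻¹ᵁ V := fun y hy => e hy
  haveI hio : IsIso (U.ι.app U) := Scheme.Hom.isIso_app U.ι U (by simp)
  have hd : ∀ b : Γ(U, U'), OmegaSh.dSect (U.ι ≫ f) U' b = 0 := by
    intro b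
    obtain ⟨a, rfl⟩ := (ConcreteCategory.bijective_of_isIso (U.ι.app U)).2 b
    exact h _ (openDer f) U a
  haveI := Omega57.isIso_toSect (U.ι ≫ f) hU' hV e'
  have hz : OmAff.toSect (U.ι ≫ f) V U' e' = 0 :=
    (OmAff.toSect_unique (U.ι ≫ f) V U' e' 0 fun b => (hd b).symm).symm
  have hsub : Subsingleton (CommRingCat.KaehlerDifferential ((U.ι ≫ f).appLE V U' e')) :=
    subsingleton_of_forall_eq 0 fun x =>
      (ConcreteCategory.bijective_of_isIso (OmAff.toSect (U.ι ≫ f) V U' e')).1 (by rw [hz]; rfl)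
  have hfu : ((U.ι ≫ f).appLE V U' e').hom.FormallyUnramified := by
    algebraize [((U.ι ≫ f).appLE V U' e').hom]
    exact ⟨hsub⟩
  have heq : f.appLE V U e = (U.ι ≫ f).appLE V U' e' ≫ inv (U.ι.app U) := by
    rw [IsIso.eq_comp_inv, Scheme.Hom.app_eq_appLE, Scheme.Hom.appLE_comp_appLE]
  rw [heq, CommRingCat.hom_comp]
  exact (RingHom.FormallyUnramified.respectsIso.1 _ (asIso (inv (U.ι.app U))).commRingCatIsoToRingEquiv hfu)

theorem formallyUnramified_iff_der : FormallyUnramified f ↔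
    ∀ (F : X.Modules) (D : OmegaSh.Der f F) (W : X.Opens) (a : Γ(X, W)), D.app W a = 0 :=
  ⟨fun _ _ D W a => der_app_eq_zero D W a, formallyUnramified_of_der⟩

end Groth.Agent.SchBasics
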