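import Mathlib.Algebra.TrivSqZeroExt.Basic
import Mathlib.RingTheory.Smooth.Basic

/-! Derivations extend along formally smooth algebras. -/

universe u

open TrivSqZeroExt

namespace Groth.Agent.SchBasics

theorem exists_derivation_extend_of_formallySmooth {A B M : Type u} [CommRing A] [CommRing B] [Algebra A B]
    [Algebra.FormallySmooth A B] [AddCommGroup M] [Module B M] (δ : A →+ M)
    (hδ : ∀ a b, δ (a * b) = algebraMap A B a • δ b + algebraMap A B b • δ a) :
    ∃ D : B →+ M, (∀ a b, D (a * b) = a • D b + b • D a) ∧ ∀ a, D (algebraMap A B a) = δ a := by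
  letI : Module Bᵐᵒᵖ M := Module.compHom M ((RingHom.id B).fromOpposite fun x y => mul_comm _ _)
  haveI : IsCentralScalar B M := ⟨fun _ _ => rfl⟩
  have h1 : δ 1 = 0 := by
    have := hδ 1 1
    simpa using this
  let ι : A →+* TrivSqZeroExt B M :=
    { toFun := fun a => inl (algebraMap A B a) + inr (δ a)
      map_one' := by simp [h1]
      map_mul' := fun a b => by
        refine TrivSqZeroExt.ext ?_ ?_
        · simp
        · simp [hδ, op_smul_eq_smul, add_comm]
      map_zero' := by simp
      map_add' := fun a b => by refine TrivSqZeroExt.ext ?_ ?_ <;> simp }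
  letI : Algebra A (TrivSqZeroExt B M) := ι.toAlgebra
  let g : TrivSqZeroExt B M →ₐ[A] B :=
    { toRingHom := (fstHom B B M).toRingHom
      commutes' := fun a => by show (inl (algebraMap A B a) + inr (δ a) : TrivSqZeroExt B M).fst = _; simp }
  have hg : Function.Surjective g := fun b => ⟨inl b, fst_inl M b⟩
  have hnil : IsNilpotent (RingHom.ker (g : TrivSqZeroExt B M →+* B)) := by
    refine ⟨2, ?_⟩
    rw [pow_two, Ideal.zero_eq_bot, ← le_bot_iff, Ideal.mul_le]
    intro x hx y hy
    have hx0 : x.fst = 0 := hx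
    have hy0 : y.fst = 0 := hy
    rw [Ideal.mem_bot]
    refine TrivSqZeroExt.ext ?_ ?_
    · simp [hx0, hy0]
    · simp [hx0, hy0, op_smul_eq_smul]
  let L := Algebra.FormallySmooth.liftOfSurjective (AlgHom.id A B) g hg hnil
  have hL : ∀ b, (L b).fst = b := fun b =>
    Algebra.FormallySmooth.liftOfSurjective_apply (AlgHom.id A B) g hg hnil b
  refine ⟨AddMonoidHom.mk' (fun b => (L b).snd) fun a b => by simp, fun a b => ?_, fun a => ?_⟩
  · show (L (a * b)).snd = a • (L b).snd + b • (L a).snd
    rw [map_mul, snd_mul, hL, hL, op_smul_eq_smul]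
  · show (L (algebraMap A B a)).snd = δ a
    rw [AlgHom.commutes]
    show (inl (algebraMap A B a) + inr (δ a) : TrivSqZeroExt B M).snd = _
    simp

end Groth.Agent.SchBasics
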