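import Groth.Prelude.Def_ega3
import Groth.Agent.S9501
import Mathlib.AlgebraicGeometry.Morphisms.FormallyUnramified
import Mathlib.AlgebraicGeometry.Morphisms.FiniteType
import Mathlib.RingTheory.Unramified.LocalRing

set_option autoImplicit false
universe u
open AlgebraicGeometry CategoryTheory Limits IsLocalRing

namespace Groth.Agent.SchBasics

/-- Unramifiedness of a local homomorphism only depends on the quotients by ideals contained in
the ideal generated by the maximal ideal of the base. -/
lemma formallyUnramified_iff_of_surjective {A B A' B' : Type u} [CommRing A] [CommRing B]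
    [CommRing A'] [CommRing B'] [IsLocalRing A] [IsLocalRing B] [IsLocalRing A'] [IsLocalRing B']
    (ψ : A →+* B) [IsLocalHom ψ] (ψ' : A' →+* B') (a : A →+* A') (b : B →+* B')
    (hsq : b.comp ψ = ψ'.comp a) (ha : Function.Surjective a) (hb : Function.Surjective b)
    (hker : RingHom.ker b ≤ (maximalIdeal A).map ψ) (hψ : ψ.EssFiniteType) :
    ψ.FormallyUnramified ↔ ψ'.FormallyUnramified := by
  constructor
  · intro h
    refine RingHom.FormallyUnramified.of_comp (f := a) ?_
    rw [← hsq]
    exact h.comp (.of_surjective hb)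
  intro h
  have hcomp : (b.comp ψ).FormallyUnramified := by
    rw [hsq]; exact RingHom.FormallyUnramified.comp (.of_surjective ha) h
  let := ψ.toAlgebra
  let := (b.comp ψ).toAlgebra
  let := b.toAlgebra
  have : IsScalarTower A B B' := .of_algebraMap_eq fun _ => rfl
  have : Algebra.EssFiniteType A B := hψ
  have : Algebra.FormallyUnramified A B' := hcomp
  have : IsLocalHom (algebraMap A B) := ‹IsLocalHom ψ›
  have : IsLocalHom b := .of_surjective b hb
  have : IsLocalHom (algebraMap A B') := RingHom.isLocalHom_comp b ψ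
  have : Algebra.EssFiniteType A B' :=
    Algebra.EssFiniteType.of_surjective (IsScalarTower.toAlgHom A B B') hb
  change Algebra.FormallyUnramified A B
  rw [Algebra.FormallyUnramified.iff_map_maximalIdeal_eq]
  constructor
  · let ρ : B' →+* ResidueField B := Ideal.Quotient.lift (RingHom.ker b) (residue B) (fun x hx => by
      rw [residue_eq_zero_iff]
      exact (((local_hom_TFAE ψ).out 0 2 rfl rfl).mp ‹IsLocalHom ψ›) (hker hx)) |>.comp
        (RingHom.quotientKerEquivOfSurjective hb).symm.toRingHom
    have hρ : ∀ x, ρ (b x) = residue B x := fun x => by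
      simp only [ρ, RingHom.coe_comp, Function.comp_apply, RingEquiv.toRingHom_eq_coe, RingHom.coe_coe]
      rw [show (RingHom.quotientKerEquivOfSurjective hb).symm (b x) = Ideal.Quotient.mk _ x from
        (RingEquiv.symm_apply_eq _).mpr (RingHom.quotientKerEquivOfSurjective_apply_mk hb x).symm]
      rfl
    let ρ' : B' →ₐ[A] ResidueField B := ⟨ρ, fun r => hρ (ψ r)⟩
    have : Algebra.FormallyUnramified A (ResidueField B) :=
      Algebra.FormallyUnramified.of_surjective ρ' fun y => by
        obtain ⟨x, rfl⟩ := residue_surjective y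
        exact ⟨b x, hρ x⟩
    have : Algebra.FormallyUnramified (ResidueField A) (ResidueField B) :=
      .of_restrictScalars A _ _
    have : Algebra.EssFiniteType A (ResidueField B) := .comp _ B _
    have : Algebra.EssFiniteType (ResidueField A) (ResidueField B) := .of_comp A _ _
    exact Algebra.FormallyUnramified.isSeparable _ _
  · refine le_antisymm (((local_hom_TFAE ψ).out 0 2 rfl rfl).mp ‹IsLocalHom ψ›) fun x hx => ?_
    have h1 := Algebra.FormallyUnramified.map_maximalIdeal (R := A) (S := B')
    have h2 : b x ∈ ((maximalIdeal A).map ψ).map b := by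
      rw [Ideal.map_map]
      rw [show b.comp ψ = algebraMap A B' from rfl, h1]
      exact fun h => hx ((isUnit_map_iff b x).mp h)
    obtain ⟨y, hy, hyx⟩ := (Ideal.mem_map_iff_of_surjective b hb).mp h2
    rw [show x = y + (x - y) by ring]
    exact Ideal.add_mem _ hy (hker (by rw [RingHom.mem_ker, map_sub, hyx, sub_self]))

variable {X Y S : Scheme.{u}}

/-- Being unramified near a point is a condition on the local homomorphism. -/
lemma exists_formallyUnramified_iff_stalkMap (f : X ⟶ Y) [LocallyOfFiniteType f] (x : X) :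
    (∃ U : X.Opens, x ∈ U ∧ FormallyUnramified (U.ι ≫ f)) ↔
      (f.stalkMap x).hom.FormallyUnramified := by
  constructor
  · rintro ⟨U, hx, h⟩
    obtain ⟨y, rfl⟩ : x ∈ Set.range U.ι := by rwa [Scheme.Opens.range_ι]
    have h1 : ((U.ι ≫ f).stalkMap y).hom.FormallyUnramified := FormallyUnramified.stalkMap _ _
    rw [Scheme.Hom.stalkMap_comp] at h1
    exact (RingHom.FormallyUnramified.respectsIso.cancel_right_isIso _ _).mp h1
  intro h
  obtain ⟨V, hV, hxV, -⟩ := exists_isAffineOpen_mem_and_subset (U := ⊤)
    (TopologicalSpace.Opens.mem_top (f x))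
  obtain ⟨U, hU, hxU, hUV⟩ := exists_isAffineOpen_mem_and_subset (U := f ⁻¹ᵁ V) (x := x) hxV
  have hft := LocallyOfFiniteType.finiteType_appLE f hV hU hUV
  algebraize [(f.appLE V U hUV).hom]
  let := TopCat.Presheaf.algebra_section_stalk X.presheaf ⟨x, hxU⟩
  have := hU.isLocalization_stalk ⟨x, hxU⟩
  set q := (hU.primeIdealOf ⟨x, hxU⟩).asIdeal
  have hloc : RingHom.FormallyUnramified
      ((f.stalkMap x).hom.comp (Y.presheaf.germ V (f x) hxV).hom) := by
    refine RingHom.FormallyUnramified.comp ?_ h
    let := TopCat.Presheaf.algebra_section_stalk Y.presheaf ⟨f x, hxV⟩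
    have := hV.isLocalization_stalk ⟨f x, hxV⟩
    exact RingHom.FormallyUnramified.holdsForLocalization (R := Γ(Y, V))
      (Y.presheaf.stalk (f x)) (hV.primeIdealOf ⟨f x, hxV⟩).asIdeal.primeCompl
  have heq : (f.stalkMap x).hom.comp (Y.presheaf.germ V (f x) hxV).hom =
      (algebraMap Γ(X, U) (X.presheaf.stalk x)).comp (algebraMap Γ(Y, V) Γ(X, U)) := by
    rw [← CommRingCat.hom_comp, Scheme.Hom.germ_stalkMap]
    change _ = (X.presheaf.germ U x hxU).hom.comp (f.appLE V U hUV).hom
    rw [← CommRingCat.hom_comp, Scheme.Hom.appLE, Category.assoc, TopCat.Presheaf.germ_res]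
  rw [heq] at hloc
  let e := IsLocalization.algEquiv q.primeCompl (X.presheaf.stalk x) (Localization.AtPrime q)
  have : Algebra.IsUnramifiedAt Γ(Y, V) q := by
    have h2 := RingHom.FormallyUnramified.respectsIso.1 _ e.toRingEquiv hloc
    change Algebra.FormallyUnramified Γ(Y, V) (Localization.AtPrime q)
    rw [← RingHom.formallyUnramified_algebraMap]
    convert h2 using 1
    ext r
    exact (IsScalarTower.algebraMap_apply Γ(Y, V) Γ(X, U) (Localization.AtPrime q) r).trans
      (e.commutes _).symm
  obtain ⟨t, htq, ht⟩ := Algebra.exists_formallyUnramified_of_isUnramifiedAt (R := Γ(Y, V)) q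
  have := hU.isLocalization_basicOpen t
  have hxt : x ∈ X.basicOpen t :=
    (Scheme.mem_basicOpen X t x hxU).mpr (IsLocalization.map_units (X.presheaf.stalk x)
      (⟨t, htq⟩ : q.primeCompl))
  refine ⟨X.basicOpen t, hxt, ?_⟩
  have hle : X.basicOpen t ≤ f ⁻¹ᵁ V := (X.basicOpen_le t).trans hUV
  have h3 : (f.appLE V (X.basicOpen t) hle).hom.FormallyUnramified := by
    have h4 : RingHom.FormallyUnramified (algebraMap Γ(Y, V) (Localization.Away t)) :=
      RingHom.formallyUnramified_algebraMap.mpr ht
    let e' := IsLocalization.algEquiv (Submonoid.powers t) (Localization.Away t) Γ(X, X.basicOpen t)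
    have h5 := RingHom.FormallyUnramified.respectsIso.1 _ e'.toRingEquiv h4
    convert h5 using 1
    rw [IsScalarTower.algebraMap_eq Γ(Y, V) Γ(X, U) (Localization.Away t), ← RingHom.comp_assoc,
      show e'.toRingEquiv.toRingHom.comp (algebraMap Γ(X, U) (Localization.Away t)) =
        algebraMap Γ(X, U) Γ(X, X.basicOpen t) from e'.toAlgHom.comp_algebraMap]
    change _ = (X.presheaf.map (homOfLE (X.basicOpen_le t)).op).hom.comp (f.appLE V U hUV).hom
    rw [← CommRingCat.hom_comp, Scheme.Hom.appLE_map]
  have hW : IsAffineOpen (X.basicOpen t) := hU.basicOpen t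
  have : FormallyUnramified (Spec.map (f.appLE V (X.basicOpen t) hle)) :=
    HasRingHomProperty.Spec_iff.mpr h3
  rw [← MorphismProperty.cancel_left_of_respectsIso (P := @FormallyUnramified) hW.isoSpec.inv,
    ← Category.assoc, hW.isoSpec_inv_ι, ← IsAffineOpen.SpecMap_appLE_fromSpec f hV hW hle]
  exact MorphismProperty.comp_mem _ _ _ this inferInstance

lemma isPullback_fiberMapOver (g : Y ⟶ S) (h : X ⟶ S) (f : X ⟶ Y) (w : f ≫ g = h) (s : S) :
    IsPullback (CohIII.fiberMapOver f h g w s) (h.fiberι s) (g.fiberι s) f := by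
  refine IsPullback.of_right (h₁₂ := g.fiberToSpecResidueField s) (v₁₃ := S.fromSpecResidueField s)
    (h₂₂ := g) ?_ ?_ ((IsPullback.of_hasPullback g (S.fromSpecResidueField s)).flip)
  · have e : CohIII.fiberMapOver f h g w s ≫ g.fiberToSpecResidueField s =
        h.fiberToSpecResidueField s := (pullback.lift_snd _ _ _).trans (Category.comp_id _)
    rw [e, w]
    exact (IsPullback.of_hasPullback h (S.fromSpecResidueField s)).flip
  · exact pullback.lift_fst _ _ _

lemma formallyUnramified_stalkMap_iff_fiber (g : Y ⟶ S) (h : X ⟶ S) (f : X ⟶ Y) (w : f ≫ g = h)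
    [LocallyOfFiniteType f] (s : S) (x' : h.fiber s) :
    (f.stalkMap (h.fiberι s x')).hom.FormallyUnramified ↔
      ((CohIII.fiberMapOver f h g w s).stalkMap x').hom.FormallyUnramified := by
  set φ := CohIII.fiberMapOver f h g w s with hφdef
  have hsq : φ ≫ g.fiberι s = h.fiberι s ≫ f := (isPullback_fiberMapOver g h f w s).w
  have hpt : g.fiberι s (φ x') = f (h.fiberι s x') := by
    rw [← Scheme.Hom.comp_apply, hsq, Scheme.Hom.comp_apply]
  let c : Y.presheaf.stalk (f (h.fiberι s x')) ⟶ Y.presheaf.stalk (g.fiberι s (φ x')) :=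
    (Y.presheaf.stalkCongr (.of_eq hpt.symm)).hom
  refine formallyUnramified_iff_of_surjective (f.stalkMap (h.fiberι s x')).hom (φ.stalkMap x').hom
    (c ≫ (g.fiberι s).stalkMap (φ x')).hom ((h.fiberι s).stalkMap x').hom ?_ ?_
    (Groth.Agent.S9501.result h s x').1 ?_ (LocallyOfFiniteType.stalkMap f _)
  · rw [← CommRingCat.hom_comp, ← CommRingCat.hom_comp, Category.assoc]
    congr 1
    have e := Scheme.Hom.stalkMap_congr_hom _ _ hsq.symm x'
    rw [Scheme.Hom.stalkMap_comp, Scheme.Hom.stalkMap_comp] at e
    exact e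
  · rw [CommRingCat.hom_comp, RingHom.coe_comp]
    exact ((g.fiberι s).stalkMap_surjective (φ x')).comp
      (ConcreteCategory.bijective_of_isIso c).surjective
  · rw [(Groth.Agent.S9501.result h s x').2, Ideal.map_le_iff_le_comap]
    intro r hr
    subst w
    rw [Ideal.mem_comap, Scheme.Hom.stalkMap_comp]
    exact Ideal.mem_map_of_mem (f.stalkMap (Scheme.Hom.fiberι (f ≫ g) s x')).hom
      fun hu => hr ((g.toLRSHom.prop (f (Scheme.Hom.fiberι (f ≫ g) s x'))).map_nonunit r hu)

end Groth.Agent.SchBasics
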