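import Groth.Agent.SchBasics.FibreJacobian
import Groth.Agent.S4578

/-!
Sections of square-zero surjections onto a geometrically regular closed fibre.
-/

set_option autoImplicit false
set_option linter.style.haveILetI false
set_option backward.isDefEq.respectTransparency.types false

universe u

open IsLocalRing

namespace Groth.Agent.SchBasics.FibreJac

/-- A geometrically regular local algebra essentially of finite type over a field is formally smooth. -/
theorem formallySmooth_of_geometricallyRegular (k C : Type u) [Field k] [CommRing C] [IsLocalRing C]
    [Algebra k C] [Algebra.EssFiniteType k C] (h : CAlg.IsGeometricallyRegular k C) :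
    Algebra.FormallySmooth k C := by
  let C₀ := Algebra.EssFiniteType.subalgebra k C
  let p : Ideal C₀ := (maximalIdeal C).comap (algebraMap C₀ C)
  have : p.IsPrime := Ideal.comap_isPrime _ _
  have hM : Algebra.EssFiniteType.submonoid k C = p.primeCompl := by
    ext x
    show IsUnit (algebraMap C₀ C x) ↔ ¬ algebraMap C₀ C x ∈ maximalIdeal C
    rw [mem_maximalIdeal, mem_nonunits_iff, not_not]
  have : IsLocalization.AtPrime C p := by
    show IsLocalization p.primeCompl C
    rw [← hM]
    infer_instance
  let e : Localization.AtPrime p ≃ₐ[k] C :=
    (IsLocalization.algEquiv p.primeCompl (Localization.AtPrime p) C).restrictScalars k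
  have hreg : CAlg.IsGeometricallyRegular k (Localization.AtPrime p) := by
    intro k' _ _ hfin
    have := h k' hfin
    exact IsRegularRing.of_ringEquiv (R := TensorProduct k k' C)
      (Algebra.TensorProduct.congr (AlgEquiv.refl (R := k) (A₁ := k')) e.symm).toRingEquiv
  have hC : Algebra.FormallySmooth k (Localization.AtPrime p) :=
    ((S4578.result (k₀ := k) (k := k) p).out 3 0 :
      CAlg.IsGeometricallyRegular k (Localization.AtPrime p) ↔
        Algebra.FormallySmooth k (Localization.AtPrime p)).1 hreg
  exact Algebra.FormallySmooth.of_equiv e

variable {R : Type u} [CommRing R] [IsLocalRing R] {C : Type u} [CommRing C] [IsLocalRing C] [Algebra R C]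
  [Algebra (ResidueField R) C] [IsScalarTower R (ResidueField R) C]

/-- A geometrically regular closed fibre lifts along square-zero surjections of algebras killed by the
maximal ideal. -/
theorem hasSections_of_geometricallyRegular [Algebra.EssFiniteType R C]
    (h : CAlg.IsGeometricallyRegular (ResidueField R) C) :
    HasSections R (maximalIdeal R) C := by
  intro B _ _ hB π hπ hsq
  have : Algebra.EssFiniteType (ResidueField R) C := Algebra.EssFiniteType.of_comp R _ C
  have := formallySmooth_of_geometricallyRegular (ResidueField R) C h
  let : Algebra (ResidueField R) B := (Ideal.Quotient.lift (maximalIdeal R) (algebraMap R B) hB).toAlgebra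
  have : IsScalarTower R (ResidueField R) B := IsScalarTower.of_algebraMap_eq fun _ => rfl
  let π' : B →ₐ[ResidueField R] C :=
    { π.toRingHom with
      commutes' := fun x => by
        obtain ⟨r, rfl⟩ := Ideal.Quotient.mk_surjective x
        show π (algebraMap R B r) = algebraMap (ResidueField R) C (algebraMap R (ResidueField R) r)
        rw [AlgHom.commutes, ← IsScalarTower.algebraMap_apply] }
  have hker : IsNilpotent (RingHom.ker π'.toRingHom) := ⟨2, by
    rw [Submodule.zero_eq_bot, eq_bot_iff, sq, Ideal.mul_le]
    exact fun x hx y hy => Ideal.mem_bot.2 (hsq x y hx hy)⟩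
  refine ⟨(Algebra.FormallySmooth.liftOfSurjective (AlgHom.id _ C) π' hπ hker).restrictScalars R, ?_⟩
  refine AlgHom.ext fun c => ?_
  exact Algebra.FormallySmooth.liftOfSurjective_apply (AlgHom.id (ResidueField R) C) π' hπ hker c

end Groth.Agent.SchBasics.FibreJac
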