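import Groth.Agent.SchBasics.OpenSmoothAlg
import Groth.Agent.SchBasics.FibreSections

/-!
Formal smoothness of a local homomorphism, reduced to a statement about a chart.
-/

set_option autoImplicit false
set_option linter.style.haveILetI false
set_option backward.isDefEq.respectTransparency.types false

universe u

open IsLocalRing TensorProduct

namespace Groth.Agent.SchBasics.OpenSmooth

attribute [local instance] Algebra.TensorProduct.rightAlgebra

variable {R₀ R A₀ O : Type u} [CommRing R₀] [CommRing R] [CommRing A₀] [CommRing O]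
  [Algebra R₀ R] [Algebra R₀ A₀] [Algebra A₀ O] [Algebra R O] [Algebra R₀ O]
  [IsScalarTower R₀ R O] [IsScalarTower R₀ A₀ O] [IsLocalRing R] [IsLocalRing O]
  [IsNoetherianRing R] [IsReduced R] [Algebra.FiniteType R₀ A₀]
  [IsLocalHom (algebraMap R O)]

/-- A local homomorphism localizing a finite type algebra is formally smooth if the closed fibre is
geometrically regular and its generic points lift along every discrete valuation ring. -/
theorem formallySmooth_of_lifts (p : Ideal R₀) [p.IsPrime] [IsLocalization.AtPrime R p]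
    (q₀ : Ideal A₀) [q₀.IsPrime] [IsLocalization.AtPrime O q₀]
    (hreg : letI : Algebra (ResidueField R) (O ⧸ (maximalIdeal R).map (algebraMap R O)) :=
        (Ideal.quotientMap ((maximalIdeal R).map (algebraMap R O)) (algebraMap R O)
          Ideal.le_comap_map).toAlgebra
      CAlg.IsGeometricallyRegular (ResidueField R) (O ⧸ (maximalIdeal R).map (algebraMap R O)))
    (hopen : ∀ (V : Type u) [CommRing V] [IsDomain V] [IsDiscreteValuationRing V] [Algebra R₀ V]
      (z : Ideal (V ⊗[R₀] A₀)), z.IsPrime →
      (∀ r : R₀, algebraMap R₀ V r ∈ maximalIdeal V ↔ r ∈ p) →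
      (∀ v ∈ maximalIdeal V, v ⊗ₜ 1 ∈ z) → (∀ a : A₀, 1 ⊗ₜ a ∈ z → a ∈ q₀) →
      (∀ a : A₀, 1 ⊗ₜ a ∈ z → ∀ b : Ideal A₀, b.IsPrime → b ≤ q₀ →
        b.comap (algebraMap R₀ A₀) = p → a ∈ b) →
      ∃ b : Ideal (V ⊗[R₀] A₀), b.IsPrime ∧ b ≤ z ∧ ∃ v ∈ maximalIdeal V, v ⊗ₜ 1 ∉ b) :
    Algebra.FormallySmooth R O := by
  let A := R ⊗[R₀] A₀
  let μ : A →ₐ[R] O := Algebra.TensorProduct.lift (Algebra.ofId R O) (IsScalarTower.toAlgHom R₀ A₀ O)
    (fun _ _ => Commute.all _ _)
  have hμ₁ : ∀ a : A₀, μ (1 ⊗ₜ a) = algebraMap A₀ O a := fun a => by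
    show algebraMap R O 1 * algebraMap A₀ O a = _
    rw [map_one, one_mul]
  let : Algebra A O := μ.toRingHom.toAlgebra
  have : IsScalarTower R A O := IsScalarTower.of_algebraMap_eq fun r => (μ.commutes r).symm
  have : IsScalarTower A₀ A O := IsScalarTower.of_algebraMap_eq fun a => (hμ₁ a).symm
  let q : Ideal A := (maximalIdeal O).comap (algebraMap A O)
  have : q.IsPrime := Ideal.comap_isPrime _ _
  have hq₀ : q.comap (algebraMap A₀ A) = q₀ := by
    rw [Ideal.comap_comap, ← IsScalarTower.algebraMap_eq]
    exact IsLocalization.AtPrime.comap_maximalIdeal O q₀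
  have hM : Algebra.algebraMapSubmonoid A₀ p.primeCompl ≤ q₀.primeCompl := by
    rintro _ ⟨r, hr, rfl⟩ hmem
    have h1 : IsUnit (algebraMap R O (algebraMap R₀ R r)) :=
      (IsLocalization.map_units R (⟨r, hr⟩ : p.primeCompl)).map _
    rw [← IsScalarTower.algebraMap_apply, IsScalarTower.algebraMap_apply R₀ A₀ O] at h1
    exact (IsLocalization.AtPrime.isUnit_to_map_iff O q₀ _).1 h1 hmem
  have : IsLocalization ((q₀.primeCompl).map (algebraMap A₀ A)) O :=
    IsLocalization.isLocalization_of_submonoid_le A O (Algebra.algebraMapSubmonoid A₀ p.primeCompl)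
      q₀.primeCompl hM
  have : IsLocalization.AtPrime O q := by
    refine IsLocalization.of_le ((q₀.primeCompl).map (algebraMap A₀ A)) q.primeCompl ?_ ?_
    · rintro _ ⟨a, ha, rfl⟩ hmem
      exact ha (hq₀.le hmem)
    · intro r hr
      exact not_not.1 fun h => hr (show algebraMap A O r ∈ maximalIdeal O from h)
  let e : Localization.AtPrime q ≃ₐ[R] O :=
    (IsLocalization.algEquiv q.primeCompl (Localization.AtPrime q) O).restrictScalars R
  let J : Ideal O := (maximalIdeal R).map (algebraMap R O)
  let Φ : Localization.AtPrime q →ₐ[R] O ⧸ J := (Ideal.Quotient.mkₐ R J).comp e.toAlgHom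
  have hΦ : Function.Surjective Φ := (Ideal.Quotient.mkₐ_surjective R J).comp e.surjective
  have hker : RingHom.ker Φ = (maximalIdeal R).map (algebraMap R (Localization.AtPrime q)) := by
    refine le_antisymm (fun x hx => ?_) (Ideal.map_le_iff_le_comap.2 fun r hr => ?_)
    · have h1 : e x ∈ J := Ideal.Quotient.eq_zero_iff_mem.1 hx
      have h2 : J.map e.symm.toAlgHom.toRingHom =
          (maximalIdeal R).map (algebraMap R (Localization.AtPrime q)) := by
        rw [Ideal.map_map]
        exact congrArg (fun g => Ideal.map g (maximalIdeal R)) e.symm.toAlgHom.comp_algebraMap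
      rw [← h2, ← e.symm_apply_apply x]
      exact Ideal.mem_map_of_mem e.symm.toAlgHom.toRingHom h1
    · show Φ (algebraMap R _ r) = 0
      rw [AlgHom.commutes]
      exact Ideal.Quotient.eq_zero_iff_mem.2 (Ideal.mem_map_of_mem _ hr)
  have hJmax : J ≤ maximalIdeal O := Ideal.map_le_iff_le_comap.2 fun r hr h => hr (IsLocalHom.map_nonunit r h)
  have : Nontrivial (O ⧸ J) :=
    Ideal.Quotient.nontrivial_iff.2 (ne_top_of_le_ne_top (maximalIdeal.isMaximal O).ne_top hJmax)
  have : IsLocalRing (O ⧸ J) :=
    IsLocalRing.of_surjective' (Ideal.Quotient.mk J) Ideal.Quotient.mk_surjective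
  let : Algebra (ResidueField R) (O ⧸ J) :=
    (Ideal.quotientMap J (algebraMap R O) Ideal.le_comap_map).toAlgebra
  have : IsScalarTower R (ResidueField R) (O ⧸ J) := IsScalarTower.of_algebraMap_eq fun _ => rfl
  have : Algebra.EssFiniteType A O := Algebra.EssFiniteType.of_isLocalization O q.primeCompl
  have : Algebra.EssFiniteType R O := Algebra.EssFiniteType.comp R A O
  have : Algebra.EssFiniteType R (O ⧸ J) := Algebra.EssFiniteType.comp R O (O ⧸ J)
  have hC := FibreJac.hasSections_of_geometricallyRegular (R := R) (C := O ⧸ J) hreg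
  obtain ⟨a, ha, hstd⟩ := exists_isStandardSmooth_of_lifts q
    (fun r hr => by
      show algebraMap A O (algebraMap R A r) ∈ maximalIdeal O
      rw [← IsScalarTower.algebraMap_apply]
      exact fun h => hr (IsLocalHom.map_nonunit r h))
    hC Φ hΦ hker (fun V _ _ _ _ _ z hz hzπ hzq hzmin => by
      let : Algebra R₀ V := ((algebraMap R V).comp (algebraMap R₀ R)).toAlgebra
      have : IsScalarTower R₀ R V := IsScalarTower.of_algebraMap_eq fun _ => rfl
      let ε : V ⊗[R] A ≃ₐ[V] V ⊗[R₀] A₀ := Algebra.TensorProduct.cancelBaseChange R₀ R V V A₀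
      have hεv : ∀ v : V, ε.symm (v ⊗ₜ 1) = v ⊗ₜ (1 : A) := fun v => by
        rw [AlgEquiv.symm_apply_eq, Algebra.TensorProduct.one_def,
          Algebra.TensorProduct.cancelBaseChange_tmul, one_smul]
      have hεa : ∀ a : A₀, ε.symm (1 ⊗ₜ a) = (1 : V) ⊗ₜ (1 ⊗ₜ a : A) := fun a => by
        rw [AlgEquiv.symm_apply_eq, Algebra.TensorProduct.cancelBaseChange_tmul, one_smul]
      let z₀ : Ideal (V ⊗[R₀] A₀) := z.comap ε.symm.toAlgHom.toRingHom
      have hz₀ : z₀.IsPrime := Ideal.comap_isPrime _ z
      have hp : ∀ r : R₀, algebraMap R₀ V r ∈ maximalIdeal V ↔ r ∈ p := fun r => by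
        rw [IsScalarTower.algebraMap_apply R₀ R V, ← IsLocalization.AtPrime.to_map_mem_maximal_iff R p r]
        exact ⟨fun h h' => h (h'.map _), fun h h' => h (IsLocalHom.map_nonunit _ h')⟩
      obtain ⟨b, hb, hbz, v, hv, hvb⟩ := hopen V z₀ hz₀ hp
        (fun v hv => by
          show ε.symm (v ⊗ₜ 1) ∈ z
          rw [hεv]
          exact hzπ v hv)
        (fun a ha => by
          have h1 : (1 : V) ⊗ₜ (1 ⊗ₜ a : A) ∈ z := by
            rw [← hεa]
            exact ha
          exact hq₀.le (hzq _ h1))
        (fun a ha b hb hbq hbp => by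
          have h1 : (1 : V) ⊗ₜ (1 ⊗ₜ a : A) ∈ z := by
            rw [← hεa]
            exact ha
          have hdisj : Disjoint (Algebra.algebraMapSubmonoid A₀ p.primeCompl : Set A₀) b :=
            Set.disjoint_left.2 fun _ ⟨r, hr, hra⟩ h => hr (hbp.le (show algebraMap R₀ A₀ r ∈ b from hra ▸ h))
          have hbA := IsLocalization.isPrime_of_isPrime_disjoint
            (Algebra.algebraMapSubmonoid A₀ p.primeCompl) A b hb hdisj
          have hle : b.map (algebraMap A₀ A) ≤ q :=
            Ideal.map_le_iff_le_comap.2 (hbq.trans hq₀.ge)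
          have hm : (maximalIdeal R).map (algebraMap R A) ≤ b.map (algebraMap A₀ A) := by
            rw [← IsLocalization.AtPrime.map_eq_maximalIdeal p R, Ideal.map_map,
              show (algebraMap R A).comp (algebraMap R₀ R) = (algebraMap A₀ A).comp (algebraMap R₀ A₀) by
                rw [← IsScalarTower.algebraMap_eq, ← IsScalarTower.algebraMap_eq],
              ← Ideal.map_map]
            exact Ideal.map_mono (Ideal.map_le_iff_le_comap.2 hbp.ge)
          have h2 := hzmin _ h1 _ hbA hle hm
          exact (IsLocalization.under_map_of_isPrime_disjoint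
            (Algebra.algebraMapSubmonoid A₀ p.primeCompl) A hb hdisj).le h2)
      refine ⟨b.comap ε.toAlgHom.toRingHom, Ideal.comap_isPrime _ b, fun t ht => ?_, v, hv, ?_⟩
      · have h3 : ε t ∈ z₀ := hbz ht
        have h4 : ε.symm (ε t) ∈ z := h3
        rwa [AlgEquiv.symm_apply_apply] at h4
      · intro h
        refine hvb ?_
        have h3 : ε (v ⊗ₜ (1 : A)) ∈ b := h
        rwa [← hεv, AlgEquiv.apply_symm_apply] at h3)
  have : Algebra.FormallySmooth R (Localization.Away a) := inferInstance
  let : Algebra (Localization.Away a) O :=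
    (IsLocalization.Away.lift a (g := algebraMap A O)
      (IsLocalization.map_units O (⟨a, ha⟩ : q.primeCompl))).toAlgebra
  have : IsScalarTower A (Localization.Away a) O :=
    IsScalarTower.of_algebraMap_eq fun x => (IsLocalization.Away.lift_eq a _ x).symm
  have : IsScalarTower R (Localization.Away a) O := IsScalarTower.of_algebraMap_eq fun r => by
    rw [IsScalarTower.algebraMap_apply R A (Localization.Away a),
      ← IsScalarTower.algebraMap_apply A (Localization.Away a) O, ← IsScalarTower.algebraMap_apply]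
  have : IsLocalization (q.primeCompl.map (algebraMap A (Localization.Away a))) O :=
    IsLocalization.isLocalization_of_submonoid_le (Localization.Away a) O (Submonoid.powers a)
      q.primeCompl ((Submonoid.powers_le).2 ha)
  have : Algebra.FormallySmooth (Localization.Away a) O :=
    Algebra.FormallySmooth.of_isLocalization (q.primeCompl.map (algebraMap A (Localization.Away a)))
  exact Algebra.FormallySmooth.comp R (Localization.Away a) O

end Groth.Agent.SchBasics.OpenSmooth
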