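import Groth.Prelude.Def_EGA43
import Groth.Agent.E4O.OpenMapDims
import Groth.Agent.SchBasics.OpenSmoothLocal
import Groth.Agent.SchBasics.DiffSmoothLimit

/-!
Smoothness at a point over a reduced local ring from universal openness and a geometrically regular fibre.
-/

set_option autoImplicit false
set_option linter.style.haveILetI false
set_option backward.isDefEq.respectTransparency.types false

universe u

open CategoryTheory CategoryTheory.Limits AlgebraicGeometry TopologicalSpace TensorProduct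

namespace Groth.Agent.SchBasics.OpenSmooth

set_option maxHeartbeats 1000000

/-- A morphism locally of finite type to a locally noetherian scheme is smooth near a point with reduced
image local ring and geometrically regular fibre, if it is universally open at the maximal points of the
fibre specializing to it. -/
theorem smooth_nhd_of_univOpen {X Y : Scheme.{u}} (f : X ⟶ Y) [IsLocallyNoetherian Y]
    [LocallyOfFiniteType f] (x : X) (hred : _root_.IsReduced ↑(Y.presheaf.stalk (f.base x)))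
    (hopen : ∀ x' : X, x' ⤳ x → f.base x' = f.base x →
      (∀ x'' : X, x'' ⤳ x' → f.base x'' = f.base x → x'' = x') → EGA43.IsUnivOpenAt f x')
    (hreg :
      letI φ := (f.stalkMap x).hom
      letI 𝔪 := IsLocalRing.maximalIdeal ↑(Y.presheaf.stalk (f.base x))
      letI : Algebra (IsLocalRing.ResidueField ↑(Y.presheaf.stalk (f.base x))) (↑(X.presheaf.stalk x) ⧸ 𝔪.map φ) :=
        (Ideal.quotientMap (𝔪.map φ) φ Ideal.le_comap_map).toAlgebra
      CAlg.IsGeometricallyRegular (IsLocalRing.ResidueField ↑(Y.presheaf.stalk (f.base x)))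
        (↑(X.presheaf.stalk x) ⧸ 𝔪.map φ)) :
    ∃ U : X.Opens, x ∈ U ∧ Smooth (U.ι ≫ f) := by
  have : LocallyOfFinitePresentation f := E4O.locallyOfFinitePresentation_of_isLocallyNoetherian f
  obtain ⟨_, ⟨V, hV, rfl⟩, hxV, -⟩ :=
    Y.isBasis_affineOpens.exists_subset_of_mem_open (Set.mem_univ (f x)) isOpen_univ
  obtain ⟨_, ⟨U, hU, rfl⟩, hxU, hUV⟩ :=
    X.isBasis_affineOpens.exists_subset_of_mem_open (show x ∈ (f ⁻¹ᵁ V : Set X) from hxV) (f ⁻¹ᵁ V).2
  have hle : U ≤ f ⁻¹ᵁ V := hUV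
  refine ⟨f.smoothLocus, ?_, smooth_smoothLocus_ι f⟩
  let R₀ := Γ(Y, V)
  let A₀ := Γ(X, U)
  let φR : R₀ →+* A₀ := (f.appLE V U hle).hom
  let : Algebra R₀ A₀ := φR.toAlgebra
  have : Algebra.FiniteType R₀ A₀ :=
    HasRingHomProperty.appLE (P := @LocallyOfFiniteType) f inferInstance ⟨V, hV⟩ ⟨U, hU⟩ hle
  have : IsNoetherianRing R₀ := IsLocallyNoetherian.component_noetherian ⟨V, hV⟩
  let R := ↑(Y.presheaf.stalk (f x))
  let O := ↑(X.presheaf.stalk x)
  let : Algebra R₀ R := Y.presheaf.algebra_section_stalk ⟨f x, hxV⟩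
  let : Algebra A₀ O := X.presheaf.algebra_section_stalk ⟨x, hxU⟩
  let p := hV.primeIdealOf ⟨f x, hxV⟩
  let q₀ := hU.primeIdealOf ⟨x, hxU⟩
  have : IsLocalization.AtPrime R p.asIdeal := hV.isLocalization_stalk ⟨f x, hxV⟩
  have : IsLocalization.AtPrime O q₀.asIdeal := hU.isLocalization_stalk ⟨x, hxU⟩
  have : IsNoetherianRing R := IsLocalization.isNoetherianRing p.asIdeal.primeCompl R inferInstance
  have : _root_.IsReduced R := hred
  let : Algebra R O := (f.stalkMap x).hom.toAlgebra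
  have : IsLocalHom (algebraMap R O) := f.toLRSHom.prop x
  let : Algebra R₀ O := ((algebraMap R O).comp (algebraMap R₀ R)).toAlgebra
  have : IsScalarTower R₀ R O := IsScalarTower.of_algebraMap_eq fun _ => rfl
  have : IsScalarTower R₀ A₀ O := IsScalarTower.of_algebraMap_eq fun r => by
    show f.stalkMap x (Y.presheaf.germ V (f x) hxV r) = X.presheaf.germ U x hxU (f.appLE V U hle r)
    rw [Scheme.Hom.germ_stalkMap_apply, Scheme.Hom.appLE, CommRingCat.comp_apply]
    exact (TopCat.Presheaf.germ_res_apply X.presheaf (homOfLE hle) x hxU _).symm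
  show (f.stalkMap x).hom.FormallySmooth
  refine formallySmooth_of_lifts p.asIdeal q₀.asIdeal hreg fun W _ _ _ _ z hz hp hzπ hzq hzmin => ?_
  -- the base change to the valuation ring
  let a : Spec (.of A₀) ⟶ Spec (.of R₀) := Spec.map (CommRingCat.ofHom (algebraMap R₀ A₀))
  let w : Spec (.of W) ⟶ Spec (.of R₀) := Spec.map (CommRingCat.ofHom (algebraMap R₀ W))
  let g : Spec (.of W) ⟶ Y := w ≫ hV.fromSpec
  let c : pullback a w ⟶ pullback f g := pullback.map a w f g hU.fromSpec (𝟙 _) hV.fromSpec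
    (hV.SpecMap_appLE_fromSpec f hU hle) (by simp [g])
  let e : pullback w a ≅ Spec (.of (W ⊗[R₀] A₀)) := pullbackSpecIso R₀ W A₀
  let ℓ : Spec (.of (W ⊗[R₀] A₀)) ⟶ pullback f g := e.inv ≫ (pullbackSymmetry w a).hom ≫ c
  have hc1 : c ≫ pullback.fst f g = pullback.fst a w ≫ hU.fromSpec := pullback.lift_fst _ _ _
  have hc2 : c ≫ pullback.snd f g = pullback.snd a w ≫ 𝟙 _ := pullback.lift_snd _ _ _
  have hs1 : (pullbackSymmetry w a).hom ≫ pullback.fst a w = pullback.snd w a :=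
    pullbackSymmetry_hom_comp_fst w a
  have hs2 : (pullbackSymmetry w a).hom ≫ pullback.snd a w = pullback.fst w a :=
    pullbackSymmetry_hom_comp_snd w a
  have he1 : e.inv ≫ pullback.fst w a = Spec.map (CommRingCat.ofHom (algebraMap W (W ⊗[R₀] A₀))) :=
    pullbackSpecIso_inv_fst' R₀ W A₀
  have he2 : e.inv ≫ pullback.snd w a =
      Spec.map (CommRingCat.ofHom (Algebra.TensorProduct.includeRight : A₀ →ₐ[R₀] W ⊗[R₀] A₀).toRingHom) :=
    pullbackSpecIso_inv_snd R₀ W A₀
  have hfst : ℓ ≫ pullback.fst f g =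
      Spec.map (CommRingCat.ofHom (Algebra.TensorProduct.includeRight : A₀ →ₐ[R₀] W ⊗[R₀] A₀).toRingHom) ≫
        hU.fromSpec := by
    rw [← he2, ← hs1]
    simp only [ℓ, Category.assoc, hc1]
  have hsnd : ℓ ≫ pullback.snd f g =
      Spec.map (CommRingCat.ofHom (algebraMap W (W ⊗[R₀] A₀))) := by
    rw [← he1, ← hs2]
    simp only [ℓ, Category.assoc, hc2, Category.comp_id]
  let zs : PrimeSpectrum (W ⊗[R₀] A₀) := ⟨z, hz⟩
  let a₀ : PrimeSpectrum A₀ :=
    PrimeSpectrum.comap (Algebra.TensorProduct.includeRight : A₀ →ₐ[R₀] W ⊗[R₀] A₀).toRingHom zs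
  let x' : X := hU.fromSpec a₀
  have hℓ : (pullback.fst f g).base (ℓ zs) = x' := by
    rw [← Scheme.Hom.comp_apply, hfst]
    rfl
  have hxq : x = hU.fromSpec q₀ := (hU.fromSpec_primeIdealOf ⟨x, hxU⟩).symm
  have hfx : ∀ b : PrimeSpectrum A₀,
      f (hU.fromSpec b) = hV.fromSpec (PrimeSpectrum.comap φR b) := fun b => by
    rw [← Scheme.Hom.comp_apply, ← hV.SpecMap_appLE_fromSpec f hU hle]
    rfl
  have hpy : hV.fromSpec p = f x := hV.fromSpec_primeIdealOf ⟨f x, hxV⟩
  have hzW : ∀ v : W, v ⊗ₜ[R₀] (1 : A₀) ∈ z ↔ v ∈ IsLocalRing.maximalIdeal W := fun v => by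
    refine ⟨fun hv hu => hz.ne_top (Ideal.eq_top_of_isUnit_mem z hv ?_), hzπ v⟩
    exact hu.map (Algebra.TensorProduct.includeLeftRingHom : W →+* W ⊗[R₀] A₀)
  have hpa : PrimeSpectrum.comap φR a₀ = p := by
    refine PrimeSpectrum.ext (Ideal.ext fun r => ?_)
    show (1 : W) ⊗ₜ[R₀] algebraMap R₀ A₀ r ∈ z ↔ r ∈ p.asIdeal
    rw [Algebra.algebraMap_eq_smul_one, ← TensorProduct.smul_tmul, ← Algebra.algebraMap_eq_smul_one,
      hzW, hp]
  have hspec : x' ⤳ x := by
    rw [hxq]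
    exact Specializes.map ((PrimeSpectrum.le_iff_specializes a₀ q₀).1 fun t ht => hzq t ht)
      hU.fromSpec.continuous
  have hfx' : f.base x' = f.base x := by
    rw [hfx, hpa, hpy]
  have hmin : ∀ x'' : X, x'' ⤳ x' → f.base x'' = f.base x → x'' = x' := by
    intro x'' hx'' hfx''
    have hrg : x'' ∈ Set.range hU.fromSpec := by
      rw [hU.range_fromSpec]
      exact hx''.mem_open U.2 ((hU.range_fromSpec).le ⟨a₀, rfl⟩)
    obtain ⟨b, rfl⟩ : ∃ b : PrimeSpectrum A₀, hU.fromSpec b = x'' := hrg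
    have hb : b ≤ a₀ := (PrimeSpectrum.le_iff_specializes b a₀).2
      (hU.fromSpec.isOpenEmbedding.isInducing.specializes_iff.1 hx'')
    have hbp : PrimeSpectrum.comap φR b = p := by
      refine hV.fromSpec.isOpenEmbedding.injective ?_
      rw [hpy, ← hfx]
      exact hfx''
    refine congrArg hU.fromSpec (PrimeSpectrum.ext (le_antisymm hb fun t ht => ?_))
    exact hzmin t ht b.asIdeal b.2 (hb.trans fun s hs => hzq s hs) (congrArg PrimeSpectrum.asIdeal hbp)
  have huo : EGA43.IsOpenAt (pullback.snd f g).base (ℓ zs) :=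
    hopen x' hspec hfx' hmin _ g (ℓ zs) hℓ
  let η : PrimeSpectrum W := ⟨⊥, Ideal.isPrime_bot⟩
  have hη : (η : Spec (CommRingCat.of W)) ⤳ (pullback.snd f g) (ℓ zs) := by
    rw [← Scheme.Hom.comp_apply, hsnd]
    exact (PrimeSpectrum.le_iff_specializes η _).1 (bot_le : ⊥ ≤ _)
  obtain ⟨x'', hx'', hsp⟩ := (E4O.isOpenAt_iff_forall_exists_specializes.1 huo) η hη
  have hrg : x'' ∈ Set.range ℓ := hsp.mem_open ℓ.isOpenEmbedding.isOpen_range ⟨zs, rfl⟩
  obtain ⟨b, rfl⟩ : ∃ b : PrimeSpectrum (W ⊗[R₀] A₀), ℓ b = x'' := hrg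
  have hb : b ≤ zs := (PrimeSpectrum.le_iff_specializes b zs).2
    (ℓ.isOpenEmbedding.isInducing.specializes_iff.1 hsp)
  rw [← Scheme.Hom.comp_apply, hsnd] at hx''
  obtain ⟨ϖ, hϖ⟩ := IsDiscreteValuationRing.exists_irreducible W
  refine ⟨b.asIdeal, b.2, hb, ϖ, (hϖ.maximalIdeal_eq).ge (Ideal.mem_span_singleton_self ϖ), fun h => ?_⟩
  have h1 : ϖ ∈ (PrimeSpectrum.comap (algebraMap W (W ⊗[R₀] A₀)) b).asIdeal := h
  rw [show PrimeSpectrum.comap (algebraMap W (W ⊗[R₀] A₀)) b = η from hx''] at h1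
  exact hϖ.ne_zero (Ideal.mem_bot.1 h1)

end Groth.Agent.SchBasics.OpenSmooth
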