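import Groth.Prelude.Def_Pi1
import Groth.Prelude.Def_Curv2
import Groth.Agent.S2351
import Groth.Agent.EGA73.IntegralNormal
import Groth.Agent.Div89.Basic

/-!
Birational integral morphisms onto normal integral schemes; the generic fibre of an integral morphism.
-/

set_option autoImplicit false

universe u

open CategoryTheory AlgebraicGeometry TopologicalSpace

namespace Groth.Agent.SchBasics

theorem exists_germ_eq_of_isIntegral {Y : Scheme.{u}} [IsIntegral Y] (hY : Pi1.IsNormalScheme Y)
    {U : Y.Opens} (hU : IsAffineOpen U) {y : Y} (hy : y = genericPoint Y) (hyU : y ∈ U)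
    (w : Y.presheaf.stalk y) (hw : (Y.presheaf.germ U y hyU).hom.IsIntegralElem w) :
    ∃ b, Y.presheaf.germ U y hyU b = w := by
  subst hy
  have : Nonempty U := ⟨⟨_, hyU⟩⟩
  have := functionField_isFractionRing_of_isAffineOpen Y U hU
  have := EGA73.isIntegrallyClosed_sections hY hU
  exact IsIntegrallyClosed.isIntegral_iff.mp (show IsIntegral Γ(Y, U) (w : Y.functionField) from hw)

theorem bijective_app_of_integral_birational {N Y : Scheme.{u}} [IsIntegral N] [IsIntegral Y]
    (hY : Pi1.IsNormalScheme Y) (φ : N ⟶ Y) [IsIntegralHom φ]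
    (hη : φ (genericPoint N) = genericPoint Y) [IsIso (φ.stalkMap (genericPoint N))]
    (U : Y.Opens) (hU : IsAffineOpen U) : Function.Bijective (φ.app U).hom := by
  rcases isEmpty_or_nonempty U with hUe | hUne
  · have : Subsingleton Γ(Y, U) := by
      rw [show U = ⊥ from Opens.ext (Set.isEmpty_coe_sort.mp hUe)]
      infer_instance
    have : Subsingleton Γ(N, φ ⁻¹ᵁ U) := subsingleton_of_zero_eq_one (by
      rw [← map_one (φ.app U).hom, Subsingleton.elim (1 : Γ(Y, U)) 0, map_zero])
    exact ⟨fun a b _ => Subsingleton.elim a b, fun b => ⟨0, Subsingleton.elim _ _⟩⟩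
  have hyU : φ (genericPoint N) ∈ U := by
    rw [hη]
    exact ((genericPoint_spec Y).mem_open_set_iff U.isOpen).mpr (by simpa using hUne)
  have hs : Function.Bijective (φ.stalkMap (genericPoint N)).hom :=
    ConcreteCategory.bijective_of_isIso _
  have hg : ∀ a, (φ.stalkMap (genericPoint N)).hom (Y.presheaf.germ U _ hyU a) =
      N.presheaf.germ (φ ⁻¹ᵁ U) _ hyU ((φ.app U) a) := fun a =>
    congr($(Scheme.Hom.germ_stalkMap φ U (genericPoint N) hyU) a)
  refine ⟨(injective_iff_map_eq_zero _).2 fun a ha => ?_, fun z => ?_⟩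
  · apply germ_injective_of_isIntegral Y _ hyU
    apply hs.1
    rw [hg, map_zero, map_zero]
    exact (congrArg (N.presheaf.germ (φ ⁻¹ᵁ U) (genericPoint N) hyU).hom ha).trans (map_zero _)
  · obtain ⟨w, hw⟩ := hs.2 (N.presheaf.germ (φ ⁻¹ᵁ U) _ hyU z)
    have hint : (Y.presheaf.germ U _ hyU).hom.IsIntegralElem w := by
      obtain ⟨p, hp, hpz⟩ := IsIntegralHom.isIntegral_app φ U hU z
      refine ⟨p, hp, hs.1 ?_⟩
      rw [map_zero, Polynomial.hom_eval₂, hw]
      have h : (φ.stalkMap (genericPoint N)).hom.comp (Y.presheaf.germ U _ hyU).hom =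
          (N.presheaf.germ (φ ⁻¹ᵁ U) _ hyU).hom.comp (φ.app U).hom := RingHom.ext hg
      rw [h, ← Polynomial.hom_eval₂, hpz, map_zero]
    obtain ⟨b, hb⟩ := exists_germ_eq_of_isIntegral hY hU hη hyU w hint
    refine ⟨b, germ_injective_of_isIntegral N _ hyU ?_⟩
    rw [← hw, ← hb]
    exact (hg b).symm

/-- An integral birational morphism to a normal integral scheme is an isomorphism. -/
theorem isIso_of_integral_birational {N Y : Scheme.{u}} [IsIntegral N] [IsIntegral Y]
    (hY : Pi1.IsNormalScheme Y) (φ : N ⟶ Y) [IsIntegralHom φ]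
    (hη : φ (genericPoint N) = genericPoint Y) [IsIso (φ.stalkMap (genericPoint N))] : IsIso φ := by
  show MorphismProperty.isomorphisms Scheme φ
  rw [IsZariskiLocalAtTarget.iff_of_iSup_eq_top (P := MorphismProperty.isomorphisms Scheme) _
    (iSup_affineOpens_eq_top Y)]
  rintro ⟨U, hU⟩
  have : IsAffine U.toScheme := hU
  have : IsAffine (φ ⁻¹ᵁ U).toScheme := hU.preimage φ
  show MorphismProperty.isomorphisms Scheme (φ ∣_ U)
  rw [HasAffineProperty.iff_of_isAffine (P := MorphismProperty.isomorphisms Scheme)]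
  refine ⟨inferInstance, ?_⟩
  have := (ConcreteCategory.isIso_iff_bijective (φ.app U)).2
    (bijective_app_of_integral_birational hY φ hη U hU)
  rw [morphismRestrict_appTop]
  have hh : U.ι ''ᵁ ⊤ = U := U.ι_image_top
  suffices ∀ (W : Y.Opens) (hW : W = U) (V : N.Opens) (e : V = φ ⁻¹ᵁ W),
      IsIso (φ.app W ≫ N.presheaf.map (eqToHom e).op) from this _ hh _ _
  rintro W rfl V rfl
  infer_instance

/-- Only the generic point lies over the generic point, for an integral morphism. -/
theorem preimage_genericPoint_of_isIntegralHom {N X : Scheme.{u}} [IsIntegral N] [IsIntegral X]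
    (ν : N ⟶ X) [IsIntegralHom ν] (hgen : ν (genericPoint N) = genericPoint X) :
    ν.base ⁻¹' {genericPoint X} = {genericPoint N} := by
  obtain ⟨_, ⟨U, hU, rfl⟩, hηU, -⟩ :=
    X.isBasis_affineOpens.exists_subset_of_mem_open (Set.mem_univ (genericPoint X)) isOpen_univ
  replace hU : IsAffineOpen U := hU
  have : Nonempty U := ⟨⟨_, hηU⟩⟩
  refine Set.Subset.antisymm (fun y hy => ?_) (by rintro _ rfl; exact hgen)
  let V := ν ⁻¹ᵁ U
  have hV : IsAffineOpen V := hU.preimage _
  have hyV : y ∈ V := show ν y ∈ U from (Set.mem_singleton_iff.1 hy).symm ▸ hηU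
  have hgV : genericPoint N ∈ V := show ν _ ∈ U from hgen.symm ▸ hηU
  have : Nonempty V := ⟨⟨y, hyV⟩⟩
  let _ : Algebra Γ(X, U) Γ(N, V) := (ν.app U).hom.toAlgebra
  have : Algebra.IsIntegral Γ(X, U) Γ(N, V) := ⟨IsIntegralHom.isIntegral_app ν U hU⟩
  let P := (hV.primeIdealOf ⟨y, hyV⟩).asIdeal
  have hP : P = ⊥ := by
    refine Ideal.eq_bot_of_comap_eq_bot (R := Γ(X, U)) (eq_bot_iff.2 fun a ha => ?_)
    by_contra ha0
    have hmem : ν y ∈ X.basicOpen a := by
      rw [Set.mem_singleton_iff.1 hy]
      refine ((genericPoint_spec X).mem_open_set_iff (X.basicOpen a).isOpen).2 ?_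
      rw [Set.univ_inter, Set.nonempty_iff_ne_empty]
      intro he
      exact ha0 ((basicOpen_eq_bot_iff a).1 (Opens.ext he))
    have h1 : y ∈ N.basicOpen (ν.app U a) := by
      rw [← Scheme.preimage_basicOpen]
      exact hmem
    exact (Div89.mem_basicOpen_iff_notMem ⟨V, hV⟩ y hyV _).1 h1 ha
  refine Set.mem_singleton_iff.2 ((genericPoint_specializes y).antisymm ?_).eq.symm
  rw [Div89.specializes_iff_primeAt_le ⟨V, hV⟩ hgV hyV]
  show P ≤ _
  rw [hP]
  exact bot_le

/-- For a morphism with a bijective residue field map at a point, where both local rings are fields, the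
map of local rings is bijective. -/
theorem isIso_stalkMap_of_residueFieldMap {N X : Scheme.{u}} (ν : N ⟶ X) (p : N)
    (h1 : IsField (N.presheaf.stalk p)) (h2 : IsField (X.presheaf.stalk (ν p)))
    (h : Function.Bijective (ν.residueFieldMap p).hom) : IsIso (ν.stalkMap p) := by
  have hres : ∀ {Z : Scheme.{u}} (z : Z), IsField (Z.presheaf.stalk z) →
      Function.Injective (IsLocalRing.residue (Z.presheaf.stalk z)) := fun z hz => by
    let := hz.toField
    exact RingHom.injective _
  rw [ConcreteCategory.isIso_iff_bijective]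
  refine ⟨?_, fun z => ?_⟩
  · let := h2.toField
    exact RingHom.injective (ν.stalkMap p).hom
  · obtain ⟨r, hr⟩ := h.2 (IsLocalRing.residue _ z)
    obtain ⟨w, rfl⟩ := IsLocalRing.residue_surjective r
    exact ⟨w, hres p h1 hr⟩

/-- The normalization map of an integral scheme at the generic point. -/
theorem normalization_birational (X : Scheme.{u}) [IsIntegral X]
    [QuasiCompact (X.fromSpecStalk (genericPoint X))]
    [QuasiSeparated (X.fromSpecStalk (genericPoint X))] :
    ∃ _ : IsIntegral (Curv2.normalization X), Pi1.IsNormalScheme (Curv2.normalization X) ∧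
      IsIntegralHom (Curv2.normalizationι X) ∧
      (Curv2.normalizationι X).base ⁻¹' {genericPoint X} = {genericPoint (Curv2.normalization X)} ∧
      IsIso ((Curv2.normalizationι X).stalkMap (genericPoint (Curv2.normalization X))) := by
  obtain ⟨hint, hnorm, -, hgen, hbij⟩ := S2351.result X
  have : IsIntegralHom (Curv2.normalizationι X) :=
    inferInstanceAs (IsIntegralHom (X.fromSpecStalk (genericPoint X)).fromNormalization)
  refine ⟨hint, hnorm, this, preimage_genericPoint_of_isIntegralHom _ hgen,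
    isIso_stalkMap_of_residueFieldMap _ _ (Field.toIsField (Curv2.normalization X).functionField) ?_ hbij⟩
  suffices ∀ p : X, p = genericPoint X → IsField (X.presheaf.stalk p) from this _ hgen
  rintro p rfl
  exact Field.toIsField X.functionField

theorem exists_factor_fromSpecStalk {X Y : Scheme.{u}} (f : Y ⟶ X) (y : Y) (x : X) (h : f y = x)
    [IsIso (f.stalkMap y)] :
    ∃ g : Spec (X.presheaf.stalk x) ⟶ Y, g ≫ f = X.fromSpecStalk x := by
  subst h
  refine ⟨Spec.map (inv (f.stalkMap y)) ≫ Y.fromSpecStalk y, ?_⟩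
  rw [Category.assoc, ← Scheme.SpecMap_stalkMap_fromSpecStalk, ← Spec.map_comp_assoc]
  simp

theorem isNormalScheme_of_isOpenImmersion {X Y : Scheme.{u}} (j : X ⟶ Y) [IsOpenImmersion j]
    (hY : ∀ x : X, IsDomain (Y.presheaf.stalk (j x)) ∧ IsIntegrallyClosed (Y.presheaf.stalk (j x))) :
    Pi1.IsNormalScheme X := by
  intro x
  obtain ⟨h1, h2⟩ := hY x
  let e := (asIso (j.stalkMap x)).commRingCatIsoToRingEquiv
  have : IsDomain (X.presheaf.stalk x) := e.symm.toMulEquiv.isDomain (Y.presheaf.stalk (j x))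
  exact ⟨this, IsIntegrallyClosed.of_equiv e⟩

end Groth.Agent.SchBasics
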