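import Groth.Agent.SchBasics.ValLift
import Mathlib.AlgebraicGeometry.Morphisms.FiniteType
import Mathlib.AlgebraicGeometry.Morphisms.ClosedImmersion
import Mathlib.RingTheory.Jacobson.Ring
import Mathlib.RingTheory.Algebraic.Integral

set_option autoImplicit false
universe u
open AlgebraicGeometry CategoryTheory TopologicalSpace IsLocalRing

namespace Groth.Agent.SchBasics

/-- If a field `k` is of finite type over `A`, some element outside the kernel lies in all bigger
primes. -/
lemma exists_notMem_ker_mem_all_gt {A k : Type u} [CommRing A] [Field k] (ψ : A →+* k)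
    (hψ : ψ.FiniteType) :
    ∃ g, g ∉ RingHom.ker ψ ∧ ∀ q : Ideal A, q.IsPrime → RingHom.ker ψ ≤ q → q ≠ RingHom.ker ψ → g ∈ q := by
  classical
  algebraize [ψ]
  let D := A ⧸ RingHom.ker ψ
  let : Algebra D k := (RingHom.kerLift ψ).toAlgebra
  have : IsScalarTower A D k := .of_algebraMap_eq fun a => rfl
  have : (RingHom.ker ψ).IsPrime := RingHom.ker_isPrime ψ
  have hinj : Function.Injective (algebraMap D k) := RingHom.kerLift_injective ψ
  have : FaithfulSMul D k := (faithfulSMul_iff_algebraMap_injective _ _).mpr hinj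
  let K := FractionRing D
  let : Algebra K k := FractionRing.liftAlgebra D k
  have : IsScalarTower D K k := FractionRing.isScalarTower_liftAlgebra D k
  have hDk : Algebra.FiniteType D k := Algebra.FiniteType.of_restrictScalars_finiteType A D k
  have : Algebra.FiniteType K k := Algebra.FiniteType.of_restrictScalars_finiteType D K k
  have : Module.Finite K k := finite_of_finite_type_of_isJacobsonRing K k
  obtain ⟨s, hs⟩ := hDk.out
  have : Algebra.IsAlgebraic D k := ⟨fun x => (IsFractionRing.isAlgebraic_iff D K k).mpr (Algebra.IsAlgebraic.isAlgebraic x)⟩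
  obtain ⟨g, hg0, hg⟩ := Algebra.IsAlgebraic.exists_integral_multiples D s
  have hint : ∀ x : k, ∃ n : ℕ, IsIntegral D (g ^ n • x) := fun x => by
    have hx : x ∈ Algebra.adjoin D (s : Set k) := hs ▸ Algebra.mem_top
    induction hx using Algebra.adjoin_induction with
    | mem x hx => exact ⟨1, by simpa using hg x hx⟩
    | algebraMap r => exact ⟨0, by simpa using isIntegral_algebraMap⟩
    | add x y _ _ hx hy =>
      obtain ⟨n, hn⟩ := hx
      obtain ⟨m, hm⟩ := hy
      refine ⟨n + m, ?_⟩
      rw [smul_add, pow_add]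
      refine IsIntegral.add ?_ ?_
      · rw [mul_comm, mul_smul]; exact hn.smul _
      · rw [mul_smul]; exact hm.smul _
    | mul x y _ _ hx hy =>
      obtain ⟨n, hn⟩ := hx
      obtain ⟨m, hm⟩ := hy
      refine ⟨n + m, ?_⟩
      rw [pow_add, ← smul_mul_smul_comm]
      exact hn.mul hm
  obtain ⟨g', rfl⟩ := Ideal.Quotient.mk_surjective g
  refine ⟨g', fun h => hg0 (Ideal.Quotient.eq_zero_iff_mem.mpr h), fun q hq hle hne => ?_⟩
  obtain ⟨a, haq, ha⟩ := Set.not_subset.mp (fun h => hne (le_antisymm h hle) : ¬ (q : Set A) ⊆ RingHom.ker ψ)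
  let π := Ideal.Quotient.mk (RingHom.ker ψ)
  obtain ⟨n, p, hp, hpz⟩ := hint (algebraMap D k (π a))⁻¹
  have ha0 : algebraMap D k (π a) ≠ 0 := fun h => ha (Ideal.Quotient.eq_zero_iff_mem.mp
    (hinj (h.trans (map_zero _).symm)))
  have hroot : Polynomial.eval₂ (algebraMap D k) (algebraMap D k (π g' ^ n) ) (p.scaleRoots (π a)) = 0 := by
    have := Polynomial.scaleRoots_eval₂_eq_zero (p := p) (algebraMap D k) (s := π a) hpz
    rwa [Algebra.smul_def, mul_left_comm, mul_inv_cancel₀ ha0, mul_one] at this
  have h0 : (p.scaleRoots (π a)).eval (π g' ^ n) = 0 := hinj (by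
    rw [map_zero]
    exact (Polynomial.eval₂_at_apply (algebraMap D k) _).symm.trans hroot)
  let φ : D →+* A ⧸ q := Ideal.Quotient.factor hle
  have h1 := congrArg φ h0
  have hnt : Nontrivial (A ⧸ q) := Ideal.Quotient.nontrivial_iff.mpr hq.ne_top
  have hφa : φ (π a) = 0 := Ideal.Quotient.eq_zero_iff_mem.mpr haq
  rw [map_zero, ← Polynomial.eval_map_apply, Polynomial.map_scaleRoots _ _ _
      (by rw [hp.leadingCoeff, map_one]; exact one_ne_zero),
    hφa, Polynomial.scaleRoots_zero, (hp.map φ).leadingCoeff, one_smul, Polynomial.eval_pow,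
    Polynomial.eval_X, hp.natDegree_map] at h1
  have h2 : Ideal.Quotient.mk q ((g' ^ n) ^ p.natDegree) = 0 := by
    rw [map_pow, ← h1]; rfl
  exact hq.mem_of_pow_mem _ (hq.mem_of_pow_mem _ (Ideal.Quotient.eq_zero_iff_mem.mp h2))

variable {S : Scheme.{u}}

lemma locallyOfFiniteType_fromSpecResidueField (s : S) {U : S.Opens} (hs : s ∈ U)
    (hc : IsClosed ({⟨s, hs⟩} : Set U)) : LocallyOfFiniteType (S.fromSpecResidueField s) := by
  have hr : Set.range (S.fromSpecResidueField s) ⊆ Set.range U.ι := by
    rw [Scheme.range_fromSpecResidueField, Scheme.Opens.range_ι, Set.singleton_subset_iff]; exact hs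
  let j := IsOpenImmersion.lift U.ι _ hr
  have hj : j ≫ U.ι = S.fromSpecResidueField s := IsOpenImmersion.lift_fac _ _ _
  have : IsPreimmersion (j ≫ U.ι) := by rw [hj]; infer_instance
  have := IsPreimmersion.of_comp j U.ι
  have : IsClosedImmersion j := by
    refine .of_isPreimmersion j ?_
    have : Set.range j = ({⟨s, hs⟩} : Set U) := by
      refine Set.Subset.antisymm ?_ ?_
      · rintro _ ⟨p, rfl⟩
        apply Subtype.ext
        change U.ι (j p) = s
        rw [← Scheme.Hom.comp_apply, hj, Scheme.fromSpecResidueField_apply]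
      · rintro _ rfl
        refine ⟨closedPoint (S.residueField s), Subtype.ext ?_⟩
        change U.ι (j _) = s
        rw [← Scheme.Hom.comp_apply, hj, Scheme.fromSpecResidueField_apply]
    rw [this]; exact hc
  rw [← hj]; infer_instance

lemma exists_isClosed_singleton_apply {k : Type u} [Field k] (f : Spec (.of k) ⟶ S)
    [LocallyOfFiniteType f] :
    ∃ U : S.Opens, IsAffineOpen U ∧ ∃ hs : f (closedPoint k) ∈ U,
      IsClosed ({⟨f (closedPoint k), hs⟩} : Set U) := by
  set s := f (closedPoint k) with hsdef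
  obtain ⟨V, hV, hsV, -⟩ := exists_isAffineOpen_mem_and_subset (U := ⊤) (Opens.mem_top s)
  obtain ⟨ψ, hψ⟩ := exists_factor_affine f hV hsV
  have hft : ψ.hom.FiniteType := by
    have : LocallyOfFiniteType (Spec.map ψ ≫ hV.fromSpec) := by rw [hψ]; infer_instance
    have := locallyOfFiniteType_of_comp (Spec.map ψ) hV.fromSpec
    exact HasRingHomProperty.Spec_iff.mp this
  obtain ⟨g, hg, hall⟩ := exists_notMem_ker_mem_all_gt ψ.hom hft
  let p : PrimeSpectrum Γ(S, V) := ⟨RingHom.ker ψ.hom, RingHom.ker_isPrime _⟩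
  have hp : hV.fromSpec p = s := by
    rw [hsdef]
    conv_rhs => rw [← hψ]
    change hV.fromSpec p = hV.fromSpec (Spec.map ψ (closedPoint k))
    congr 1
    refine PrimeSpectrum.ext ?_
    change RingHom.ker ψ.hom = (maximalIdeal k).comap ψ.hom
    rw [IsLocalRing.maximalIdeal_eq_bot, ← RingHom.ker_eq_comap_bot]
  have hsg : s ∈ S.basicOpen g := by
    rw [← hp]
    change p ∈ hV.fromSpec ⁻¹ᵁ S.basicOpen g
    rw [hV.fromSpec_preimage_basicOpen]
    exact hg
  refine ⟨S.basicOpen g, hV.basicOpen g, hsg, ?_⟩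
  rw [← isOpen_compl_iff, isOpen_iff_forall_mem_open]
  intro y hy
  by_cases hsy : s ⤳ y.1
  · exfalso
    obtain ⟨q, hq⟩ : y.1 ∈ Set.range hV.fromSpec := by
      rw [hV.range_fromSpec]; exact S.basicOpen_le g y.2
    have hle : p ≤ (show PrimeSpectrum Γ(S, V) from q) :=
      (PrimeSpectrum.le_iff_specializes _ _).mpr (hV.fromSpec.isOpenEmbedding.isInducing.specializes_iff.mp
        (by rw [hq, hp]; exact hsy))
    have hne : (show PrimeSpectrum Γ(S, V) from q).asIdeal ≠ RingHom.ker ψ.hom := fun h =>
      hy (Subtype.ext ((hq.symm.trans (congrArg hV.fromSpec (PrimeSpectrum.ext h :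
        (show PrimeSpectrum Γ(S, V) from q) = p))).trans hp))
    have hgq : (show PrimeSpectrum Γ(S, V) from q) ∈ PrimeSpectrum.basicOpen g := by
      have : q ∈ hV.fromSpec ⁻¹ᵁ S.basicOpen g := by
        change hV.fromSpec q ∈ S.basicOpen g
        rw [hq]; exact y.2
      rwa [hV.fromSpec_preimage_basicOpen] at this
    exact hgq (hall _ (show PrimeSpectrum Γ(S, V) from q).isPrime hle hne)
  · obtain ⟨W, hW, hyW, hsW⟩ := not_specializes_iff_exists_open.mp hsy
    exact ⟨Subtype.val ⁻¹' W, fun w hw => fun h => hsW (by rw [Set.mem_singleton_iff.mp h] at hw; exact hw),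
      hW.preimage continuous_subtype_val, hyW⟩

lemma exists_isClosed_singleton (s : S) [LocallyOfFiniteType (S.fromSpecResidueField s)] :
    ∃ U : S.Opens, IsAffineOpen U ∧ ∃ hs : s ∈ U, IsClosed ({⟨s, hs⟩} : Set U) := by
  have h := exists_isClosed_singleton_apply (k := S.residueField s) (S.fromSpecResidueField s)
  have e : (S.fromSpecResidueField s) (closedPoint (S.residueField s)) = s :=
    S.fromSpecResidueField_apply s _
  revert h
  generalize (S.fromSpecResidueField s) (closedPoint (S.residueField s)) = w at e ⊢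
  subst e
  exact id

lemma exists_isClosed_singleton_iff (s : S) :
    LocallyOfFiniteType (S.fromSpecResidueField s) ↔
      ∃ U : S.Opens, IsAffineOpen U ∧ ∃ hs : s ∈ U, IsClosed ({⟨s, hs⟩} : Set U) :=
  ⟨fun _ => exists_isClosed_singleton s, fun ⟨_, _, hs, hc⟩ => locallyOfFiniteType_fromSpecResidueField s hs hc⟩

/-- A locally closed nonempty set contains a point of finite type. -/
lemma exists_ftPoint {Z : Set S} (hZ : IsLocallyClosed Z) (hne : Z.Nonempty) :
    ∃ s ∈ Z, LocallyOfFiniteType (S.fromSpecResidueField s) := by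
  obtain ⟨O, C, hO, hC, rfl⟩ := hZ
  obtain ⟨z, hzO, hzC⟩ := hne
  obtain ⟨V, hV, hzV, hVO⟩ := exists_isAffineOpen_mem_and_subset (U := ⟨O, hO⟩) hzO
  have : CompactSpace ↥(V : Set S) := isCompact_iff_compactSpace.mp hV.isCompact
  have : CompactSpace V := this
  have : T0Space V := inferInstance
  obtain ⟨w, hw, hwc⟩ := (hC.preimage (continuous_subtype_val (p := (· ∈ V)))).exists_closed_singleton
    ⟨⟨z, hzV⟩, hzC⟩
  exact ⟨w.1, ⟨hVO w.2, hw⟩, locallyOfFiniteType_fromSpecResidueField w.1 w.2 hwc⟩

lemma isLocallyClosed_singleton (s : S) [LocallyOfFiniteType (S.fromSpecResidueField s)] :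
    IsLocallyClosed ({s} : Set S) := by
  obtain ⟨U, -, hs, hc⟩ := exists_isClosed_singleton s
  obtain ⟨C, hC, hCs⟩ := isClosed_induced_iff.mp hc
  refine ⟨U, C, U.isOpen, hC, ?_⟩
  ext y
  constructor
  · rintro rfl
    exact ⟨hs, (Set.ext_iff.mp hCs ⟨y, hs⟩).mpr rfl⟩
  · rintro ⟨hyU, hyC⟩
    exact congrArg Subtype.val ((Set.ext_iff.mp hCs ⟨y, hyU⟩).mp hyC)

/-- Morphisms from the spectrum of a field. -/
lemma locallyOfFiniteType_from_field_iff (k : Type u) [Field k] (f : Spec (.of k) ⟶ S) :
    LocallyOfFiniteType f ↔ LocallyOfFiniteType (S.fromSpecResidueField (f (closedPoint k))) ∧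
      (f.residueFieldMap (closedPoint k)).hom.Finite := by
  set s := f (closedPoint k)
  set t := closedPoint k
  have hfac := Scheme.Hom.SpecMap_residueFieldMap_fromSpecResidueField f t
  have hiso : IsIso ((Spec (.of k)).fromSpecResidueField t) := by
    have h1 : Set.range ((Spec (.of k)).fromSpecResidueField t) = Set.univ := by
      rw [Scheme.range_fromSpecResidueField]
      exact Set.eq_univ_of_forall fun q => Subsingleton.elim (α := PrimeSpectrum k) q t
    have : Surjective ((Spec (.of k)).fromSpecResidueField t) := ⟨Set.range_eq_univ.mp h1⟩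
    have : IsClosedImmersion ((Spec (.of k)).fromSpecResidueField t) :=
      .of_isPreimmersion _ (h1 ▸ isClosed_univ)
    exact isIso_of_isClosedImmersion_of_surjective _
  constructor
  · intro _
    have h1 : LocallyOfFiniteType (Spec.map (f.residueFieldMap t) ≫ S.fromSpecResidueField s) := by
      rw [hfac]; infer_instance
    have h2 := locallyOfFiniteType_of_comp (Spec.map (f.residueFieldMap t)) (S.fromSpecResidueField s)
    have h3 : (f.residueFieldMap t).hom.FiniteType := HasRingHomProperty.Spec_iff.mp h2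
    have hfin : (f.residueFieldMap t).hom.Finite := by
      algebraize [(f.residueFieldMap t).hom]
      exact finite_of_finite_type_of_isJacobsonRing (S.residueField s) ((Spec (.of k)).residueField t)
    refine ⟨?_, hfin⟩
    obtain ⟨U, -, hs, hc⟩ := exists_isClosed_singleton_apply f
    exact locallyOfFiniteType_fromSpecResidueField s hs hc
  · rintro ⟨h, hfin⟩
    have : LocallyOfFiniteType (Spec.map (f.residueFieldMap t)) :=
      HasRingHomProperty.Spec_iff.mpr (RingHom.Finite.finiteType hfin)
    have h1 : LocallyOfFiniteType ((Spec (.of k)).fromSpecResidueField t ≫ f) := by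
      rw [← hfac]; infer_instance
    rwa [MorphismProperty.cancel_left_of_respectsIso (P := @LocallyOfFiniteType)] at h1

end Groth.Agent.SchBasics
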