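import Groth.Agent.SchBasics.OmegaChart
import Groth.Agent.FlatMor68.LocFree
import Groth.Agent.Var76.OmegaRegular
import Groth.Agent.VarGal.LocalDim
import Groth.Agent.Unr55.SmoothDesc
import Groth.Agent.S2063
import Groth.Agent.S2768
import Groth.Agent.Desc59.EtaleDim
import Groth.Agent.Cohen12.RegularFlat
import Groth.Agent.CAlg5.SmoothRegular
import Groth.Agent.FlatMor68.FibreStalk
import Groth.Agent.FlatMor68.FlatSections
import Mathlib.RingTheory.Kaehler.TensorProduct
import Mathlib.RingTheory.RingHom.StandardSmooth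

/-! Smoothness through the sheaf of differentials and the dimension of the fibres. -/

universe u

open CategoryTheory CategoryTheory.Limits AlgebraicGeometry TopologicalSpace TensorProduct

set_option backward.isDefEq.respectTransparency false

noncomputable section

namespace Groth.Agent.SchBasics

open Groth.Agent

variable {X Y : Scheme.{u}} {f : X ⟶ Y}

theorem smoothOfRelativeDimension_resLE {U : X.Opens} (hU : IsAffineOpen U) {V : Y.Opens}
    (hV : IsAffineOpen V) (e : U ≤ f ⁻¹ᵁ V) (n : ℕ)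
    (h : (f.appLE V U e).hom.IsStandardSmoothOfRelativeDimension n) :
    SmoothOfRelativeDimension n (f.resLE V U e) := by
  haveI : IsAffine U := hU
  haveI : IsAffine V := hV
  refine ⟨fun y => ⟨⊤, isAffineOpen_top _, ⊤, isAffineOpen_top _, trivial, le_top, ?_⟩⟩
  have hiso := (RingHom.isStandardSmoothOfRelativeDimension_respectsIso (n := n)).arrow_mk_iso_iff (arrowResLEAppIso f V U e)
  have h' := hiso.2 h
  rw [Scheme.Hom.appTop, Scheme.Hom.app_eq_appLE] at h'
  exact h'

theorem fibreDimAt_eq_of_standard {U : X.Opens} (hU : IsAffineOpen U) {V : Y.Opens}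
    (hV : IsAffineOpen V) (e : U ≤ f ⁻¹ᵁ V) (n : ℕ)
    (h : (f.appLE V U e).hom.IsStandardSmoothOfRelativeDimension n) (x : X) (hx : x ∈ U) :
    FlatMor.fibreDimAt f x = (n : WithBot ℕ∞) := by
  haveI := smoothOfRelativeDimension_resLE hU hV e n h
  have h1 := Desc59.EtaleDim.fibreDimAt_eq f (f.resLE V U e) U.ι V.ι
    (Scheme.Hom.resLE_comp_ι f e) ⟨x, hx⟩
  exact h1.trans (S2768.result n (f.resLE V U e) ⟨x, hx⟩)

variable {Ω : X.Modules} {d : OmegaSh.Der f Ω}

/-- Near a point where `f` is smooth the differentials are free of rank the fibre dimension. -/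
theorem exists_free_nhd_of_formallySmooth_stalk [LocallyOfFinitePresentation f] (hd : OmegaSh.IsUniversal d)
    (x : X) (H : (f.stalkMap x).hom.FormallySmooth) :
    ∃ (U : X.Opens) (n : ℕ), x ∈ U ∧ Nonempty (Ω.restrict U.ι ≅ FlatMod.freeMod (↑U) n) ∧
      FlatMor.fibreDimAt f x = (n : WithBot ℕ∞) := by
  obtain ⟨V, hV, U₀, hU₀, e₀, hxU₀, hs⟩ := exists_smooth_of_formallySmooth_stalk f x H
  haveI : IsAffine U₀ := hU₀
  haveI : IsAffine V := hV
  haveI : Smooth (f.resLE V U₀ e₀) := by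
    rw [HasRingHomProperty.iff_of_isAffine (P := @Smooth)]
    exact (RingHom.Smooth.propertyIsLocal.respectsIso.arrow_mk_iso_iff (arrowResLEAppIso f V U₀ e₀)).2 hs
  obtain ⟨V', hV', U', hU', hxU', e', hst⟩ := Smooth.exists_isStandardSmooth (f.resLE V U₀ e₀) ⟨x, hxU₀⟩
  let U := U₀.ι ''ᵁ U'
  let W := V.ι ''ᵁ V'
  have hU : IsAffineOpen U := hU'.image_of_isOpenImmersion U₀.ι
  have hW : IsAffineOpen W := hV'.image_of_isOpenImmersion V.ι
  have hxU : x ∈ U := ⟨⟨x, hxU₀⟩, hxU', rfl⟩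
  have e : U ≤ f ⁻¹ᵁ W := by
    rintro _ ⟨y, hy, rfl⟩
    refine ⟨f.resLE V U₀ e₀ y, e' hy, ?_⟩
    exact congr($(Scheme.Hom.resLE_comp_ι f e₀) y)
  have hst' : (f.appLE W U e).hom.IsStandardSmooth := by
    rw [Scheme.Hom.resLE_appLE] at hst
    exact hst
  letI := (f.appLE W U e).hom.toAlgebra
  haveI : Algebra.IsStandardSmooth Γ(Y, W) Γ(X, U) := hst'
  obtain ⟨ι, σ, hσ, hι, ⟨P⟩⟩ := Algebra.IsStandardSmooth.out (R := Γ(Y, W)) (S := Γ(X, U))
  haveI := hσ; haveI := hι
  haveI : Algebra.IsStandardSmoothOfRelativeDimension P.dimension Γ(Y, W) Γ(X, U) :=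
    P.isStandardSmoothOfRelativeDimension rfl
  haveI := isQuasicoherent_of_isUniversal hd
  haveI : Nontrivial Γ(X, U) := (X.presheaf.germ U x hxU).hom.domain_nontrivial
  obtain ⟨eΩ, -⟩ := exists_chartEquiv hd hU hW e
  refine ⟨U, P.dimension, hxU, FlatMor68.LocFree.restrict_iso_free Ω hU _
    (eΩ.symm ≪≫ₗ (Module.finBasisOfFinrankEq Γ(X, U) Ω[Γ(X, U)⁄Γ(Y, W)]
      (Module.finrank_eq_of_rank_eq
        (Algebra.IsStandardSmoothOfRelativeDimension.rank_kaehlerDifferential P.dimension))).equivFun),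
    fibreDimAt_eq_of_standard hU hW e P.dimension ‹_› x hxU⟩

section Converse

attribute [local instance] Algebra.TensorProduct.rightAlgebra

theorem isSmoothAt_fibre_of_free {R S : Type u} [CommRing R] [CommRing S] [Algebra R S]
    [Algebra.FiniteType R S] (p : Ideal R) [p.IsPrime] (Q : Ideal (p.Fiber S)) [Q.IsPrime]
    (n : ℕ) (b : Module.Basis (Fin n) S Ω[S⁄R])
    (hdim : (n : WithBot ℕ∞) ≤ FlatMor.localDim (PrimeSpectrum (p.Fiber S)) ⟨Q, inferInstance⟩) :
    Algebra.IsSmoothAt p.ResidueField Q := by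
  rw [S2063.result (k := p.ResidueField) Q]
  refine le_trans (le_of_eq ?_) hdim
  let bF : Module.Basis (Fin n) (p.Fiber S) Ω[p.Fiber S⁄p.ResidueField] :=
    (Algebra.TensorProduct.basis (p.Fiber S) b).map
      (KaehlerDifferential.tensorKaehlerEquiv R p.ResidueField S (p.Fiber S))
  rw [Module.finrank_eq_card_basis (Algebra.TensorProduct.basis Q.ResidueField bF), Fintype.card_fin]
  rfl

end Converse

/-- A fibre is smooth where the differentials are free of rank the fibre dimension. -/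
theorem exists_isSmoothAt_fibre [LocallyOfFiniteType f] (hd : OmegaSh.IsUniversal d) (x : X)
    (U₀ : X.Opens) (n : ℕ) (i : Ω.restrict U₀.ι ≅ FlatMod.freeMod (↑U₀) n)
    (hdim : FlatMor.fibreDimAt f x = (n : WithBot ℕ∞)) {U : X.Opens} (hU : IsAffineOpen U) {V : Y.Opens}
    (hV : IsAffineOpen V) (e : U ≤ f ⁻¹ᵁ V) (hxU : x ∈ U) (hle : U ≤ U₀) :
    letI := (f.appLE V U e).hom.toAlgebra
    ∃ Q : PrimeSpectrum (((hU.primeIdealOf ⟨x, hxU⟩).comap (algebraMap Γ(Y, V) Γ(X, U))).asIdeal.Fiber Γ(X, U)),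
      Q.asIdeal.comap Algebra.TensorProduct.includeRight.toRingHom = (hU.primeIdealOf ⟨x, hxU⟩).asIdeal ∧
      Algebra.IsSmoothAt ((hU.primeIdealOf ⟨x, hxU⟩).comap (algebraMap Γ(Y, V) Γ(X, U))).asIdeal.ResidueField
        Q.asIdeal := by
  obtain ⟨c⟩ := Var76.OmegaRegular.sections_free i hle
  obtain ⟨eΩ, -⟩ := exists_chartEquiv hd hU hV e
  let R := Γ(Y, V)
  let S := Γ(X, U)
  letI : Algebra R S := (f.appLE V U e).hom.toAlgebra
  haveI : Algebra.FiniteType R S := LocallyOfFiniteType.finiteType_appLE f hV hU e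
  let b : Module.Basis (Fin n) S Ω[S⁄R] := Module.Basis.ofEquivFun (eΩ ≪≫ₗ c.symm)
  let q := hU.primeIdealOf ⟨x, hxU⟩
  let p : PrimeSpectrum R := PrimeSpectrum.comap (algebraMap R S) q
  let pq : PrimeSpectrum.comap (algebraMap R S) ⁻¹' {p} := ⟨q, rfl⟩
  let h := PrimeSpectrum.preimageHomeomorphFiber R S p
  let Q : PrimeSpectrum (p.asIdeal.Fiber S) := h pq
  have hQ : Q.asIdeal.comap Algebra.TensorProduct.includeRight.toRingHom = q.asIdeal :=
    congrArg (fun t : PrimeSpectrum.comap (algebraMap R S) ⁻¹' {p} => t.1.asIdeal) (h.symm_apply_apply pq)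
  have hfrom : hU.fromSpec q = x := hU.fromSpec_primeIdealOf ⟨x, hxU⟩
  have hpre : hU.fromSpec ⁻¹' (f ⁻¹' {f x}) = PrimeSpectrum.comap (algebraMap R S) ⁻¹' {p} := by
    ext t
    have key : ∀ t : Spec Γ(X, U), f (hU.fromSpec t) = hV.fromSpec (PrimeSpectrum.comap (algebraMap R S) t) :=
      fun t => (congr($(hV.SpecMap_appLE_fromSpec f hU e) t)).symm
    simp only [Set.mem_preimage, Set.mem_singleton_iff]
    rw [key t, ← hfrom, key q]
    exact ⟨fun h => hV.fromSpec.isOpenEmbedding.injective h, fun h => congrArg hV.fromSpec h⟩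
  let j : PrimeSpectrum (p.asIdeal.Fiber S) → ↥(f ⁻¹' {f x}) :=
    (f ⁻¹' {f x}).restrictPreimage hU.fromSpec ∘ (Homeomorph.setCongr hpre.symm) ∘ h.symm
  have hj : Topology.IsOpenEmbedding j :=
    (hU.fromSpec.isOpenEmbedding.restrictPreimage _).comp
      ((Homeomorph.setCongr hpre.symm).isOpenEmbedding.comp h.symm.isOpenEmbedding)
  have hjQ : j Q = ⟨x, rfl⟩ := by
    refine Subtype.ext ?_
    show hU.fromSpec (h.symm (h pq)).1 = x
    rw [h.symm_apply_apply]
    exact hfrom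
  exact ⟨Q, hQ, isSmoothAt_fibre_of_free p.asIdeal Q.asIdeal n b (by
    rw [show (⟨Q.asIdeal, inferInstance⟩ : PrimeSpectrum (p.asIdeal.Fiber S)) = Q from rfl,
      VarGal.localDim_isOpenEmbedding hj Q, hjQ, ← E4O.fibreDimAt_eq_localDim, hdim])⟩

theorem isLocalization_atPrime_congr {S B : Type u} [CommRing S] [CommRing B] [Algebra S B] {I J : Ideal S}
    [I.IsPrime] [J.IsPrime] (h : I = J) [IsLocalization.AtPrime B J] : IsLocalization.AtPrime B I := by
  subst h
  assumption

theorem mem_smoothLocus_of_free [LocallyOfFinitePresentation f] (hd : OmegaSh.IsUniversal d) (x : X)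
    (hflat : (f.stalkMap x).hom.Flat) (U₀ : X.Opens) (n : ℕ) (hx : x ∈ U₀)
    (i : Ω.restrict U₀.ι ≅ FlatMod.freeMod (↑U₀) n)
    (hdim : FlatMor.fibreDimAt f x = (n : WithBot ℕ∞)) : x ∈ f.smoothLocus := by
  obtain ⟨V, hV, hxV, -⟩ := exists_isAffineOpen_mem_and_subset (X := Y) (x := f x) (U := ⊤) trivial
  obtain ⟨U, hU, hxU, hle⟩ := exists_isAffineOpen_mem_and_subset (show x ∈ U₀ ⊓ f ⁻¹ᵁ V from ⟨hx, hxV⟩)
  have e : U ≤ f ⁻¹ᵁ V := fun y hy => (hle hy).2
  let R := Γ(Y, V)
  let S := Γ(X, U)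
  letI : Algebra R S := (f.appLE V U e).hom.toAlgebra
  haveI : Algebra.FinitePresentation R S := f.finitePresentation_appLE hV hU e
  let q := hU.primeIdealOf ⟨x, hxU⟩
  let p : PrimeSpectrum R := PrimeSpectrum.comap (algebraMap R S) q
  haveI : q.asIdeal.LiesOver p.asIdeal := ⟨rfl⟩
  obtain ⟨Q, hQ, hsm⟩ := exists_isSmoothAt_fibre hd x U₀ n i hdim hU hV e hxU fun y hy => (hle hy).1
  haveI : Module.Flat R (Localization.AtPrime q.asIdeal) := by
    let p' := (hV.primeIdealOf ⟨f x, hxV⟩).asIdeal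
    haveI : q.asIdeal.LiesOver p' :=
      ⟨congr($(IsAffineOpen.comap_primeIdealOf_appLE V hV U hU e hxU).1).symm⟩
    letI := Localization.AtPrime.algebraOfLiesOver p' q.asIdeal
    have h1 : (algebraMap (Localization.AtPrime p') (Localization.AtPrime q.asIdeal)).Flat :=
      (RingHom.Flat.respectsIso.arrow_mk_iso_iff
        (IsAffineOpen.arrowStalkMapIso f V hV U hU e hxU)).1 hflat
    haveI : Module.Flat (Localization.AtPrime p') (Localization.AtPrime q.asIdeal) :=
      RingHom.flat_algebraMap_iff.1 h1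
    haveI : Module.Flat R (Localization.AtPrime p') := IsLocalization.flat _ p'.primeCompl
    exact Module.Flat.trans R (Localization.AtPrime p') _
  have hs : Algebra.IsSmoothAt R q.asIdeal :=
    Unr55.isSmoothAt_of_flat_of_fibre p.asIdeal q.asIdeal Q.asIdeal hQ (hs := hsm)
  exact (formallySmooth_stalkMap_iff V hV U hU e hxU).2 hs

/-- Over a regular base the dimension formula gives flatness where the differentials are free of
rank the fibre dimension. -/
theorem flat_stalkMap_of_free_of_regular [IsLocallyNoetherian Y] [LocallyOfFiniteType f]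
    (hd : OmegaSh.IsUniversal d) (x : X) [IsRegularLocalRing (Y.presheaf.stalk (f x))]
    (hdimF : ringKrullDim (X.presheaf.stalk x) =
      ringKrullDim ((f.fiber (f x)).presheaf.stalk (f.asFiber x)) + ringKrullDim (Y.presheaf.stalk (f x)))
    (U₀ : X.Opens) (n : ℕ) (hx : x ∈ U₀) (i : Ω.restrict U₀.ι ≅ FlatMod.freeMod (↑U₀) n)
    (hdim : FlatMor.fibreDimAt f x = (n : WithBot ℕ∞)) : (f.stalkMap x).hom.Flat := by
  haveI : IsLocallyNoetherian X := LocallyOfFiniteType.isLocallyNoetherian f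
  obtain ⟨V, hV, hxV, -⟩ := exists_isAffineOpen_mem_and_subset (X := Y) (x := f x) (U := ⊤) trivial
  obtain ⟨U, hU, hxU, hle⟩ := exists_isAffineOpen_mem_and_subset (show x ∈ U₀ ⊓ f ⁻¹ᵁ V from ⟨hx, hxV⟩)
  have e : U ≤ f ⁻¹ᵁ V := fun y hy => (hle hy).2
  let R := Γ(Y, V)
  let S := Γ(X, U)
  let A := Y.presheaf.stalk (f x)
  let B := X.presheaf.stalk x
  letI : Algebra R S := (f.appLE V U e).hom.toAlgebra
  haveI : Algebra.FiniteType R S := LocallyOfFiniteType.finiteType_appLE f hV hU e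
  let q := hU.primeIdealOf ⟨x, hxU⟩
  let p : PrimeSpectrum R := PrimeSpectrum.comap (algebraMap R S) q
  obtain ⟨Q, hQ, hsm⟩ := exists_isSmoothAt_fibre hd x U₀ n i hdim hU hV e hxU fun y hy => (hle hy).1
  letI : Algebra R A := (Y.presheaf.germ V (f x) hxV).hom.toAlgebra
  letI : Algebra S B := (X.presheaf.germ U x hxU).hom.toAlgebra
  letI : Algebra A B := (f.stalkMap x).hom.toAlgebra
  haveI : IsLocalization.AtPrime B q.asIdeal := hU.isLocalization_stalk ⟨x, hxU⟩
  haveI : IsLocalHom (algebraMap A B) := inferInstanceAs (IsLocalHom (f.stalkMap x).hom)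
  have hp : (hV.primeIdealOf ⟨f x, hxV⟩).asIdeal = p.asIdeal :=
    congr($(IsAffineOpen.comap_primeIdealOf_appLE V hV U hU e hxU).1).symm
  haveI : IsLocalization.AtPrime A (hV.primeIdealOf ⟨f x, hxV⟩).asIdeal := hV.isLocalization_stalk ⟨f x, hxV⟩
  haveI : IsLocalization.AtPrime A p.asIdeal := isLocalization_atPrime_congr hp.symm
  have hmax : (IsLocalRing.maximalIdeal A).map (algebraMap A B) =
      p.asIdeal.map ((algebraMap S B).comp (algebraMap R S)) := by
    rw [← IsLocalization.AtPrime.map_eq_maximalIdeal p.asIdeal A, Ideal.map_map]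
    congr 1
    exact RingHom.ext fun r => FlatMor68.FlatSections.stalkMap_germ_appLE f e hxU r
  haveI := (CAlg5.regular_of_isSmoothAt p.asIdeal.ResidueField (p.asIdeal.Fiber S) Q.asIdeal : _)
  let q' := Q.asIdeal.comap (Algebra.TensorProduct.includeRight : S →ₐ[R] p.asIdeal.Fiber S)
  have hq' : q' = q.asIdeal := hQ
  haveI : IsLocalization.AtPrime B q' := isLocalization_atPrime_congr hq'
  let e₁ := Ideal.Fiber.algEquivAux₂ p.asIdeal Q.asIdeal
  let e₂ : Localization.AtPrime q' ≃ₐ[S] B := IsLocalization.algEquiv q'.primeCompl _ _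
  let e₃ : (Localization.AtPrime q' ⧸ (p.asIdeal.map (algebraMap R S)).map (algebraMap S (Localization.AtPrime q'))) ≃+*
      B ⧸ (IsLocalRing.maximalIdeal A).map (algebraMap A B) :=
    Ideal.quotientEquiv _ _ e₂.toRingEquiv (by
      rw [hmax]
      show _ = Ideal.map e₂.toRingEquiv.toRingHom _
      simp only [Ideal.map_map]
      congr 1
      refine RingHom.ext fun r => ?_
      exact (e₂.commutes (algebraMap R S r)).symm)
  haveI hreg : IsRegularLocalRing (B ⧸ (IsLocalRing.maximalIdeal A).map (algebraMap A B)) :=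
    IsRegularLocalRing.of_ringEquiv (R := Localization.AtPrime Q.asIdeal) (e₁.toRingEquiv.trans e₃)
  have hd4 : ringKrullDim B = ringKrullDim A +
      ringKrullDim (B ⧸ (IsLocalRing.maximalIdeal A).map (algebraMap A B)) :=
    (hdimF.trans (add_comm _ _)).trans
      (congrArg _ (ringKrullDim_eq_of_ringEquiv (FlatMor68.FibreStalk.fibreStalkEquivAt f x)).symm)
  have htfae : (IsRegularLocalRing A ∧ IsRegularLocalRing (B ⧸ (IsLocalRing.maximalIdeal A).map (algebraMap A B)) ∧
      ringKrullDim B = ringKrullDim A + ringKrullDim (B ⧸ (IsLocalRing.maximalIdeal A).map (algebraMap A B))) ↔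
      (IsRegularLocalRing B ∧ IsRegularLocalRing (B ⧸ (IsLocalRing.maximalIdeal A).map (algebraMap A B)) ∧
        Module.Flat A B) :=
    (Cohen12.regular_flat_tfae (A := A) (B := B)).out 3 1
  exact (htfae.mp ⟨inferInstance, hreg, hd4⟩).2.2

end Groth.Agent.SchBasics
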