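import Groth.Agent.SchBasics.OmegaChart
import Groth.Agent.SchBasics.PullSpan
import Groth.Agent.Omega57.Diag
import Groth.Agent.FlatMor67.LiftAffine

/-! The conormal sequence of an immersion into a formally smooth target splits on charts. -/

universe u

open CategoryTheory CategoryTheory.Limits AlgebraicGeometry TopologicalSpace Opposite
open scoped TensorProduct

set_option backward.isDefEq.respectTransparency false

noncomputable section

namespace Groth.Agent.SchBasics

open Groth.Agent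

theorem exists_conormal_split {X' X Y : Scheme.{u}} (j : X' ⟶ X) [QuasiCompact j]
    {f : X ⟶ Y} (hf : MoreMor.IsFormallySmoothHom (j ≫ f))
    {W : X.Opens} (hW : IsAffineOpen W) (hV : IsAffineOpen (j ⁻¹ᵁ W)) (hsurj : Function.Surjective (j.app W))
    {V₀ : Y.Opens} (hV₀ : IsAffineOpen V₀) (eW : W ≤ f ⁻¹ᵁ V₀) (eV : j ⁻¹ᵁ W ≤ (j ≫ f) ⁻¹ᵁ V₀) :
    letI := ((j ≫ f).appLE V₀ (j ⁻¹ᵁ W) eV).hom.toAlgebra
    letI := (f.appLE V₀ W eW).hom.toAlgebra
    letI := (j.app W).hom.toAlgebra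
    Nonempty (Γ(X', j ⁻¹ᵁ W) ⊗[Γ(X, W)] Ω[Γ(X, W)⁄Γ(Y, V₀)] ≃ₗ[Γ(X', j ⁻¹ᵁ W)]
      Γ(Omega.conormal j, j ⁻¹ᵁ W) × Ω[Γ(X', j ⁻¹ᵁ W)⁄Γ(Y, V₀)]) := by
  haveI : (ClSub.idealMod j.ker).IsQuasicoherent := Omega57.isQuasicoherent_idealMod j.ker
  let CN : X'.Modules := Omega.conormal j
  let π : Γ(X, W) →+* Γ(X', j ⁻¹ᵁ W) := (j.app W).hom
  -- classes of functions vanishing on the subscheme
  have hI : ∀ b : RingHom.ker π, ∃ m : Γ(ClSub.idealMod j.ker, W), OmegaSh.idealSect j.ker W m = b.1 :=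
    fun b => Omega57.exists_idealSect_eq _ _ _ (Omega57.subscheme_app_eq_zero j W b.1 b.2)
  choose κ hκ using hI
  let K : RingHom.ker π → Γ(CN, j ⁻¹ᵁ W) := fun b => OmegaSh.conormalSect j W (κ b)
  have hKs : ∀ (m : Γ(ClSub.idealMod j.ker, W)) (h : OmegaSh.idealSect j.ker W m ∈ RingHom.ker π),
      K ⟨_, h⟩ = OmegaSh.conormalSect j W m := fun m h =>
    congrArg (OmegaSh.conormalSect j W) (Omega57.idealSect_injective _ _ (hκ ⟨_, h⟩))
  have hKadd : ∀ a b, K (a + b) = K a + K b := by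
    intro a b
    show _ = OmegaSh.conormalSect j W (κ a) + OmegaSh.conormalSect j W (κ b)
    rw [← map_add]
    refine congrArg (OmegaSh.conormalSect j W) (Omega57.idealSect_injective _ _ ?_)
    rw [hκ, map_add, hκ, hκ]
    rfl
  let Kh : RingHom.ker π →+ Γ(CN, j ⁻¹ᵁ W) := AddMonoidHom.mk' K hKadd
  have hKsmul : ∀ (r : Γ(X, W)) (b : RingHom.ker π), Kh (r • b) = π r • Kh b := by
    intro r b
    show OmegaSh.conormalSect j W (κ (r • b)) = π r • OmegaSh.conormalSect j W (κ b)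
    rw [show κ (r • b) = r • κ b from Omega57.idealSect_injective _ _ (by
      rw [hκ, Omega57.idealSect_smul, hκ]; rfl)]
    exact OmegaSh.pullSect_smul j _ W r _
  have hK2 : ∀ a b : RingHom.ker π, (a - b : Γ(X, W)) ∈ RingHom.ker π ^ 2 → Kh a = Kh b := by
    intro a b hab
    rw [← sub_eq_zero, ← map_sub]
    have key : ∀ x ∈ RingHom.ker π ^ 2, ∀ hx : x ∈ RingHom.ker π, Kh ⟨x, hx⟩ = 0 := by
      intro x hx2
      rw [pow_two] at hx2
      induction hx2 using Submodule.mul_induction_on' with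
      | mem_mul_mem u hu v hv =>
        intro hx
        refine (congrArg Kh (Subtype.ext rfl : (⟨u * v, hx⟩ : RingHom.ker π) = u • ⟨v, hv⟩)).trans ?_
        rw [hKsmul, RingHom.mem_ker.1 hu, zero_smul]
      | add u hu v hv ihu ihv =>
        intro hx
        have hu' : u ∈ RingHom.ker π := Ideal.mul_le_right hu
        have hv' : v ∈ RingHom.ker π := Ideal.mul_le_right hv
        refine (congrArg Kh (Subtype.ext rfl : (⟨u + v, hx⟩ : RingHom.ker π) = ⟨u, hu'⟩ + ⟨v, hv'⟩)).trans ?_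
        rw [map_add, ihu hu', ihv hv', add_zero]
    exact key _ hab (a - b).2
  -- the section of the first order neighbourhood
  letI : Algebra Γ(Y, V₀) Γ(X, W) := (f.appLE V₀ W eW).hom.toAlgebra
  letI : Algebra Γ(Y, V₀) Γ(X', j ⁻¹ᵁ W) := ((j ≫ f).appLE V₀ (j ⁻¹ᵁ W) eV).hom.toAlgebra
  haveI : Algebra.FormallySmooth Γ(Y, V₀) Γ(X', j ⁻¹ᵁ W) := FlatMor67.formallySmooth_appLE hV hV₀ eV hf
  let π' : Γ(X, W) →ₐ[Γ(Y, V₀)] Γ(X', j ⁻¹ᵁ W) :=
    { toRingHom := π
      commutes' := fun a => by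
        show j.app W (f.appLE V₀ W eW a) = (j ≫ f).appLE V₀ (j ⁻¹ᵁ W) eV a
        rw [← Scheme.Hom.appLE_comp_appLE j f V₀ W (j ⁻¹ᵁ W) eW le_rfl, ConcreteCategory.comp_apply,
          Scheme.Hom.app_eq_appLE] }
  let q : (Γ(X, W) ⧸ RingHom.ker π ^ 2) →ₐ[Γ(Y, V₀)] Γ(X', j ⁻¹ᵁ W) :=
    Ideal.Quotient.liftₐ _ π' fun a ha => Ideal.pow_le_self two_ne_zero ha
  have hq : Function.Surjective q := fun c =>
    (hsurj c).elim fun b hb => ⟨Ideal.Quotient.mk _ b, hb⟩
  have hnil : IsNilpotent (RingHom.ker (q : Γ(X, W) ⧸ RingHom.ker π ^ 2 →+* Γ(X', j ⁻¹ᵁ W))) := by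
    refine ⟨2, (pow_two _).trans (le_bot_iff.1 (Ideal.mul_le.2 fun x hx y hy => ?_))⟩
    obtain ⟨x, rfl⟩ := Ideal.Quotient.mk_surjective x
    obtain ⟨y, rfl⟩ := Ideal.Quotient.mk_surjective y
    rw [Ideal.mem_bot, ← map_mul, Ideal.Quotient.eq_zero_iff_mem, pow_two]
    exact Ideal.mul_mem_mul hx hy
  let σ := Algebra.FormallySmooth.liftOfSurjective (AlgHom.id Γ(Y, V₀) Γ(X', j ⁻¹ᵁ W)) q hq hnil
  obtain ⟨s, hs⟩ : ∃ s : Γ(X', j ⁻¹ᵁ W) → Γ(X, W), ∀ c, Ideal.Quotient.mk (RingHom.ker π ^ 2) (s c) = σ c :=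
    ⟨fun c => (Ideal.Quotient.mk_surjective (σ c)).choose, fun c => (Ideal.Quotient.mk_surjective (σ c)).choose_spec⟩
  have hπs : ∀ c, π (s c) = c := fun c => by
    have h1 : q (σ c) = c := Algebra.FormallySmooth.liftOfSurjective_apply (AlgHom.id _ _) q hq hnil c
    rw [← hs c] at h1
    exact h1
  let ε : Γ(X, W) → RingHom.ker π := fun b => ⟨b - s (π b), by rw [RingHom.mem_ker, map_sub, hπs, sub_self]⟩
  let δf : Γ(X, W) → Γ(CN, j ⁻¹ᵁ W) := fun b => Kh (ε b)
  have hδadd : ∀ a b, δf (a + b) = δf a + δf b := by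
    intro a b
    show Kh (ε (a + b)) = Kh (ε a) + Kh (ε b)
    rw [← map_add]
    refine hK2 _ _ ?_
    rw [← Ideal.Quotient.eq_zero_iff_mem]
    simp only [ε, map_add, map_sub, hs, Submodule.coe_add]
    ring
  have hδmul : ∀ a b, δf (a * b) = π a • δf b + π b • δf a := by
    intro a b
    show Kh (ε (a * b)) = π a • Kh (ε b) + π b • Kh (ε a)
    rw [← hKsmul, ← hKsmul, ← map_add]
    refine hK2 _ _ ?_
    have h2 : (a - s (π a)) * (b - s (π b)) ∈ RingHom.ker π ^ 2 := by
      rw [pow_two]; exact Ideal.mul_mem_mul (ε a).2 (ε b).2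
    rw [← Ideal.Quotient.eq_zero_iff_mem] at h2 ⊢
    simp only [ε, map_mul, map_add, map_sub, hs, Submodule.coe_add, SetLike.val_smul, smul_eq_mul] at h2 ⊢
    linear_combination (-1 : Γ(X, W) ⧸ RingHom.ker π ^ 2) * h2
  have hδA : ∀ a, δf (f.appLE V₀ W eW a) = 0 := by
    intro a
    show Kh (ε (f.appLE V₀ W eW a)) = 0
    rw [← map_zero Kh]
    refine hK2 _ _ ?_
    rw [← Ideal.Quotient.eq_zero_iff_mem]
    simp only [ε, ZeroMemClass.coe_zero, sub_zero, map_sub, hs]
    rw [sub_eq_zero, show π (f.appLE V₀ W eW a) = algebraMap Γ(Y, V₀) _ a from π'.commutes a, AlgHom.commutes]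
    rfl
  have hδK : ∀ (b : Γ(X, W)) (h : b ∈ RingHom.ker π), δf b = Kh ⟨b, h⟩ := by
    intro b h
    refine hK2 _ _ ?_
    rw [← Ideal.Quotient.eq_zero_iff_mem]
    simp [ε, hs, RingHom.mem_ker.1 h]
  let C := Γ(X', j ⁻¹ᵁ W)
  let B := Γ(X, W)
  letI : Algebra B C := π.toAlgebra
  have hπA : ∀ a, π (f.appLE V₀ W eW a) = algebraMap Γ(Y, V₀) C a := π'.commutes
  haveI : IsScalarTower Γ(Y, V₀) B C := IsScalarTower.of_algebraMap_eq fun a => (hπA a).symm
  letI : Module B Γ(CN, j ⁻¹ᵁ W) := Module.compHom _ π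
  haveI : IsScalarTower B C Γ(CN, j ⁻¹ᵁ W) := IsScalarTower.of_algebraMap_smul fun _ _ => rfl
  letI : Module Γ(Y, V₀) Γ(CN, j ⁻¹ᵁ W) := Module.compHom _ (algebraMap Γ(Y, V₀) C)
  haveI : IsScalarTower Γ(Y, V₀) C Γ(CN, j ⁻¹ᵁ W) := IsScalarTower.of_algebraMap_smul fun _ _ => rfl
  haveI : IsScalarTower Γ(Y, V₀) B Γ(CN, j ⁻¹ᵁ W) := IsScalarTower.of_algebraMap_smul fun a x => by
    show π (f.appLE V₀ W eW a) • x = algebraMap Γ(Y, V₀) C a • x
    rw [hπA]
  let GP := C ⊗[B] Ω[B⁄Γ(Y, V₀)]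
  let pd : B → GP := fun b => (1 : C) ⊗ₜ[B] KaehlerDifferential.D Γ(Y, V₀) B b
  let δ : Derivation Γ(Y, V₀) B Γ(CN, j ⁻¹ᵁ W) :=
    { toFun := δf
      map_add' := hδadd
      map_smul' := fun a b => by
        show δf (a • b) = algebraMap Γ(Y, V₀) C a • δf b
        rw [Algebra.smul_def, hδmul]
        erw [hδA]
        rw [smul_zero, add_zero, ← hπA]
        rfl
      map_one_eq_zero' := by
        show δf 1 = 0
        have := hδA 1
        rwa [map_one] at this
      leibniz' := hδmul }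
  let l : GP →ₗ[C] Γ(CN, j ⁻¹ᵁ W) := LinearMap.liftBaseChange C δ.liftKaehlerDifferential
  have hlpd : ∀ b, l (pd b) = δf b := fun b => by
    show LinearMap.liftBaseChange C _ ((1 : C) ⊗ₜ[B] _) = _
    rw [LinearMap.liftBaseChange_tmul, one_smul]
    exact δ.liftKaehlerDifferential_comp_D b
  have hpd_add : ∀ a b, pd (a + b) = pd a + pd b := fun a b => by
    simp only [pd, map_add, TensorProduct.tmul_add]
  have hpd_mul : ∀ a b, pd (a * b) = π a • pd b + π b • pd a := fun a b => by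
    simp only [pd, Derivation.leibniz, TensorProduct.tmul_add, TensorProduct.tmul_smul]
    simp only [← algebraMap_smul C a, ← algebraMap_smul C b]
    rfl
  have hpd_A : ∀ a, pd (f.appLE V₀ W eW a) = 0 := fun a => by
    show (1 : C) ⊗ₜ[B] KaehlerDifferential.D Γ(Y, V₀) B (algebraMap Γ(Y, V₀) B a) = 0
    rw [Derivation.map_algebraMap, TensorProduct.tmul_zero]
  -- the map out of the conormal module
  have hI0 : ∀ m : Γ(ClSub.idealMod j.ker, W), OmegaSh.idealSect j.ker W m ∈ RingHom.ker π := fun m =>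
    Omega57.app_eq_zero_of_subscheme j W _ (Omega57.subschemeι_idealSect _ _ _)
  obtain ⟨ψ, hψ⟩ := exists_linear_pullSect_module j (ClSub.idealMod j.ker) hV hW le_rfl GP
    (AddMonoidHom.mk' (fun m => pd (OmegaSh.idealSect j.ker W m)) fun a b => by rw [map_add, hpd_add])
    (fun r m => by
      show pd (OmegaSh.idealSect j.ker W (r • m)) = _
      rw [Omega57.idealSect_smul, hpd_mul, RingHom.mem_ker.1 (hI0 m), zero_smul, add_zero,
        ← Scheme.Hom.app_eq_appLE]
      rfl)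
  replace hψ : ∀ m, ψ (OmegaSh.conormalSect j W m) = pd (OmegaSh.idealSect j.ker W m) := fun m =>
    (congrArg ψ (QC70.res_self (M := CN) (OmegaSh.conormalSect j W m)).symm).trans (hψ m)
  have hspan : ∀ x : Γ(CN, j ⁻¹ᵁ W), x ∈ Submodule.span C (Set.range fun m : Γ(ClSub.idealMod j.ker, W) =>
      QC70.res CN (le_rfl : j ⁻¹ᵁ W ≤ j ⁻¹ᵁ W) (OmegaSh.conormalSect j W m)) := fun x =>
    (span_pullSect j (ClSub.idealMod j.ker) hV hW le_rfl).ge trivial
  have hlψ : ∀ x : Γ(CN, j ⁻¹ᵁ W), l (ψ x) = x := by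
    intro x
    induction hspan x using Submodule.span_induction with
    | mem y hy =>
      obtain ⟨m, rfl⟩ := hy
      beta_reduce
      rw [QC70.res_self, hψ m, hlpd]
      exact (hδK _ (hI0 m)).trans (hKs m (hI0 m))
    | zero => rw [map_zero, map_zero]
    | add y z _ _ hy hz => rw [map_add, map_add, hy, hz]
    | smul a y _ hy => rw [map_smul, map_smul, hy]
  -- the projection to the differentials of the subscheme
  let DC : Derivation Γ(Y, V₀) C Ω[C⁄Γ(Y, V₀)] := KaehlerDifferential.D _ _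
  let T : GP →ₗ[C] Ω[C⁄Γ(Y, V₀)] := KaehlerDifferential.mapBaseChange Γ(Y, V₀) B C
  have hTpd : ∀ b, T (pd b) = DC (π b) := fun b => by
    show KaehlerDifferential.mapBaseChange _ _ _ ((1 : C) ⊗ₜ[B] _) = _
    rw [KaehlerDifferential.mapBaseChange_tmul, one_smul, KaehlerDifferential.map_D]
    rfl
  have hTψ : ∀ x, T (ψ x) = 0 := by
    intro x
    induction hspan x using Submodule.span_induction with
    | mem y hy =>
      obtain ⟨m, rfl⟩ := hy
      beta_reduce
      rw [QC70.res_self, hψ m, hTpd, RingHom.mem_ker.1 (hI0 m), map_zero]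
    | zero => rw [map_zero, map_zero]
    | add y z _ _ hy hz => rw [map_add, map_add, hy, hz, add_zero]
    | smul a y _ hy => rw [map_smul, map_smul, hy, smul_zero]
  -- the projection away from the conormal module is a derivation of the subscheme
  let Pr : GP →ₗ[C] GP := LinearMap.id - ψ.comp l
  let D₀ : B → GP := fun b => Pr (pd b)
  have hD₀ : ∀ a b, π a = π b → D₀ a = D₀ b := by
    intro a b hab
    have hm : a - b ∈ RingHom.ker π := by rw [RingHom.mem_ker, map_sub, hab, sub_self]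
    obtain ⟨m, hm'⟩ := Omega57.exists_idealSect_eq j.ker W (a - b)
      (Omega57.subscheme_app_eq_zero j W _ hm)
    have h1 : D₀ (a - b) = 0 := by
      show pd (a - b) - ψ (l (pd (a - b))) = 0
      rw [← hm', ← hψ, hlψ, sub_self]
    have h2 : D₀ a = D₀ (a - b) + D₀ b := by
      show Pr (pd a) = Pr (pd (a - b)) + Pr (pd b)
      rw [← map_add, ← hpd_add, sub_add_cancel]
    rw [h2, h1, zero_add]
  let DP : Derivation Γ(Y, V₀) C GP :=
    { toFun := fun c => D₀ (s c)
      map_add' := fun a b => by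
        refine (hD₀ _ (s a + s b) (by rw [map_add, hπs, hπs, hπs])).trans ?_
        show Pr (pd _) = Pr (pd _) + Pr (pd _)
        rw [hpd_add, map_add]
      map_smul' := fun a c => by
        refine (hD₀ _ (f.appLE V₀ W eW a * s c) (by rw [map_mul, hπs, hπs, hπA, Algebra.smul_def])).trans ?_
        show Pr (pd _) = a • Pr (pd _)
        rw [hpd_mul, hpd_A, smul_zero, add_zero, hπA, map_smul, algebraMap_smul]
      map_one_eq_zero' := by
        show D₀ (s 1) = 0
        refine (hD₀ _ (f.appLE V₀ W eW 1) (by rw [hπs, hπA, map_one])).trans ?_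
        show Pr (pd _) = 0
        rw [hpd_A, map_zero]
      leibniz' := fun a b => by
        show D₀ (s (a * b)) = a • D₀ (s b) + b • D₀ (s a)
        refine (hD₀ _ (s a * s b) (by rw [map_mul, hπs, hπs, hπs])).trans ?_
        show Pr (pd _) = a • Pr (pd _) + b • Pr (pd _)
        rw [hpd_mul, map_add, map_smul, map_smul, hπs, hπs] }
  let u := DP.liftKaehlerDifferential
  have hu : ∀ b, u (DC (π b)) = D₀ b := fun b =>
    (DP.liftKaehlerDifferential_comp_D (π b)).trans (hD₀ _ _ (hπs _))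
  have hTu : ∀ ω, T (u ω) = ω := by
    have hc : T.comp u = LinearMap.id := Derivation.liftKaehlerDifferential_unique _ _ (Derivation.ext fun c => by
      show T (u (DC c)) = DC c
      rw [show DC c = DC (π (s c)) from congrArg DC (hπs c).symm, hu]
      show T (pd _ - ψ (l (pd _))) = _
      rw [map_sub, hTψ, sub_zero, hTpd])
    exact LinearMap.congr_fun hc
  have hluψ : ∀ ω, l (u ω) = 0 := by
    have hc : l.comp u = 0 := Derivation.liftKaehlerDifferential_unique _ _ (Derivation.ext fun c => by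
      show l (u (DC c)) = 0
      rw [show DC c = DC (π (s c)) from congrArg DC (hπs c).symm, hu]
      show l (pd _ - ψ (l (pd _))) = 0
      rw [map_sub, hlψ, sub_self])
    exact LinearMap.congr_fun hc
  have huT : ∀ x, u (T x) = Pr x := by
    intro x
    induction x using TensorProduct.induction_on with
    | zero => simp
    | add y z hy hz => rw [map_add, map_add, map_add, hy, hz]
    | tmul c k =>
      have hk : k ∈ Submodule.span B (Set.range (KaehlerDifferential.D Γ(Y, V₀) B)) := by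
        rw [KaehlerDifferential.span_range_derivation]; trivial
      induction hk using Submodule.span_induction generalizing c with
      | mem y hy =>
        obtain ⟨b, rfl⟩ := hy
        rw [show c ⊗ₜ[B] KaehlerDifferential.D Γ(Y, V₀) B b = c • pd b by
          show c ⊗ₜ[B] _ = c • ((1 : C) ⊗ₜ[B] _); erw [TensorProduct.smul_tmul']; exact congrArg (fun t => t ⊗ₜ[B] _) (mul_one c).symm]
        rw [map_smul, map_smul, map_smul, hTpd, hu]
      | zero => simp
      | add y z _ _ hy hz => simp only [TensorProduct.tmul_add, map_add, hy, hz]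
      | smul r y _ hy => rw [TensorProduct.tmul_smul, TensorProduct.smul_tmul', hy]
  refine ⟨LinearEquiv.ofLinearMap (l.prod T) (ψ.coprod u) ?_ ?_⟩
  · refine LinearMap.ext fun ⟨x, ω⟩ => ?_
    refine Prod.ext ?_ ?_
    · show l (ψ x + u ω) = x
      rw [map_add, hlψ, hluψ, add_zero]
    · show T (ψ x + u ω) = ω
      rw [map_add, hTψ, hTu, zero_add]
  · refine LinearMap.ext fun x => ?_
    show ψ (l x) + u (T x) = x
    rw [huT]
    show ψ (l x) + (x - ψ (l x)) = x
    abel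

end Groth.Agent.SchBasics
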