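import Mathlib.AlgebraicGeometry.Morphisms.Separated
import Mathlib.AlgebraicGeometry.Morphisms.ClosedImmersion
import Mathlib.AlgebraicGeometry.Morphisms.QuasiSeparated
import Mathlib.RingTheory.Regular.RegularSequence
import Mathlib.RingTheory.Ideal.MinimalPrime.Localization

set_option autoImplicit false
universe u
open AlgebraicGeometry CategoryTheory CategoryTheory.Limits TopologicalSpace
open scoped Pointwise

namespace Groth.Agent.SchBasics

/-- The maximal ideal contains a regular element. -/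
def HasReg (R : Type*) [CommRing R] : Prop :=
  ∃ a : R, ¬ IsUnit a ∧ ∀ y, a * y = 0 → y = 0

/-- The maximal ideal contains a regular sequence of length two. -/
def HasRegTwo (R : Type*) [CommRing R] : Prop :=
  ∃ a b : R, ¬ IsUnit a ∧ ¬ IsUnit b ∧ (∀ y, a * y = 0 → y = 0) ∧
    ∀ x y, b * x = a * y → ∃ w, x = a * w

lemma HasRegTwo.hasReg {R : Type*} [CommRing R] (h : HasRegTwo R) : HasReg R :=
  let ⟨a, _, ha, _, h1, _⟩ := h
  ⟨a, ha, h1⟩

lemma HasReg.of_ringEquiv {R S : Type*} [CommRing R] [CommRing S] (e : R ≃+* S) (h : HasReg R) :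
    HasReg S := by
  obtain ⟨a, ha, h1⟩ := h
  refine ⟨e a, by simpa using ha, fun y hy => ?_⟩
  have := h1 (e.symm y) (e.injective (by simpa using hy))
  simpa using congrArg e this

lemma HasRegTwo.of_ringEquiv {R S : Type*} [CommRing R] [CommRing S] (e : R ≃+* S)
    (h : HasRegTwo R) : HasRegTwo S := by
  obtain ⟨a, b, ha, hb, h1, h2⟩ := h
  refine ⟨e a, e b, by simpa using ha, by simpa using hb, fun y hy => ?_, fun x y hxy => ?_⟩
  · have := h1 (e.symm y) (e.injective (by simpa using hy))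
    simpa using congrArg e this
  · obtain ⟨w, hw⟩ := h2 (e.symm x) (e.symm y) (e.injective (by simpa using hxy))
    exact ⟨e w, by simpa using congrArg e hw⟩

lemma hasReg_of_isSMulRegular {R : Type*} [CommRing R] [IsLocalRing R]
    (h : ∃ a ∈ IsLocalRing.maximalIdeal R, IsSMulRegular R a) : HasReg R :=
  let ⟨a, ha, h1⟩ := h
  ⟨a, ha, fun y hy => h1 (show a • y = a • (0 : R) by simpa using hy)⟩

lemma hasRegTwo_of_isWeaklyRegular {R : Type*} [CommRing R] [IsLocalRing R]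
    (h : ∃ a b : R, a ∈ IsLocalRing.maximalIdeal R ∧ b ∈ IsLocalRing.maximalIdeal R ∧
      RingTheory.Sequence.IsWeaklyRegular R [a, b]) : HasRegTwo R := by
  obtain ⟨a, b, ha, hb, hr⟩ := h
  obtain ⟨h1, h2⟩ := (RingTheory.Sequence.isWeaklyRegular_cons_iff R a [b]).mp hr
  rw [RingTheory.Sequence.isWeaklyRegular_singleton_iff] at h2
  refine ⟨a, b, ha, hb, fun y hy => h1 (show a • y = a • (0 : R) by simpa using hy), fun x y hxy => ?_⟩
  let π := Submodule.Quotient.mk (p := (a • ⊤ : Submodule R R))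
  have : π x = π 0 := h2 (show b • π x = b • π 0 from by
    rw [← Submodule.Quotient.mk_smul, smul_eq_mul, hxy, ← Submodule.Quotient.mk_smul, smul_zero,
      Submodule.Quotient.eq, sub_zero]
    exact Submodule.smul_mem_pointwise_smul y a ⊤ trivial)
  rw [Submodule.Quotient.eq, sub_zero] at this
  obtain ⟨w, -, hw⟩ := this
  exact ⟨w, hw.symm⟩

variable {X : Scheme.{u}} {U V : X.Opens}

lemma exists_notMem_mul_eq_zero (hV : IsAffineOpen V) {z : X} (hz : z ∈ V) (s : Γ(X, V))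
    (h : X.presheaf.germ V z hz s = 0) :
    ∃ t ∉ (hV.primeIdealOf ⟨z, hz⟩).asIdeal, t * s = 0 := by
  have := hV.isLocalization_stalk ⟨z, hz⟩
  let : Algebra Γ(X, V) (X.presheaf.stalk z) :=
    TopCat.Presheaf.algebra_section_stalk X.presheaf ⟨z, hz⟩
  obtain ⟨t, ht⟩ := (IsLocalization.map_eq_zero_iff
    (hV.primeIdealOf ⟨z, hz⟩).asIdeal.primeCompl (X.presheaf.stalk z) s).mp h
  exact ⟨t, t.2, ht⟩

lemma exists_point_of_prime (hV : IsAffineOpen V) (p : Ideal Γ(X, V)) [p.IsPrime] :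
    ∃ (z : X) (hz : z ∈ V), (hV.primeIdealOf ⟨z, hz⟩).asIdeal = p := by
  let q : PrimeSpectrum Γ(X, V) := ⟨p, inferInstance⟩
  have hz : hV.fromSpec q ∈ V := hV.range_fromSpec.subset ⟨q, rfl⟩
  exact ⟨_, hz, congrArg PrimeSpectrum.asIdeal
    (hV.fromSpec.isOpenEmbedding.injective (hV.fromSpec_primeIdealOf ⟨_, hz⟩))⟩

/-- Schematic density: a section vanishing on `U` vanishes. -/
lemma eq_zero_of_germ_eq_zero (H : ∀ z, z ∉ U → HasReg (X.presheaf.stalk z)) (hV : IsAffineOpen V)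
    (s : Γ(X, V)) (hs : ∀ y (hy : y ∈ V), y ∈ U → X.presheaf.germ V y hy s = 0) : s = 0 := by
  let J : Ideal Γ(X, V) := Ideal.span {s} |>.annihilator
  have hJ : ∀ r, r ∈ J ↔ r * s = 0 := fun r => Submodule.mem_annihilator_span_singleton s r
  suffices J = ⊤ by simpa using (hJ 1).mp (this ▸ Submodule.mem_top)
  by_contra hne
  obtain ⟨p, hp⟩ := Ideal.nonempty_minimalPrimes hne
  have := hp.1.1
  obtain ⟨z, hzV, rfl⟩ := exists_point_of_prime hV p
  set p := (hV.primeIdealOf ⟨z, hzV⟩).asIdeal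
  have hmem : ∀ t ∉ p, t * s ≠ 0 := fun t ht h => ht (hp.1.2 ((hJ t).mpr h))
  have hzU : z ∉ U := fun h => by
    obtain ⟨t, ht, hts⟩ := exists_notMem_mul_eq_zero hV hzV s (hs z hzV h)
    exact hmem t ht hts
  obtain ⟨a, ha, hreg⟩ := H z hzU
  have := hV.isLocalization_stalk ⟨z, hzV⟩
  let : Algebra Γ(X, V) (X.presheaf.stalk z) :=
    TopCat.Presheaf.algebra_section_stalk X.presheaf ⟨z, hzV⟩
  obtain ⟨n, hn⟩ : a ∈ (J.map (algebraMap Γ(X, V) (X.presheaf.stalk z))).radical := by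
    rw [IsLocalization.AtPrime.radical_map_of_mem_minimalPrimes _ p J hp,
      IsLocalization.AtPrime.map_eq_maximalIdeal]
    exact ha
  have key : ∀ x ∈ J.map (algebraMap Γ(X, V) (X.presheaf.stalk z)),
      x * algebraMap _ _ s = 0 := fun x hx => by
    induction hx using Submodule.span_induction with
    | mem x hx =>
      obtain ⟨r, hr, rfl⟩ := hx
      rw [← map_mul, (hJ r).mp hr, map_zero]
    | zero => rw [zero_mul]
    | add x y _ _ hx hy => rw [add_mul, hx, hy, add_zero]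
    | smul c x _ hx => rw [smul_eq_mul, mul_assoc, hx, mul_zero]
  have h0 : algebraMap Γ(X, V) (X.presheaf.stalk z) s = 0 := by
    have hpow : ∀ m, ∀ y, a ^ m * y = 0 → y = 0 := by
      intro m
      induction m with
      | zero => intro y hy; simpa using hy
      | succ m ih => intro y hy; exact hreg y (ih _ (by rwa [pow_succ, mul_assoc] at hy))
    exact hpow n _ (key _ hn)
  obtain ⟨t, ht, hts⟩ := exists_notMem_mul_eq_zero hV hzV s h0
  exact hmem t ht hts

lemma ker_ι_eq_bot [QuasiCompact U.ι] (H : ∀ z, z ∉ U → HasReg (X.presheaf.stalk z)) :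
    U.ι.ker = ⊥ := by
  rw [eq_bot_iff]
  intro V s hs
  rw [Scheme.Hom.ker_apply, RingHom.mem_ker] at hs
  rw [Scheme.IdealSheafData.ideal_bot, Pi.bot_apply, Ideal.mem_bot]
  refine eq_zero_of_germ_eq_zero H V.2 s fun y hy hyU => ?_
  obtain ⟨u, rfl⟩ : y ∈ Set.range U.ι := by rwa [Scheme.Opens.range_ι]
  have h1 : U.ι.stalkMap u (X.presheaf.germ V.1 (U.ι u) hy s) = 0 := by
    refine (congrArg (fun φ => φ s) (U.ι.germ_stalkMap V.1 u hy)).trans ?_
    exact (congrArg (U.toScheme.presheaf.germ (U.ι ⁻¹ᵁ V.1) u hy).hom hs).trans (map_zero _)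
  exact (ConcreteCategory.bijective_of_isIso (U.ι.stalkMap u)).injective
    (h1.trans (map_zero _).symm)

/-- Two morphisms to a separated scheme over `X` agreeing on `U` are equal. -/
lemma ext_of_hasReg [QuasiCompact U.ι] (H : ∀ z, z ∉ U → HasReg (X.presheaf.stalk z))
    {Y S : Scheme.{u}} {g₁ g₂ : X ⟶ Y} (f : Y ⟶ S) [IsSeparated f] (h : g₁ ≫ f = g₂ ≫ f)
    (hU : U.ι ≫ g₁ = U.ι ≫ g₂) : g₁ = g₂ := by
  let j : pullback (pullback.lift g₁ g₂ h) (pullback.diagonal f) ⟶ X := pullback.fst _ _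
  have : IsClosedImmersion j := inferInstance
  have hk : U.ι ≫ pullback.lift g₁ g₂ h = (U.ι ≫ g₁) ≫ pullback.diagonal f := by
    apply pullback.hom_ext <;> simp [hU, pullback.lift_fst, pullback.lift_snd]
  have hfac : pullback.lift U.ι (U.ι ≫ g₁) hk ≫ j = U.ι := pullback.lift_fst _ _ _
  have hker : j.ker = ⊥ := by
    rw [eq_bot_iff, ← ker_ι_eq_bot H]
    conv_rhs => rw [← hfac]
    exact Scheme.Hom.le_ker_comp _ _
  have : IsIso j := IsClosedImmersion.isIso_iff_ker_eq_bot.mpr hker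
  rw [← cancel_epi j]
  have hc := pullback.condition (f := pullback.lift g₁ g₂ h) (g := pullback.diagonal f)
  have e1 := congrArg (· ≫ pullback.fst f f) hc
  have e2 := congrArg (· ≫ pullback.snd f f) hc
  simp only [Category.assoc, pullback.lift_fst, pullback.lift_snd, pullback.diagonal_fst,
    pullback.diagonal_snd, Category.comp_id] at e1 e2
  exact e1.trans e2.symm

/-- The hypothesis passes to open subschemes. -/
lemma hyp_preimage {W : Scheme.{u}} (j : W ⟶ X) [IsOpenImmersion j] {P : ∀ R : Type u, [CommRing R] → Prop}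
    (hP : ∀ {R S : Type u} [CommRing R] [CommRing S], (R ≃+* S) → P R → P S)
    (H : ∀ z, z ∉ U → P (X.presheaf.stalk z)) (w : W) (hw : w ∉ j ⁻¹ᵁ U) : P (W.presheaf.stalk w) :=
  hP (asIso (j.stalkMap w)).commRingCatIsoToRingEquiv (H (j w) hw)

lemma quasiCompact_preimage_ι {W : Scheme.{u}} (j : W ⟶ X) [QuasiCompact U.ι] :
    QuasiCompact (j ⁻¹ᵁ U).ι :=
  MorphismProperty.of_isPullback (isPullback_morphismRestrict j U) ‹_›

section extension

variable (H : ∀ z, z ∉ U → HasRegTwo (X.presheaf.stalk z)) (hV : IsAffineOpen V)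

set_option quotPrecheck false in
local notation "ρ" => X.presheaf.map (homOfLE (inf_le_right : U ⊓ V ≤ V)).op

include H hV in
lemma res_injective : Function.Injective ρ := by
  rw [injective_iff_map_eq_zero]
  intro s hs
  refine eq_zero_of_germ_eq_zero (fun z hz => (H z hz).hasReg) hV s fun y hy hyU => ?_
  rw [← TopCat.Presheaf.germ_res_apply X.presheaf (homOfLE (inf_le_right : U ⊓ V ≤ V)) y ⟨hyU, hy⟩,
    hs, map_zero]

include hV in
lemma exists_pow_mul_eq_res [QuasiCompact U.ι] (σ : Γ(X, U ⊓ V)) (g : Γ(X, V))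
    (hg : X.basicOpen g ≤ U ⊓ V) : ∃ (n : ℕ) (c : Γ(X, V)), ρ g ^ n * σ = ρ c := by
  have hc : IsCompact ((U ⊓ V : X.Opens) : Set X) := by
    have := (U.ι.isCompact_preimage hV.isCompact).image U.ι.continuous
    convert this using 1
    exact (Set.image_preimage_eq_range_inter.trans (by rw [Scheme.Opens.range_ι]; rfl)).symm
  have hq : IsQuasiSeparated ((U ⊓ V : X.Opens) : Set X) :=
    hV.isQuasiSeparated.of_subset Set.inter_subset_right
  have := hV.isLocalization_basicOpen g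
  obtain ⟨c, ⟨_, n, rfl⟩, hc'⟩ := IsLocalization.exists_mk'_eq (Submonoid.powers g)
    (X.presheaf.map (homOfLE hg).op σ)
  rw [IsLocalization.mk'_eq_iff_eq_mul] at hc'
  let g' : Γ(X, U ⊓ V) := ρ g
  have hb : X.basicOpen g' ≤ X.basicOpen g := by
    simp [g', Scheme.basicOpen_res]
  have := isLocalization_basicOpen_of_qcqs hc hq g'
  let τ := ρ c - g' ^ n * σ
  have h0 : algebraMap Γ(X, U ⊓ V) Γ(X, X.basicOpen g') τ = 0 := by
    have h := congrArg (X.presheaf.map (homOfLE hb).op) hc'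
    simp only [RingHom.algebraMap_toAlgebra, map_mul, map_pow] at h ⊢
    simp only [τ, g', map_sub, map_mul, map_pow, ← CommRingCat.comp_apply, ← Functor.map_comp] at h ⊢
    rw [sub_eq_zero, mul_comm]
    exact h
  obtain ⟨⟨_, m, rfl⟩, hm⟩ := (IsLocalization.map_eq_zero_iff (Submonoid.powers g') _ τ).mp h0
  refine ⟨n + m, g ^ m * c, ?_⟩
  simp only [τ, mul_sub, sub_eq_zero] at hm
  rw [map_mul, map_pow, pow_add, mul_comm (_ ^ n), mul_assoc]
  exact hm.symm

include hV in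
lemma isCompact_inf [QuasiCompact U.ι] : IsCompact ((U ⊓ V : X.Opens) : Set X) := by
  have := (U.ι.isCompact_preimage hV.isCompact).image U.ι.continuous
  convert this using 1
  exact (Set.image_preimage_eq_range_inter.trans (by rw [Scheme.Opens.range_ι]; rfl)).symm

include H hV in
/-- A regular element at `z` acts injectively on sections over `U ⊓ V` near `z`. -/
lemma exists_notMem_res_mul_eq_zero [QuasiCompact U.ι] (p : Ideal Γ(X, V)) [p.IsPrime] {α : Γ(X, V)}
    (hα : ∀ c : Γ(X, V), (∃ t ∉ p, t * (α * c) = 0) → ∃ t ∉ p, t * c = 0)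
    (τ : Γ(X, U ⊓ V)) (hτ : ρ α * τ = 0) : ∃ t ∉ p, ρ t * τ = 0 := by
  classical
  let ι := {g : Γ(X, V) // X.basicOpen g ≤ U ⊓ V}
  obtain ⟨F, hF⟩ := (isCompact_inf (U := U) hV).elim_finite_subcover
    (fun g : ι => (X.basicOpen g.1 : Set X)) (fun g => (X.basicOpen g.1).isOpen) (fun y hy => by
      obtain ⟨g, hg, hyg⟩ := hV.exists_basicOpen_le (V := U ⊓ V) ⟨y, hy⟩ hy.2
      exact Set.mem_iUnion.mpr ⟨⟨g, hg⟩, hyg⟩)
  have key : ∀ g : ι, ∃ t ∉ p, ∃ n : ℕ, ρ g.1 ^ n * (ρ t * τ) = 0 := fun g => by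
    obtain ⟨n, c, hc⟩ := exists_pow_mul_eq_res hV τ g.1 g.2
    have h0 : α * c = 0 := res_injective H hV (by
      rw [map_mul, ← hc, mul_left_comm, hτ, mul_zero, map_zero])
    obtain ⟨t, ht, htc⟩ := hα c ⟨1, p.one_notMem, by rw [h0, mul_zero]⟩
    refine ⟨t, ht, n, ?_⟩
    rw [mul_left_comm, hc, ← map_mul, htc, map_zero]
  choose t ht n hn using key
  refine ⟨∏ g ∈ F, t g, fun h => ?_, ?_⟩
  · obtain ⟨g, -, hg⟩ := Ideal.IsPrime.prod_mem_iff.mp h
    exact ht g hg
  refine TopCat.Presheaf.section_ext X.sheaf (U ⊓ V) _ _ fun y hy => ?_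
  obtain ⟨g, hgF, hyg⟩ : ∃ g ∈ F, y ∈ X.basicOpen g.1 := by
    simpa only [Set.mem_iUnion, exists_prop, SetLike.mem_coe] using hF hy
  change X.presheaf.germ (U ⊓ V) y hy _ = X.presheaf.germ (U ⊓ V) y hy 0
  have hu : IsUnit (X.presheaf.germ (U ⊓ V) y hy (ρ g.1)) := by
    rw [TopCat.Presheaf.germ_res_apply]
    exact (Scheme.mem_basicOpen X g.1 y hy.2).mp hyg
  have h := congrArg (X.presheaf.germ (U ⊓ V) y hy) (hn g)
  rw [map_mul, map_pow, map_zero, (hu.pow (n g)).mul_right_eq_zero] at h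
  rw [← Finset.prod_erase_mul F t hgF]
  simp only [map_mul] at h ⊢
  rw [mul_assoc, h, mul_zero, map_zero]

include H hV in
/-- Hartogs: sections over `U ⊓ V` extend uniquely to `V`. -/
lemma res_surjective [QuasiCompact U.ι] : Function.Surjective ρ := by
  intro σ
  let J : Ideal Γ(X, V) :=
    { carrier := {r | ∃ c, ρ r * σ = ρ c}
      add_mem' := fun ⟨c, hc⟩ ⟨d, hd⟩ => ⟨c + d, by rw [map_add, map_add, add_mul, hc, hd]⟩
      zero_mem' := ⟨0, by rw [map_zero, zero_mul]⟩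
      smul_mem' := fun k r ⟨c, hc⟩ => ⟨k * c, by rw [smul_eq_mul, map_mul, map_mul, mul_assoc, hc]⟩ }
  suffices J = ⊤ by
    obtain ⟨c, hc⟩ : (1 : Γ(X, V)) ∈ J := this ▸ Submodule.mem_top
    exact ⟨c, by rw [← hc, map_one, one_mul]⟩
  by_contra hne
  obtain ⟨p, hp⟩ := Ideal.nonempty_minimalPrimes hne
  have := hp.1.1
  obtain ⟨z, hzV, rfl⟩ := exists_point_of_prime hV p
  set p := (hV.primeIdealOf ⟨z, hzV⟩).asIdeal
  have hzU : z ∉ U := fun h => by
    obtain ⟨g, hg, hzg⟩ := hV.exists_basicOpen_le (V := U ⊓ V) ⟨z, ⟨h, hzV⟩⟩ hzV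
    obtain ⟨n, c, hc⟩ := exists_pow_mul_eq_res hV σ g hg
    have : g ^ n ∈ J := ⟨c, by rw [map_pow]; exact hc⟩
    have hgp : g ∈ p := ‹p.IsPrime›.mem_of_pow_mem n (hp.1.2 this)
    have := hV.isLocalization_stalk ⟨z, hzV⟩
    let : Algebra Γ(X, V) (X.presheaf.stalk z) :=
      TopCat.Presheaf.algebra_section_stalk X.presheaf ⟨z, hzV⟩
    exact (IsLocalization.AtPrime.isUnit_to_map_iff (X.presheaf.stalk z) p g).mp
      ((Scheme.mem_basicOpen X g z hzV).mp hzg) hgp
  obtain ⟨a, b, ha, hb, hrega, hregb⟩ := H z hzU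
  have := hV.isLocalization_stalk ⟨z, hzV⟩
  let : Algebra Γ(X, V) (X.presheaf.stalk z) :=
    TopCat.Presheaf.algebra_section_stalk X.presheaf ⟨z, hzV⟩
  let γ := algebraMap Γ(X, V) (X.presheaf.stalk z)
  obtain ⟨α, sa, hsa⟩ := IsLocalization.exists_mk'_eq p.primeCompl a
  obtain ⟨β, sb, hsb⟩ := IsLocalization.exists_mk'_eq p.primeCompl b
  have eα : γ α = a * γ sa := (IsLocalization.mk'_eq_iff_eq_mul.mp hsa)
  have eβ : γ β = b * γ sb := (IsLocalization.mk'_eq_iff_eq_mul.mp hsb)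
  have usa : IsUnit (γ sa) := IsLocalization.map_units _ sa
  have usb : IsUnit (γ sb) := IsLocalization.map_units _ sb
  have hnil : ∀ x, ¬ IsUnit (γ x) → ∃ (N : ℕ) (t : Γ(X, V)), t ∉ p ∧ t * x ^ N ∈ J := fun x hx => by
    obtain ⟨N, hN⟩ : γ x ∈ (J.map γ).radical := by
      rw [IsLocalization.AtPrime.radical_map_of_mem_minimalPrimes _ p J hp,
        IsLocalization.AtPrime.map_eq_maximalIdeal]
      exact hx
    rw [← map_pow, IsLocalization.algebraMap_mem_map_algebraMap_iff p.primeCompl] at hN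
    obtain ⟨t, ht, htx⟩ := hN
    exact ⟨N, t, ht, htx⟩
  let I : ℕ → ℕ → Prop := fun i j => ∃ t ∉ p, t * (α ^ i * β ^ j) ∈ J
  obtain ⟨N, tN, htN, hN⟩ := hnil α (by rw [eα]; exact fun h => ha (isUnit_of_mul_isUnit_left h))
  obtain ⟨M, tM, htM, hM⟩ := hnil β (by rw [eβ]; exact fun h => hb (isUnit_of_mul_isUnit_left h))
  have hbig : ∀ i j, N ≤ i ∨ M ≤ j → I i j := by
    rintro i j (h | h)
    · refine ⟨tN, htN, ?_⟩
      rw [← Nat.add_sub_cancel' h, pow_add, mul_assoc, ← mul_assoc tN]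
      exact J.mul_mem_right _ hN
    · refine ⟨tM, htM, ?_⟩
      rw [← Nat.add_sub_cancel' h, pow_add, mul_left_comm (α ^ i), ← mul_assoc tM]
      exact J.mul_mem_right _ hM
  have hstep : ∀ i j, I (i + 1) j → I i (j + 1) → I i j := by
    rintro i j ⟨t₁, ht₁, c₁, hc₁⟩ ⟨t₂, ht₂, c₂, hc₂⟩
    let e := t₁ * t₂ * (α ^ i * β ^ j)
    have h₁ : ρ α * (ρ e * σ) = ρ (t₂ * c₁) := by
      rw [map_mul (ConcreteCategory.hom ρ) t₂ c₁, ← hc₁]
      simp only [e, map_mul, map_pow, pow_succ]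
      ring
    have h₂ : ρ β * (ρ e * σ) = ρ (t₁ * c₂) := by
      rw [map_mul (ConcreteCategory.hom ρ) t₁ c₂, ← hc₂]
      simp only [e, map_mul, map_pow, pow_succ]
      ring
    have h12 : β * (t₂ * c₁) = α * (t₁ * c₂) := res_injective H hV (by
      rw [map_mul (ConcreteCategory.hom ρ) β, map_mul (ConcreteCategory.hom ρ) α, ← h₁, ← h₂, mul_left_comm])
    obtain ⟨w, hw⟩ := hregb (γ sb * γ (t₂ * c₁)) (γ sa * γ (t₁ * c₂)) (by
      rw [← mul_assoc, ← eβ, ← mul_assoc, ← eα, ← map_mul, ← map_mul, h12])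
    obtain ⟨d, sd, hd⟩ := IsLocalization.exists_mk'_eq p.primeCompl w
    obtain ⟨v, hv⟩ := IsLocalization.exists_of_eq (M := p.primeCompl) (S := X.presheaf.stalk z)
      (x := (sa : Γ(X, V)) * sd * sb * (t₂ * c₁)) (y := α * d) (by
      have hd' : γ d = w * γ sd := IsLocalization.mk'_eq_iff_eq_mul.mp hd
      change γ _ = γ _
      rw [map_mul γ _ (t₂ * c₁), map_mul γ (sa * sd : Γ(X, V)) sb, map_mul γ (sa : Γ(X, V)) sd,
        mul_assoc _ (γ sb), hw, map_mul γ α, eα, hd']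
      ring)
    let s : Γ(X, V) := v * (sa * sd * sb)
    have hs : s ∉ p := fun h => (v * (sa * sd * sb) : p.primeCompl).2 h
    have hzero : ρ α * (ρ (s * e) * σ - ρ (v * d)) = 0 := by
      rw [map_mul (ConcreteCategory.hom ρ) s e, mul_sub, mul_assoc (ρ s), mul_left_comm, h₁, ← map_mul, ← map_mul,
        sub_eq_zero]
      congr 1
      simp only [s]
      calc _ = (v : Γ(X, V)) * (sa * sd * sb * (t₂ * c₁)) := by ring
        _ = v * (α * d) := hv
        _ = _ := by ring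
    obtain ⟨t₃, ht₃, h₃⟩ := exists_notMem_res_mul_eq_zero H hV p (α := α) (fun c ⟨t, ht, htc⟩ => by
      have h0 : a * (γ sa * γ t * γ c) = 0 := by
        rw [← mul_assoc, ← mul_assoc, ← eα, mul_comm (γ α), mul_assoc, ← map_mul, ← map_mul, htc,
          map_zero]
      have := hrega _ h0
      rw [(usa.mul (IsLocalization.map_units _ (⟨t, ht⟩ : p.primeCompl))).mul_right_eq_zero] at this
      exact exists_notMem_mul_eq_zero hV hzV c this) _ hzero
    refine ⟨t₃ * s * (t₁ * t₂), ?_, t₃ * (v * d), ?_⟩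
    · exact fun h => ((‹p.IsPrime›.mem_or_mem h).elim
        (fun h => (‹p.IsPrime›.mem_or_mem h).elim ht₃ hs)
        (fun h => (‹p.IsPrime›.mem_or_mem h).elim ht₁ ht₂))
    · rw [mul_sub, sub_eq_zero, ← map_mul, ← mul_assoc, ← map_mul] at h₃
      rw [← h₃]
      congr 2
      simp only [e]
      ring
  have hall : ∀ k i j, N + M ≤ i + j + k → I i j := by
    intro k
    induction k with
    | zero => intro i j h; exact hbig i j (by omega)
    | succ k ih => intro i j h; exact hstep i j (ih _ _ (by omega)) (ih _ _ (by omega))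
  obtain ⟨t, ht, htJ⟩ := hall (N + M) 0 0 (by omega)
  exact ht (hp.1.2 (by simpa using htJ))

end extension

end Groth.Agent.SchBasics
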