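import Groth.Agent.SchBasics.RegExt
import Mathlib.AlgebraicGeometry.Morphisms.Affine
import Mathlib.AlgebraicGeometry.Gluing

set_option autoImplicit false
universe u
open AlgebraicGeometry CategoryTheory CategoryTheory.Limits TopologicalSpace

namespace Groth.Agent.SchBasics

variable {X : Scheme.{u}} {U : X.Opens}

lemma appTop_ι_bijective [IsAffine X] [QuasiCompact U.ι]
    (H : ∀ z, z ∉ U → HasRegTwo (X.presheaf.stalk z)) :
    Function.Bijective U.ι.appTop := by
  have hT := isAffineOpen_top X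
  have hi := res_injective H hT
  have hs := res_surjective H hT
  let e : U.ι ''ᵁ ⊤ = U ⊓ ⊤ := by simp
  have : U.ι.appTop =
      X.presheaf.map (homOfLE (inf_le_right : U ⊓ ⊤ ≤ ⊤)).op ≫
        X.presheaf.map (eqToHom e).op := by
    rw [Scheme.Opens.ι_appTop, ← Functor.map_comp]
    rfl
  rw [this]
  exact (ConcreteCategory.bijective_of_isIso (X.presheaf.map (eqToHom e).op)).comp ⟨hi, hs⟩

/-- Extension over an affine base. -/
lemma exists_section_of_isAffine [IsAffine X] [QuasiCompact U.ι]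
    (H : ∀ z, z ∉ U → HasRegTwo (X.presheaf.stalk z)) {Y : Scheme.{u}} [IsAffine Y] (f : Y ⟶ X)
    (t : U.toScheme ⟶ Y) (ht : t ≫ f = U.ι) :
    ∃ s : X ⟶ Y, s ≫ f = 𝟙 X ∧ U.ι ≫ s = t := by
  have hb := appTop_ι_bijective H
  have : IsIso U.ι.appTop := (ConcreteCategory.isIso_iff_bijective _).mpr hb
  let s : X ⟶ Y := X.isoSpec.hom ≫ Spec.map (t.appTop ≫ inv U.ι.appTop) ≫ Y.isoSpec.inv
  have hs : s.appTop = t.appTop ≫ inv U.ι.appTop := by
    apply Spec.map_injective
    have h : X.isoSpec.hom ≫ Spec.map s.appTop = s ≫ Y.isoSpec.hom :=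
      (Scheme.isoSpec_hom_naturality s)
    rw [← cancel_epi X.isoSpec.hom, h]
    simp [s]
  refine ⟨s, ext_of_isAffine ?_, ext_of_isAffine ?_⟩
  · rw [Scheme.Hom.comp_appTop, hs, ← cancel_mono U.ι.appTop, Category.assoc, Category.assoc,
      IsIso.inv_hom_id, Category.comp_id, ← Scheme.Hom.comp_appTop, ht]
    simp
  · rw [Scheme.Hom.comp_appTop, hs, Category.assoc, IsIso.inv_hom_id, Category.comp_id]

/-- Extension of sections of an affine morphism across a set of depth two. -/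
lemma existsUnique_section [QuasiCompact U.ι]
    (H : ∀ z, z ∉ U → HasRegTwo (X.presheaf.stalk z)) {Y : Scheme.{u}} (f : Y ⟶ X) [IsAffineHom f]
    (t : U.toScheme ⟶ Y) (ht : t ≫ f = U.ι) :
    ∃! s : X ⟶ Y, s ≫ f = 𝟙 X ∧ U.ι ≫ s = t := by
  -- uniqueness on every scheme open in `X`
  have huniq : ∀ {W : Scheme.{u}} (j : W ⟶ X) [IsOpenImmersion j] (s₁ s₂ : W ⟶ Y),
      s₁ ≫ f = j → s₂ ≫ f = j → (j ⁻¹ᵁ U).ι ≫ s₁ = (j ⁻¹ᵁ U).ι ≫ s₂ → s₁ = s₂ := by
    intro W j _ s₁ s₂ h₁ h₂ h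
    have := quasiCompact_preimage_ι (U := U) j
    refine ext_of_hasReg (U := j ⁻¹ᵁ U) ?_ f (h₁.trans h₂.symm) h
    exact hyp_preimage j (P := fun R _ => HasReg R) (fun e h => h.of_ringEquiv e)
      (fun z hz => (H z hz).hasReg)
  have hex : ∀ i, ∃ s : X.affineCover.X i ⟶ Y, s ≫ f = X.affineCover.f i ∧
      (X.affineCover.f i ⁻¹ᵁ U).ι ≫ s = (X.affineCover.f i ∣_ U) ≫ t := by
    intro i
    set j := X.affineCover.f i
    have := quasiCompact_preimage_ι (U := U) j
    have hH : ∀ z, z ∉ j ⁻¹ᵁ U → HasRegTwo ((X.affineCover.X i).presheaf.stalk z) :=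
      hyp_preimage j (P := fun R _ => HasRegTwo R) (fun e h => h.of_ringEquiv e) H
    have : IsAffine (pullback f j) := isAffine_of_isAffineHom (pullback.snd f j)
    have hw : ((j ∣_ U) ≫ t) ≫ f = (j ⁻¹ᵁ U).ι ≫ j := by
      rw [Category.assoc, ht, morphismRestrict_ι]
    obtain ⟨s, hs₁, hs₂⟩ := exists_section_of_isAffine hH (pullback.snd f j)
      (pullback.lift _ _ hw) (pullback.lift_snd _ _ _)
    refine ⟨s ≫ pullback.fst f j, ?_, ?_⟩
    · rw [Category.assoc, pullback.condition, ← Category.assoc, hs₁, Category.id_comp]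
    · rw [← Category.assoc, hs₂, pullback.lift_fst]
  choose s hs₁ hs₂ using hex
  have hres : ∀ {W : Scheme.{u}} (j : W ⟶ X) (i) (k : W ⟶ X.affineCover.X i)
      (_ : k ≫ X.affineCover.f i = j) (l : (j ⁻¹ᵁ U).toScheme ⟶ U.toScheme) (_ : l ≫ U.ι = (j ⁻¹ᵁ U).ι ≫ j),
      (j ⁻¹ᵁ U).ι ≫ k ≫ s i = l ≫ t := by
    intro W j i k hk l hl
    have hr : Set.range ((j ⁻¹ᵁ U).ι ≫ k) ⊆ Set.range (X.affineCover.f i ⁻¹ᵁ U).ι := by
      rw [Scheme.Opens.range_ι]
      rintro _ ⟨w, rfl⟩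
      change (k ≫ X.affineCover.f i) w.1 ∈ U
      rw [hk]; exact w.2
    have e := IsOpenImmersion.lift_fac _ _ hr
    have e2 : IsOpenImmersion.lift _ _ hr ≫ (X.affineCover.f i ∣_ U) = l := by
      rw [← cancel_mono U.ι, hl, Category.assoc, morphismRestrict_ι, reassoc_of% e, hk]
    rw [← Category.assoc, ← e, Category.assoc, hs₂, ← Category.assoc, e2]
  refine ⟨X.affineCover.glueMorphisms s fun i j => ?_, ⟨?_, ?_⟩, ?_⟩
  · let q := pullback.fst (X.affineCover.f i) (X.affineCover.f j) ≫ X.affineCover.f i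
    refine huniq q _ _ ?_ ?_ ?_
    · rw [Category.assoc, hs₁]
    · rw [Category.assoc, hs₁, ← pullback.condition]
    · rw [hres q i _ rfl (q ∣_ U) (morphismRestrict_ι _ _),
        hres q j _ pullback.condition.symm (q ∣_ U) (morphismRestrict_ι _ _)]
  · refine X.affineCover.hom_ext _ _ fun i => ?_
    rw [Scheme.Cover.ι_glueMorphisms_assoc, hs₁, Category.comp_id]
  · refine Scheme.Cover.hom_ext (X.affineCover.pullback₁ U.ι) _ _ fun i => ?_
    change pullback.fst U.ι (X.affineCover.f i) ≫ U.ι ≫ _ = pullback.fst U.ι (X.affineCover.f i) ≫ t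
    rw [pullback.condition_assoc, Scheme.Cover.ι_glueMorphisms]
    have hr : Set.range (pullback.snd U.ι (X.affineCover.f i)) ⊆
        Set.range (X.affineCover.f i ⁻¹ᵁ U).ι := by
      rw [Scheme.Opens.range_ι]
      rintro _ ⟨w, rfl⟩
      change X.affineCover.f i (pullback.snd U.ι (X.affineCover.f i) w) ∈ U
      rw [← Scheme.Hom.comp_apply, ← pullback.condition, Scheme.Hom.comp_apply]
      exact (pullback.fst U.ι _ w).2
    have e := IsOpenImmersion.lift_fac _ _ hr
    have e2 : IsOpenImmersion.lift _ _ hr ≫ (X.affineCover.f i ∣_ U) = pullback.fst _ _ := by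
      rw [← cancel_mono U.ι, Category.assoc, morphismRestrict_ι, reassoc_of% e, pullback.condition]
    rw [← e, Category.assoc, hs₂, reassoc_of% e2]
  · rintro s' ⟨h₁, h₂⟩
    refine X.affineCover.hom_ext _ _ fun i => ?_
    rw [Scheme.Cover.ι_glueMorphisms]
    refine huniq (X.affineCover.f i) _ _ (by rw [Category.assoc, h₁, Category.comp_id]) (hs₁ i) ?_
    rw [hs₂, ← morphismRestrict_ι_assoc, h₂]

end Groth.Agent.SchBasics
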