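import Groth.Agent.SchBasics.Birational
import Groth.Agent.SchBasics.Closure
import Mathlib.AlgebraicGeometry.Morphisms.QuasiFinite
import Mathlib.AlgebraicGeometry.Morphisms.Separated
import Mathlib.RingTheory.ZariskisMainTheorem
import Mathlib.RingTheory.Polynomial.ScaleRoots

set_option autoImplicit false
universe u
open AlgebraicGeometry CategoryTheory TopologicalSpace Polynomial

namespace Groth.Agent.SchBasics

/-- In a UFD `A`, a reduced fraction `b / c` which is integral over `A` has `c` a unit. -/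
lemma isUnit_of_isIntegral_fraction {A B : Type*} [CommRing A] [IsDomain A]
    [UniqueFactorizationMonoid A] [CommRing B] (f : A →+* B) (hf : Function.Injective f)
    {b c : A} (hbc : IsRelPrime b c) {a : B} (ha : f c * a = f b) (hi : f.IsIntegralElem a) :
    IsUnit c := by
  by_contra hcu
  obtain ⟨p, hp, hpa⟩ := hi
  have h1 : eval b (p.scaleRoots c) = 0 := hf (by
    rw [map_zero, eval, hom_eval₂, ← ha, RingHom.comp_id]
    exact scaleRoots_eval₂_eq_zero f hpa)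
  let π := Ideal.Quotient.mk (Ideal.span {c})
  have : Nontrivial (A ⧸ Ideal.span {c}) :=
    Ideal.Quotient.nontrivial_iff.mpr (by rwa [ne_eq, Ideal.span_singleton_eq_top])
  have hπc : π c = 0 := Ideal.Quotient.eq_zero_iff_mem.mpr (Ideal.subset_span rfl)
  have h2 : π b ^ p.natDegree = 0 := by
    have h := congrArg π h1
    rw [map_zero, ← eval_map_apply, map_scaleRoots _ _ _ (by rw [hp.leadingCoeff, map_one]; exact one_ne_zero),
      hπc, scaleRoots_zero, (hp.map π).leadingCoeff, one_smul, eval_pow, eval_X,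
      hp.natDegree_map] at h
    exact h
  rw [← map_pow, Ideal.Quotient.eq_zero_iff_mem, Ideal.mem_span_singleton] at h2
  exact hcu ((hbc.pow_left (m := p.natDegree)) h2 dvd_rfl)

variable {X Y : Scheme.{u}} (g : X ⟶ Y)

/-- Zariski's main theorem: a birational morphism is an isomorphism on stalks at a quasi-finite
point above a factorial local ring. -/
lemma isIso_stalkMap_of_quasiFiniteAt [IsIntegral X] [IsIntegral Y] [LocallyOfFiniteType g]
    (hη : IsIso (g.stalkMap (genericPoint X))) (x : X)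
    [UniqueFactorizationMonoid (Y.presheaf.stalk (g x))] (hx : g.QuasiFiniteAt x) :
    IsIso (g.stalkMap x) := by
  have hinj := stalkMap_injective g (apply_genericPoint_of_isIso g hη) x
  rw [ConcreteCategory.isIso_iff_bijective]
  refine ⟨hinj, ?_⟩
  obtain ⟨V, hV, hxV, -⟩ := exists_isAffineOpen_mem_and_subset (U := ⊤) (Opens.mem_top (g x))
  obtain ⟨U, hU, hxU, hUV⟩ := exists_isAffineOpen_mem_and_subset (U := g ⁻¹ᵁ V) (x := x) hxV
  have hq := hx.quasiFiniteAt hU hV hUV hxU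
  have hft := LocallyOfFiniteType.finiteType_appLE g hV hU hUV
  let q := hU.primeIdealOf ⟨x, hxU⟩
  algebraize [(g.appLE V U hUV).hom]
  have : Algebra.QuasiFiniteAt Γ(Y, V) q.asIdeal := hq
  obtain ⟨r, hrq, hr, hsat⟩ :=
    Algebra.zariskisMainProperty_iff.mp
      (Algebra.ZariskisMainProperty.of_finiteType (R := Γ(Y, V)) (S := Γ(X, U)) q.asIdeal)
  let γ := (X.presheaf.germ U x hxU).hom
  set f := (g.stalkMap x).hom
  have hnat : ∀ s, γ (g.appLE V U hUV s) = f (Y.presheaf.germ V (g x) hxV s) := fun s => by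
    simp only [γ, f]
    rw [← CommRingCat.comp_apply, ← CommRingCat.comp_apply, Scheme.Hom.germ_stalkMap,
      Scheme.Hom.appLE, Category.assoc, TopCat.Presheaf.germ_res]
  have hrange : ∀ a : Γ(X, U), IsIntegral Γ(Y, V) a → γ a ∈ f.range := fun a ha => by
    obtain ⟨b, c, -, hbc, habc⟩ := exists_reduced g hη x (γ a)
    have hi : f.IsIntegralElem (γ a) := by
      obtain ⟨p, hp, hpa⟩ := ha
      refine ⟨p.map (Y.presheaf.germ V (g x) hxV).hom, hp.map _, ?_⟩
      have h := congrArg γ hpa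
      rw [hom_eval₂, map_zero] at h
      rw [eval₂_map, ← h]
      congr 1
      ext s
      exact (hnat s).symm
    obtain ⟨v, rfl⟩ := isUnit_of_isIntegral_fraction f hinj hbc habc hi
    refine ⟨b * ↑v⁻¹, ?_⟩
    rw [map_mul, ← habc, mul_comm, ← mul_assoc, ← map_mul, Units.inv_mul, map_one, one_mul]
  have := hU.isLocalization_stalk ⟨x, hxU⟩
  let : Algebra Γ(X, U) (X.presheaf.stalk x) := TopCat.Presheaf.algebra_section_stalk X.presheaf ⟨x, hxU⟩
  have hru : IsUnit (γ r) := IsLocalization.map_units (X.presheaf.stalk x)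
    (⟨r, hrq⟩ : q.asIdeal.primeCompl)
  obtain ⟨u, hu⟩ := hrange r hr
  have hu' : IsUnit u := (isUnit_map_iff f u).mp (hu ▸ hru)
  obtain ⟨u, rfl⟩ := hu'
  have hall : ∀ a : Γ(X, U), γ a ∈ f.range := fun a => by
    obtain ⟨m, hm⟩ := hsat a
    obtain ⟨w, hw⟩ := hrange _ hm
    refine ⟨↑(u⁻¹ ^ m) * w, ?_⟩
    rw [map_mul, hw, map_mul, map_pow, ← hu, ← mul_assoc, ← map_pow, ← map_mul,
      ← Units.val_pow_eq_pow_val, ← Units.val_mul, inv_pow, inv_mul_cancel, Units.val_one,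
      map_one, one_mul]
  intro z
  obtain ⟨a, s, rfl⟩ := IsLocalization.exists_mk'_eq q.asIdeal.primeCompl z
  obtain ⟨w, hw⟩ := hall a
  obtain ⟨t, ht⟩ := hall s
  have ht' : IsUnit t := (isUnit_map_iff f t).mp
    (ht ▸ IsLocalization.map_units (X.presheaf.stalk x) s)
  obtain ⟨t, rfl⟩ := ht'
  refine ⟨w * ↑t⁻¹, ?_⟩
  rw [eq_comm, IsLocalization.mk'_eq_iff_eq_mul]
  change γ a = f (w * ↑t⁻¹) * γ s
  rw [← hw, ← ht, ← map_mul, mul_assoc, Units.inv_mul, mul_one]

/-- A separated local isomorphism between integral schemes is an open immersion if it is injective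
on function fields. -/
lemma isOpenImmersion_of_isLocalIso_of_isSeparated [IsIntegral X] [IsLocalIso g] [IsSeparated g] :
    IsOpenImmersion g := by
  have hinj : Function.Injective g := fun x₁ x₂ h => by
    obtain ⟨W₁, h₁, i₁⟩ := IsLocalIso.exists_isOpenImmersion (f := g) x₁
    obtain ⟨W₂, h₂, i₂⟩ := IsLocalIso.exists_isOpenImmersion (f := g) x₂
    let V := (W₁.ι ≫ g).opensRange ⊓ (W₂.ι ≫ g).opensRange
    have hV₁ : Set.range V.ι ⊆ Set.range (W₁.ι ≫ g) := by
      rw [Scheme.Opens.range_ι]; exact fun v hv => hv.1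
    have hV₂ : Set.range V.ι ⊆ Set.range (W₂.ι ≫ g) := by
      rw [Scheme.Opens.range_ι]; exact fun v hv => hv.2
    let t₁ := IsOpenImmersion.lift (W₁.ι ≫ g) V.ι hV₁
    let t₂ := IsOpenImmersion.lift (W₂.ι ≫ g) V.ι hV₂
    have e₁ : t₁ ≫ W₁.ι ≫ g = V.ι := IsOpenImmersion.lift_fac _ _ _
    have e₂ : t₂ ≫ W₂.ι ≫ g = V.ι := IsOpenImmersion.lift_fac _ _ _
    have hxV : g x₁ ∈ V := ⟨⟨⟨x₁, h₁⟩, rfl⟩, h ▸ ⟨⟨x₂, h₂⟩, rfl⟩⟩
    have : IsOpenImmersion t₁ := by
      have : IsOpenImmersion (t₁ ≫ W₁.ι ≫ g) := e₁ ▸ inferInstance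
      exact IsOpenImmersion.of_comp t₁ (W₁.ι ≫ g)
    have : IsReduced V.toScheme :=
      isReduced_of_isOpenImmersion (IsOpenImmersion.lift (W₁.ι ≫ g) V.ι hV₁)
    let O : V.toScheme.Opens := (t₁ ≫ W₁.ι) ⁻¹ᵁ W₂
    have hO : O.ι ≫ t₁ ≫ W₁.ι = O.ι ≫ t₂ ≫ W₂.ι := by
      have hr : Set.range (O.ι ≫ t₁ ≫ W₁.ι) ⊆ Set.range W₂.ι := by
        rw [Scheme.Opens.range_ι]; rintro _ ⟨o, rfl⟩; exact o.2
      have hl := IsOpenImmersion.lift_fac W₂.ι (O.ι ≫ t₁ ≫ W₁.ι) hr
      have hl' : IsOpenImmersion.lift W₂.ι (O.ι ≫ t₁ ≫ W₁.ι) hr = O.ι ≫ t₂ := by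
        rw [← cancel_mono (W₂.ι ≫ g), Category.assoc, e₂, reassoc_of% hl, e₁]
      refine hl.symm.trans ?_
      rw [hl', Category.assoc]
    have hp : (t₁ ≫ W₁.ι) ⟨g x₁, hxV⟩ = x₁ := by
      have : t₁ ⟨g x₁, hxV⟩ = ⟨x₁, h₁⟩ := (W₁.ι ≫ g).isOpenEmbedding.injective (by
        rw [← Scheme.Hom.comp_apply, e₁]; rfl)
      rw [Scheme.Hom.comp_apply, this]; rfl
    have hne : Nonempty V.toScheme := ⟨⟨g x₁, hxV⟩⟩
    have : Nonempty W₁.toScheme := ⟨⟨x₁, h₁⟩⟩
    have : IsIntegral W₁.toScheme := isIntegral_of_isOpenImmersion W₁.ι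
    have : IsIntegral V.toScheme := isIntegral_of_isOpenImmersion t₁
    have : IsDominant O.ι := by
      refine ⟨?_⟩
      rw [DenseRange, Scheme.Opens.range_ι]
      refine O.isOpen.dense ⟨genericPoint V.toScheme, ?_⟩
      change (t₁ ≫ W₁.ι) (genericPoint V.toScheme) ∈ W₂
      rw [genericPoint_eq_of_isOpenImmersion]
      exact (genericPoint_specializes x₂).mem_open W₂.isOpen h₂
    have key := ext_of_isDominant_of_isSeparated g
      (f := t₁ ≫ W₁.ι) (g := t₂ ≫ W₂.ι) (by rw [Category.assoc, Category.assoc, e₁, e₂]) O.ι hO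
    rw [← hp, key]
    have : t₂ ⟨g x₁, hxV⟩ = ⟨x₂, h₂⟩ := (W₂.ι ≫ g).isOpenEmbedding.injective (by
      rw [← Scheme.Hom.comp_apply, e₂]; exact h)
    rw [Scheme.Hom.comp_apply, this]; rfl
  have : ∀ x, IsIso (g.stalkMap x) := fun x => by
    obtain ⟨W, hxW, h⟩ := IsLocalIso.exists_isOpenImmersion (f := g) x
    have h1 : IsIso ((W.ι ≫ g).stalkMap ⟨x, hxW⟩) := inferInstance
    rw [Scheme.Hom.stalkMap_comp] at h1
    have h1' : IsIso (g.stalkMap (W.ι ⟨x, hxW⟩) ≫ W.ι.stalkMap ⟨x, hxW⟩) := h1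
    exact IsIso.of_isIso_comp_right (g.stalkMap (W.ι ⟨x, hxW⟩)) (W.ι.stalkMap ⟨x, hxW⟩)
  refine IsOpenImmersion.of_isIso_stalkMap g
    (Topology.IsOpenEmbedding.of_continuous_injective_isOpenMap g.continuous hinj ?_)
  intro O hO
  refine isOpen_iff_forall_mem_open.mpr ?_
  rintro _ ⟨x, hx, rfl⟩
  obtain ⟨W, hxW, h⟩ := IsLocalIso.exists_isOpenImmersion (f := g) x
  refine ⟨(W.ι ≫ g) '' (W.ι ⁻¹' O), ?_,
    (W.ι ≫ g).isOpenEmbedding.isOpenMap _ (hO.preimage W.ι.continuous), ⟨⟨x, hxW⟩, hx, rfl⟩⟩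
  rintro _ ⟨w, hw, rfl⟩
  exact ⟨_, hw, rfl⟩

/-- A birational morphism which is quasi-finite in codimension one, to a locally factorial
target, is a local isomorphism. -/
lemma isLocalIso_of_quasiFiniteAt_codim_one [IsIntegral X] [IsLocallyNoetherian X] [IsIntegral Y]
    [IsLocallyNoetherian Y] [LocallyOfFiniteType g]
    (hY : ∀ y : Y, UniqueFactorizationMonoid (Y.presheaf.stalk y))
    (hV : ∃ W : X.Opens, (W : Set X).Nonempty ∧ IsOpenImmersion (W.ι ≫ g))
    (hq : ∀ x : X, ringKrullDim (X.presheaf.stalk x) = 1 → g.QuasiFiniteAt x) :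
    IsLocalIso g := by
  have : LocallyOfFinitePresentation g := LocallyOfFinitePresentation.iff_locallyOfFiniteType.mpr ‹_›
  have hiff := exists_isOpenImmersion_iff_isIso_stalkMap g
  let T : Set X := {x | ¬ IsIso (g.stalkMap x)}
  have hT : IsClosed T := by
    refine isOpen_compl_iff.mp (isOpen_iff_forall_mem_open.mpr fun x hx => ?_)
    obtain ⟨W, hxW, hW⟩ := (hiff x).mpr (not_not.mp hx)
    exact ⟨W, fun w hw => fun h => h ((hiff w).mp ⟨W, hw, hW⟩), W.isOpen, hxW⟩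
  obtain ⟨W, hW, hWg⟩ := hV
  have hη : IsIso (g.stalkMap (genericPoint X)) :=
    (hiff _).mp ⟨W, ((genericPoint_spec X).mem_open_set_iff W.isOpen).mpr (by simpa using hW), hWg⟩
  refine ⟨fun x => (hiff x).mpr ?_⟩
  by_contra hx
  have hemb : Topology.IsClosedEmbedding (Subtype.val : T → X) := hT.isClosedEmbedding_subtypeVal
  have : QuasiSober T := hemb.quasiSober
  obtain ⟨ξ, hξ, -⟩ := exists_maximal_specializes (⟨x, hx⟩ : T)
  have hmax : ∀ z : X, z ⤳ ξ.1 → z ≠ ξ.1 → IsIso (g.stalkMap z) := fun z hz hne => by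
    by_contra h
    exact hne (congrArg Subtype.val ((closure_singleton_mem_irreducibleComponents_iff ξ).mp hξ ⟨z, h⟩
      (hemb.isInducing.specializes_iff.mp hz)))
  have hdim := ringKrullDim_eq_one_of_maximal g hY ⟨W, hW, hWg⟩ ξ.1 ξ.2 hmax
  have := hY (g ξ.1)
  exact ξ.2 (isIso_stalkMap_of_quasiFiniteAt g hη ξ.1 (hq _ hdim))

end Groth.Agent.SchBasics
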