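import Mathlib.LinearAlgebra.Matrix.NonsingularInverse
import Mathlib.LinearAlgebra.Matrix.ToLin
import Mathlib.LinearAlgebra.Matrix.Charpoly.Minpoly
import Mathlib.LinearAlgebra.Matrix.ToLinearEquiv
import Mathlib.RingTheory.PrincipalIdealDomain
import Mathlib.RingTheory.UniqueFactorizationDomain.Multiplicative
import Mathlib.RingTheory.Polynomial.UniqueFactorization
import Mathlib.LinearAlgebra.Dual.Lemmas
import Mathlib.LinearAlgebra.Dimension.Constructions
import Mathlib.RingTheory.LocalRing.ResidueField.Basic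
import Mathlib.RingTheory.Localization.AtPrime.Basic
import Mathlib.Algebra.Algebra.Subalgebra.Basic
import Mathlib.RingTheory.LocalProperties.Submodule

/-! Regular matrices and cyclic vectors. -/

universe u

open Matrix Polynomial

namespace Groth.Agent.SchBasics

variable {n : ℕ}

/-- The matrix with columns `v, g v, …, g^(n-1) v`. -/
def krylov {B : Type u} [CommRing B] (g : Matrix (Fin n) (Fin n) B) (v : Fin n → B) :
    Matrix (Fin n) (Fin n) B :=
  Matrix.of fun i k => ((g ^ (k : ℕ)) *ᵥ v) i

lemma krylov_map {B B' : Type u} [CommRing B] [CommRing B'] (φ : B →+* B')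
    (g : Matrix (Fin n) (Fin n) B) (v : Fin n → B) :
    krylov (g.map φ) (φ ∘ v) = (krylov g v).map φ := by
  ext i k
  have h : (g.map φ) ^ (k : ℕ) = (g ^ (k : ℕ)).map φ := (map_pow φ.mapMatrix g k).symm
  simp only [krylov, Matrix.of_apply, Matrix.map_apply, h]
  exact (RingHom.map_mulVec φ _ v i).symm

/-- Anything commuting with a matrix with a cyclic vector is a polynomial in it. -/
lemma eq_sum_of_commute {B : Type u} [CommRing B] (g : Matrix (Fin n) (Fin n) B) (v : Fin n → B)
    (hv : IsUnit (krylov g v).det) (x : Matrix (Fin n) (Fin n) B) (hx : x * g = g * x) :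
    x = ∑ k, ((krylov g v)⁻¹ *ᵥ (x *ᵥ v)) k • g ^ (k : ℕ) := by
  set c := (krylov g v)⁻¹ *ᵥ (x *ᵥ v) with hc
  set y := ∑ k, c k • g ^ (k : ℕ) with hy
  have hxv : x *ᵥ v = y *ᵥ v := by
    rw [hy, Matrix.sum_mulVec]
    have h1 : krylov g v *ᵥ c = x *ᵥ v := by
      rw [hc, Matrix.mulVec_mulVec, Matrix.mul_nonsing_inv _ hv, Matrix.one_mulVec]
    rw [← h1]
    ext i
    simp only [Matrix.mulVec, dotProduct, krylov, Matrix.of_apply, Finset.sum_apply,
      Matrix.smul_apply, smul_eq_mul]
    refine Finset.sum_congr rfl fun k _ => ?_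
    rw [Finset.sum_mul]
    exact Finset.sum_congr rfl fun j _ => by ring
  have hcy : y * g = g * y := by
    simp only [hy, Finset.sum_mul, Finset.mul_sum, Matrix.smul_mul, Matrix.mul_smul, ← pow_succ,
      ← pow_succ']
  have hpow : ∀ z : Matrix (Fin n) (Fin n) B, z * g = g * z → ∀ k : ℕ,
      z *ᵥ (g ^ k *ᵥ v) = g ^ k *ᵥ (z *ᵥ v) := fun z hz k => by
    rw [Matrix.mulVec_mulVec, Matrix.mulVec_mulVec, (show Commute z g from hz).pow_right k |>.eq]
  have hmul : x * krylov g v = y * krylov g v := by
    ext i k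
    have h1 := congrFun (hpow x hx k) i
    have h2 := congrFun (hpow y hcy k) i
    rw [hxv] at h1
    exact h1.trans h2.symm
  have := congrArg (· * (krylov g v)⁻¹) hmul
  simpa [Matrix.mul_assoc, Matrix.mul_nonsing_inv _ hv] using this

lemma exists_vec_ann_eq_minpoly {K : Type u} [Field K] (g : Matrix (Fin n) (Fin n) K) :
    ∃ v : Fin n → K, ∀ r : K[X], aeval g r *ᵥ v = 0 ↔ minpoly K g ∣ r := by
  have hμ0 : minpoly K g ≠ 0 := minpoly.ne_zero (Matrix.isIntegral g)
  suffices h : ∀ q : K[X], q ∣ minpoly K g →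
      ∃ v : Fin n → K, ∀ r : K[X], aeval g r *ᵥ v = 0 ↔ q ∣ r from h _ dvd_rfl
  intro q
  induction q using UniqueFactorizationMonoid.induction_on_coprime with
  | h0 => intro h; exact absurd (zero_dvd_iff.mp h) hμ0
  | h1 hx => exact fun _ => ⟨0, fun r => by simp [hx.dvd]⟩
  | @hpr p i hp =>
    intro h
    rcases Nat.eq_zero_or_pos i with rfl | hi
    · exact ⟨0, fun r => by simp⟩
    obtain ⟨s, hs⟩ := h
    obtain ⟨j, rfl⟩ := Nat.exists_eq_succ_of_ne_zero hi.ne'
    obtain ⟨w, hw⟩ : ∃ w, aeval g (p ^ j * s) *ᵥ w ≠ 0 := by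
      by_contra! hall
      have h0 : aeval g (p ^ j * s) = 0 := Matrix.mulVec_injective (funext fun w => by rw [hall w, Matrix.zero_mulVec])
      obtain ⟨c, hc⟩ := minpoly.dvd K g h0
      have hne : p ^ j * s ≠ 0 := by
        intro h0'
        rw [pow_succ, mul_assoc, mul_comm p s, ← mul_assoc, h0', zero_mul] at hs
        exact hμ0 hs
      have hcp : (1 : K[X]) = p * c := by
        apply mul_left_cancel₀ hne
        rw [mul_one]
        conv_lhs => rw [hc, hs]
        simp only [Nat.succ_eq_add_one, pow_succ]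
        ring
      exact hp.not_isUnit (IsUnit.of_mul_eq_one _ hcp.symm)
    refine ⟨aeval g s *ᵥ w, fun r => ?_⟩
    rw [Matrix.mulVec_mulVec, ← map_mul]
    constructor
    · intro hr
      let I : Ideal K[X] :=
        { carrier := {r | aeval g (r * s) *ᵥ w = 0}
          add_mem' := fun {a b} ha hb => by
            simp only [Set.mem_ofPred_eq] at ha hb ⊢
            rw [add_mul, map_add, Matrix.add_mulVec, ha, hb, add_zero]
          zero_mem' := by simp
          smul_mem' := fun c a ha => by
            simp only [Set.mem_ofPred_eq, smul_eq_mul] at ha ⊢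
            rw [mul_assoc, map_mul, ← Matrix.mulVec_mulVec, ha, Matrix.mulVec_zero] }
      haveI : I.IsPrincipal := IsPrincipalIdealRing.principal I
      obtain ⟨d, hd⟩ := (inferInstance : I.IsPrincipal)
      have hpI : p ^ (j + 1) ∈ I := by
        change aeval g (p ^ (j + 1) * s) *ᵥ w = 0
        rw [← hs, minpoly.aeval, Matrix.zero_mulVec]
      rw [hd] at hpI
      have hrI : r ∈ I := hr
      rw [hd] at hrI
      obtain ⟨k, hk, hdk⟩ := (dvd_prime_pow hp _).mp (Ideal.mem_span_singleton.mp hpI)
      rcases Nat.lt_or_ge k (j + 1) with hlt | hge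
      · exfalso
        apply hw
        have : p ^ j ∈ I := by
          rw [hd]
          exact Ideal.mem_span_singleton.mpr (hdk.dvd.trans (pow_dvd_pow p (Nat.le_of_lt_succ hlt)))
        exact this
      · exact ((pow_dvd_pow p hge).trans hdk.symm.dvd).trans (Ideal.mem_span_singleton.mp hrI)
    · rintro ⟨c, rfl⟩
      rw [mul_right_comm, mul_comm, ← hs, map_mul, minpoly.aeval, mul_zero, Matrix.zero_mulVec]
  | @hcp x y hxy hx hy =>
    intro h
    obtain ⟨v, hv⟩ := hx ((dvd_mul_right x y).trans h)
    obtain ⟨w, hw⟩ := hy ((dvd_mul_left y x).trans h)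
    refine ⟨v + w, fun r => ⟨fun hr => ?_, fun hd => ?_⟩⟩
    · have h1 : x ∣ r * y := by
        rw [← hv]
        have hz := congrArg (aeval g y *ᵥ ·) hr
        simp only [Matrix.mulVec_zero, Matrix.mulVec_mulVec, ← map_mul, Matrix.mulVec_add] at hz
        rwa [(hw (y * r)).mpr (dvd_mul_right y r), add_zero, mul_comm] at hz
      have h2 : y ∣ r * x := by
        rw [← hw]
        have hz := congrArg (aeval g x *ᵥ ·) hr
        simp only [Matrix.mulVec_zero, Matrix.mulVec_mulVec, ← map_mul, Matrix.mulVec_add] at hz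
        rwa [(hv (x * r)).mpr (dvd_mul_right x r), zero_add, mul_comm] at hz
      exact hxy.isCoprime.mul_dvd (hxy.isCoprime.dvd_of_dvd_mul_right h1)
        (hxy.symm.isCoprime.dvd_of_dvd_mul_right h2)
    · rw [Matrix.mulVec_add, (hv r).mpr ((dvd_mul_right x y).trans hd),
        (hw r).mpr ((dvd_mul_left y x).trans hd), add_zero]

/-- A matrix over a field whose commutant has dimension `n` has a cyclic vector. -/
theorem exists_cyclicVector {K : Type u} [Field K] (g : Matrix (Fin n) (Fin n) K)
    (h : Module.finrank K (Subalgebra.centralizer K ({g} : Set (Matrix (Fin n) (Fin n) K))) = n) :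
    ∃ v : Fin n → K, IsUnit (krylov g v).det := by
  classical
  obtain ⟨v, hv⟩ := exists_vec_ann_eq_minpoly g
  set μ := minpoly K g with hμdef
  have hμm : μ.Monic := minpoly.monic (Matrix.isIntegral g)
  set d := μ.natDegree with hddef
  let L : (Fin n → K) → (Fin d → K) →ₗ[K] (Fin n → K) := fun w =>
    Fintype.linearCombination K (fun j : Fin d => (g ^ (j : ℕ)) *ᵥ w)
  let P : (Fin d → K) → K[X] := fun c => ∑ j, C (c j) * X ^ (j : ℕ)
  have hLP : ∀ w c, L w c = aeval g (P c) *ᵥ w := fun w c => by
    simp only [L, P, Fintype.linearCombination_apply, map_sum, map_mul, aeval_C, map_pow, aeval_X,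
      Matrix.sum_mulVec, ← Algebra.smul_def, Matrix.smul_mulVec]
  have hPdeg : ∀ c, (P c).degree < (d : WithBot ℕ) := fun c => by
    refine (Polynomial.degree_sum_le _ _).trans_lt ((Finset.sup_lt_iff (WithBot.bot_lt_coe d)).mpr ?_)
    intro j _
    exact (degree_C_mul_X_pow_le _ _).trans_lt (WithBot.coe_lt_coe.mpr j.2)
  have hred : ∀ r : K[X], ∃ c, aeval g r = aeval g (P c) := fun r => by
    refine ⟨fun j => (r %ₘ μ).coeff j, ?_⟩
    have hlt : (r %ₘ μ).degree < (d : WithBot ℕ) :=
      (degree_modByMonic_lt r hμm).trans_le degree_le_natDegree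
    have hP : P (fun j => (r %ₘ μ).coeff j) = r %ₘ μ := by
      have h1 : (r %ₘ μ).natDegree < d ∨ r %ₘ μ = 0 := by
        by_cases h0 : r %ₘ μ = 0
        · exact Or.inr h0
        · exact Or.inl ((natDegree_lt_iff_degree_lt h0).mpr hlt)
      rcases h1 with h1 | h1
      · simp only [P]
        rw [Fin.sum_univ_eq_sum_range (fun j => C ((r %ₘ μ).coeff j) * X ^ j)]
        exact ((r %ₘ μ).as_sum_range_C_mul_X_pow' h1).symm
      · simp [P, h1]
    rw [hP, Polynomial.aeval_modByMonic_eq_self_of_root (minpoly.aeval K g)]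
  have hinj : Function.Injective (L v) := by
    rw [← LinearMap.ker_eq_bot, LinearMap.ker_eq_bot']
    intro c hc
    rw [hLP, hv] at hc
    have hP0 : P c = 0 := Polynomial.eq_zero_of_dvd_of_degree_lt hc
      ((hPdeg c).trans_eq (Polynomial.degree_eq_natDegree hμm.ne_zero).symm)
    funext j
    have := congrArg (Polynomial.coeff · (j : ℕ)) hP0
    simpa [P, Polynomial.finset_sum_coeff, Polynomial.coeff_C_mul_X_pow, Fin.val_inj] using this
  have hdn : d ≤ n := by
    simpa using LinearMap.finrank_le_finrank_of_injective hinj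
  rcases hdn.eq_or_lt with hd | hd
  · refine ⟨v, ?_⟩
    rw [← Matrix.isUnit_iff_isUnit_det, ← Matrix.linearIndependent_cols_iff_isUnit]
    have hli : LinearIndependent K (fun j : Fin d => (g ^ (j : ℕ)) *ᵥ v) :=
      linearIndependent_iff_injective_fintypeLinearCombination.mpr hinj
    exact hli.comp (Fin.cast hd.symm) (Fin.cast_injective _)
  exfalso
  have hn : 0 < n := (Nat.zero_le d).trans_lt hd
  haveI : Nonempty (Fin n) := ⟨⟨0, hn⟩⟩
  have hd0 : 0 < d := minpoly.natDegree_pos (Matrix.isIntegral g)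
  obtain ⟨φ, hφ⟩ := (L v).exists_leftInverse_of_injective (LinearMap.ker_eq_bot.mpr hinj)
  let last : Fin d := ⟨d - 1, by omega⟩
  let ψ : (Fin n → K) →ₗ[K] K := LinearMap.proj last ∘ₗ φ
  have hψ : ∀ i : Fin d, ψ ((g ^ (i : ℕ)) *ᵥ v) = if i = last then 1 else 0 := fun i => by
    have h1 : L v (Pi.single i 1) = (g ^ (i : ℕ)) *ᵥ v := by
      simp [L, Fintype.linearCombination_apply, Pi.single_apply]
    rw [← h1]
    have := LinearMap.congr_fun hφ (Pi.single i 1)
    simp only [LinearMap.comp_apply, LinearMap.id_apply] at this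
    simp [ψ, this, Pi.single_apply, eq_comm]
  let E : (Fin n → K) →ₗ[K] (Fin d → K) :=
    LinearMap.pi fun i => ψ ∘ₗ Matrix.toLin' (g ^ (i : ℕ))
  have hker : ∀ m, E m = 0 → ∀ r : K[X], ψ (aeval g r *ᵥ m) = 0 := by
    intro m hm r
    obtain ⟨c, hc⟩ := hred r
    rw [hc, ← hLP]
    simp only [L, Fintype.linearCombination_apply, map_sum, map_smul]
    refine Finset.sum_eq_zero fun i _ => ?_
    have h2 : ψ ((g ^ (i : ℕ)) *ᵥ m) = 0 := congrFun hm i
    rw [h2, smul_zero]
  have hEL : Function.Injective (E ∘ₗ L v) := by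
    rw [← LinearMap.ker_eq_bot, LinearMap.ker_eq_bot']
    intro c hc
    have hm := hker (L v c) hc
    by_contra hne
    obtain ⟨k, hk, hmax⟩ : ∃ k, c k ≠ 0 ∧ ∀ j, c j ≠ 0 → j ≤ k := by
      obtain ⟨k, hk, hmax⟩ := (Finset.univ.filter fun j => c j ≠ 0).exists_max_image (fun j => (j : ℕ))
        (by
          obtain ⟨j, hj⟩ := Function.ne_iff.mp hne
          exact ⟨j, Finset.mem_filter.mpr ⟨Finset.mem_univ _, hj⟩⟩)
      exact ⟨k, (Finset.mem_filter.mp hk).2,
        fun j hj => hmax j (Finset.mem_filter.mpr ⟨Finset.mem_univ _, hj⟩)⟩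
    apply hk
    have h2 := hm (X ^ (d - 1 - k.val))
    rw [map_pow, aeval_X] at h2
    simp only [L, Fintype.linearCombination_apply, Matrix.mulVec_sum, Matrix.mulVec_smul, map_sum,
      map_smul, smul_eq_mul, Matrix.mulVec_mulVec, ← pow_add] at h2
    rw [Finset.sum_eq_single k] at h2
    · rw [show d - 1 - k.val + k.val = (last : ℕ) by simp [last]; omega, hψ last, if_pos rfl,
        mul_one] at h2
      exact h2
    · intro j _ hjk
      by_cases hj : c j = 0
      · rw [hj, zero_mul]
      · have hle : (j : ℕ) ≤ k := hmax j hj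
        have hlt : (j : ℕ) < k := lt_of_le_of_ne hle fun h => hjk (Fin.ext h)
        have hb : d - 1 - k.val + j.val < d := by omega
        rw [show g ^ (d - 1 - k.val + j.val) = g ^ ((⟨_, hb⟩ : Fin d) : ℕ) from rfl, hψ,
          if_neg (fun h => by have := congrArg Fin.val h; simp [last] at this; omega), mul_zero]
    · simp
  let e : (Fin d → K) ≃ₗ[K] (Fin d → K) := LinearEquiv.ofInjectiveEndo _ hEL
  have he : ∀ c, e c = E (L v c) := fun c => rfl
  let T : (Fin n → K) → (Fin n → K) →ₗ[K] (Fin n → K) := fun w =>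
    L w ∘ₗ e.symm.toLinearMap ∘ₗ E
  have hT : ∀ (w : Fin n → K) (r : K[X]) (m : Fin n → K), E m = 0 → T w (aeval g r *ᵥ v + m) = aeval g r *ᵥ w := by
    intro w r m hm
    obtain ⟨c, hc⟩ := hred r
    simp only [T, LinearMap.comp_apply, LinearEquiv.coe_coe, map_add, hm, map_zero, add_zero]
    rw [hc, ← hLP v c, ← he, e.symm_apply_apply, hLP]
  have hgker : ∀ m, E m = 0 → E (g *ᵥ m) = 0 := fun m hm => by
    funext i
    have := hker m hm (X ^ (i : ℕ) * X)
    simp only [map_mul, map_pow, aeval_X, ← Matrix.mulVec_mulVec] at this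
    exact this
  have hdec : ∀ y, ∃ (r : K[X]) (m : Fin n → K), E m = 0 ∧ y = aeval g r *ᵥ v + m := fun y => by
    refine ⟨P (e.symm (E y)), y - L v (e.symm (E y)), ?_, ?_⟩
    · rw [map_sub, ← he, e.apply_symm_apply, sub_self]
    · rw [← hLP]; abel
  have hTg : ∀ w y, T w (g *ᵥ y) = g *ᵥ T w y := by
    intro w y
    obtain ⟨r, m, hm, rfl⟩ := hdec y
    have h3 : ∀ u, g *ᵥ (aeval g r *ᵥ u) = aeval g (X * r) *ᵥ u := fun u => by
      rw [Matrix.mulVec_mulVec, map_mul, aeval_X]
    rw [Matrix.mulVec_add, h3, hT w _ _ (hgker m hm), hT w _ _ hm, h3]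
  obtain ⟨m₀, hm₀, hm₀0⟩ : ∃ m, E m = 0 ∧ m ≠ 0 := by
    have h1 : LinearMap.ker E ≠ ⊥ := fun h0 => by
      have := LinearMap.finrank_le_finrank_of_injective (LinearMap.ker_eq_bot.mp h0)
      simp at this; omega
    obtain ⟨m, hm, hm0⟩ := (Submodule.ne_bot_iff _).mp h1
    exact ⟨m, hm, hm0⟩
  let Φ : ((Fin n → K) × K) →ₗ[K] Matrix (Fin n) (Fin n) K :=
    { toFun := fun ws => LinearMap.toMatrix' (T ws.1 + ws.2 • (LinearMap.id - T v))
      map_add' := fun a b => by
        rw [← map_add]
        congr 1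
        refine LinearMap.ext fun y => ?_
        simp only [T, hLP, LinearMap.add_apply, LinearMap.comp_apply, LinearMap.smul_apply,
          Prod.fst_add, Prod.snd_add, Matrix.mulVec_add, add_smul]
        abel
      map_smul' := fun a b => by
        rw [RingHom.id_apply, ← map_smul]
        congr 1
        refine LinearMap.ext fun y => ?_
        simp only [T, hLP, LinearMap.add_apply, LinearMap.comp_apply, LinearMap.smul_apply,
          Prod.smul_fst, Prod.smul_snd, Matrix.mulVec_smul, smul_add, smul_smul, smul_eq_mul] }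
  have hΦ : ∀ ws, Φ ws ∈ Subalgebra.centralizer K ({g} : Set (Matrix (Fin n) (Fin n) K)) := by
    intro ws
    rw [Subalgebra.mem_centralizer_iff]
    intro z hz
    obtain rfl : z = g := hz
    refine Matrix.toLin'.injective (LinearMap.ext fun y => ?_)
    simp only [Φ, LinearMap.coe_mk, AddHom.coe_mk, Matrix.toLin'_mul, Matrix.toLin'_toMatrix',
      LinearMap.comp_apply, Matrix.toLin'_apply, LinearMap.add_apply, LinearMap.smul_apply,
      LinearMap.sub_apply, LinearMap.id_apply, hTg, Matrix.mulVec_add, Matrix.mulVec_smul,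
      Matrix.mulVec_sub]
  have hΦinj : Function.Injective
      (Φ.codRestrict (Subalgebra.centralizer K ({g} : Set (Matrix (Fin n) (Fin n) K))).toSubmodule hΦ) := by
    rw [← LinearMap.ker_eq_bot, LinearMap.ker_eq_bot']
    rintro ⟨w, s⟩ hws
    have h0 : T w + s • (LinearMap.id - T v) = 0 :=
      LinearMap.toMatrix'.map_eq_zero_iff.mp (congrArg Subtype.val hws)
    have hTv : ∀ u, T u v = u := fun u => by simpa using hT u 1 0 (map_zero E)
    have hw : w = 0 := by
      have := LinearMap.congr_fun h0 v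
      simpa [hTv] using this
    subst hw
    have hTm : ∀ u, T u m₀ = 0 := fun u => by simpa using hT u 0 m₀ hm₀
    have hs : s • m₀ = 0 := by
      have := LinearMap.congr_fun h0 m₀
      simpa [hTm] using this
    exact Prod.ext rfl ((smul_eq_zero.mp hs).resolve_right hm₀0)
  have hle := LinearMap.finrank_le_finrank_of_injective hΦinj
  rw [Module.finrank_prod, Module.finrank_fin_fun, Module.finrank_self] at hle
  rw [Subalgebra.finrank_toSubmodule, h] at hle
  omega

/-- A fibrewise regular matrix over a local ring has a cyclic vector. -/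
theorem exists_cyclicVector_of_isLocalRing {B : Type u} [CommRing B] [IsLocalRing B]
    (g : Matrix (Fin n) (Fin n) B)
    (h : Module.finrank (IsLocalRing.ResidueField B) (Subalgebra.centralizer (IsLocalRing.ResidueField B)
      ({g.map (IsLocalRing.residue B)} : Set (Matrix (Fin n) (Fin n) (IsLocalRing.ResidueField B)))) = n) :
    ∃ v : Fin n → B, IsUnit (krylov g v).det := by
  obtain ⟨v₀, hv₀⟩ := exists_cyclicVector (g.map (IsLocalRing.residue B)) h
  choose v hv using fun i => IsLocalRing.residue_surjective (v₀ i)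
  refine ⟨v, isUnit_of_map_unit (IsLocalRing.residue B) _ ?_⟩
  rw [RingHom.map_det]
  change IsUnit ((krylov g v).map (IsLocalRing.residue B)).det
  rw [← krylov_map, show IsLocalRing.residue B ∘ v = v₀ from funext hv]
  exact hv₀

/-- Over a local ring, two elements commuting with a regular matrix commute. -/
theorem commute_of_regular_local {B : Type u} [CommRing B] [IsLocalRing B]
    (g : Matrix (Fin n) (Fin n) B)
    (h : Module.finrank (IsLocalRing.ResidueField B) (Subalgebra.centralizer (IsLocalRing.ResidueField B)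
      ({g.map (IsLocalRing.residue B)} : Set (Matrix (Fin n) (Fin n) (IsLocalRing.ResidueField B)))) = n)
    (x y : Matrix (Fin n) (Fin n) B) (hx : x * g = g * x) (hy : y * g = g * y) : x * y = y * x := by
  obtain ⟨v, hv⟩ := exists_cyclicVector_of_isLocalRing g h
  rw [eq_sum_of_commute g v hv x hx]
  show Commute _ y
  refine Commute.sum_left _ _ _ fun k _ => Commute.smul_left ?_ _
  exact ((show Commute g y from hy.symm).pow_left _)

/-- Elements commuting with a fibrewise regular matrix commute with each other. -/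
theorem commute_of_regular {A : Type u} [CommRing A] (g : Matrix (Fin n) (Fin n) A)
    (hreg : ∀ (K : Type u) [Field K] (φ : A →+* K),
      Module.finrank K (Subalgebra.centralizer K ({g.map φ} : Set (Matrix (Fin n) (Fin n) K))) = n)
    {B : Type u} [CommRing B] (f : A →+* B) (x y : Matrix (Fin n) (Fin n) B)
    (hx : x * g.map f = g.map f * x) (hy : y * g.map f = g.map f * y) : x * y = y * x := by
  ext i j
  refine Module.eq_of_localization_maximal
    (fun P _ => Localization.AtPrime P)
    (fun P _ => Algebra.linearMap B (Localization.AtPrime P)) _ _ fun P hP => ?_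
  let ℓ := algebraMap B (Localization.AtPrime P)
  have key : x.map ℓ * y.map ℓ = y.map ℓ * x.map ℓ := by
    have hg : (g.map f).map ℓ = g.map (ℓ.comp f) := by rw [Matrix.map_map]; rfl
    refine commute_of_regular_local (g.map (ℓ.comp f)) ?_ _ _ ?_ ?_
    · rw [Matrix.map_map]
      exact hreg _ ((IsLocalRing.residue _).comp (ℓ.comp f))
    · rw [← hg, ← Matrix.map_mul, ← Matrix.map_mul, hx]
    · rw [← hg, ← Matrix.map_mul, ← Matrix.map_mul, hy]
  rw [← Matrix.map_mul, ← Matrix.map_mul] at key
  exact congrFun (congrFun key i) j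

end Groth.Agent.SchBasics
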