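import Groth.Agent.SchBasics.RegMatrix
import Mathlib.RingTheory.Flat.Basic
import Mathlib.RingTheory.Flat.Stability
import Mathlib.RingTheory.Localization.Module
import Mathlib.RingTheory.Ideal.Quotient.Operations
import Mathlib.LinearAlgebra.Matrix.MvPolynomial
import Mathlib.Algebra.MvPolynomial.Basic

/-! The scheme of matrices commuting with a fibrewise regular matrix is flat. -/

universe u

open Matrix

namespace Groth.Agent.SchBasics

variable {n : ℕ}

/-- The matrix of `x ↦ x g - g x`. -/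
def adMat {B : Type u} [CommRing B] (g : Matrix (Fin n) (Fin n) B) :
    Matrix (Fin n × Fin n) (Fin n × Fin n) B :=
  Matrix.of fun ab cd => (if ab.1 = cd.1 then g cd.2 ab.2 else 0) - (if cd.2 = ab.2 then g ab.1 cd.1 else 0)

lemma adMat_mulVec {B : Type u} [CommRing B] (g x : Matrix (Fin n) (Fin n) B) :
    adMat g *ᵥ (fun cd => x cd.1 cd.2) = fun ab => (x * g - g * x) ab.1 ab.2 := by
  funext ab
  simp only [adMat, Matrix.mulVec, dotProduct, Matrix.of_apply, Matrix.sub_apply, Matrix.mul_apply,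
    Fintype.sum_prod_type, sub_mul, ite_mul, zero_mul, Finset.sum_sub_distrib]
  congr 1
  · rw [Finset.sum_eq_single ab.1 (fun c _ hc => Finset.sum_eq_zero fun d _ => if_neg (Ne.symm hc))
      (fun h => absurd (Finset.mem_univ _) h)]
    exact Finset.sum_congr rfl fun d _ => by rw [if_pos rfl, mul_comm]
  · exact Finset.sum_congr rfl fun c _ => by
      rw [Finset.sum_ite_eq' Finset.univ ab.2 (fun d => g ab.1 c * x c d), if_pos (Finset.mem_univ _)]

lemma adMat_map {B B' : Type u} [CommRing B] [CommRing B'] (φ : B →+* B')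
    (g : Matrix (Fin n) (Fin n) B) : (adMat g).map φ = adMat (g.map φ) := by
  ext ab cd
  simp only [adMat, Matrix.map_apply, Matrix.of_apply, map_sub, apply_ite φ, map_zero]

/-- With a cyclic vector, `x ↦ x g - g x` has a generalized inverse. -/
lemma exists_genInverse {B : Type u} [CommRing B] (g : Matrix (Fin n) (Fin n) B) (v : Fin n → B)
    (hv : IsUnit (krylov g v).det) :
    ∃ S, adMat g * S * adMat g = adMat g := by
  let M : (Fin n × Fin n → B) → Matrix (Fin n) (Fin n) B := fun y =>
    Matrix.of fun i k => ∑ a ∈ Finset.range k.val,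
      (g ^ (k.val - 1 - a) *ᵥ ((Matrix.of fun p q => y (p, q)) *ᵥ (g ^ a *ᵥ v))) i
  let Sl : (Fin n × Fin n → B) →ₗ[B] (Fin n × Fin n → B) :=
    { toFun := fun y pq => (M y * (krylov g v)⁻¹) pq.1 pq.2
      map_add' := fun y y' => by
        funext pq
        have : M (y + y') = M y + M y' := by
          ext i k
          simp only [M, Matrix.of_apply, Matrix.add_apply, Pi.add_apply, ← Finset.sum_add_distrib]
          refine Finset.sum_congr rfl fun a _ => ?_
          rw [show (Matrix.of fun p q => y (p, q) + y' (p, q)) =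
            (Matrix.of fun p q => y (p, q)) + Matrix.of fun p q => y' (p, q) from rfl,
            Matrix.add_mulVec, Matrix.mulVec_add, Pi.add_apply]
        simp only [this, add_mul, Matrix.add_apply, Pi.add_apply]
      map_smul' := fun c y => by
        funext pq
        have : M (c • y) = c • M y := by
          ext i k
          simp only [M, Matrix.of_apply, Matrix.smul_apply, Pi.smul_apply, Finset.smul_sum]
          refine Finset.sum_congr rfl fun a _ => ?_
          rw [show (Matrix.of fun p q => c • y (p, q)) = c • Matrix.of fun p q => y (p, q) from rfl,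
            Matrix.smul_mulVec, Matrix.mulVec_smul, Pi.smul_apply]
        simp only [this, Matrix.smul_mul, Matrix.smul_apply, Pi.smul_apply, RingHom.id_apply] }
  refine ⟨LinearMap.toMatrix' Sl, ?_⟩
  refine Matrix.mulVec_injective (funext fun z => ?_)
  let x : Matrix (Fin n) (Fin n) B := Matrix.of fun p q => z (p, q)
  have hz : z = fun cd => x cd.1 cd.2 := rfl
  rw [← Matrix.mulVec_mulVec, ← Matrix.mulVec_mulVec, hz, adMat_mulVec, LinearMap.toMatrix'_mulVec]
  set y := x * g - g * x with hy
  let c := (krylov g v)⁻¹ *ᵥ (x *ᵥ v)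
  let p := ∑ k, c k • g ^ (k : ℕ)
  let x' := x - p
  have hpg : p * g = g * p := by
    simp only [p, Finset.sum_mul, Finset.mul_sum, Matrix.smul_mul, Matrix.mul_smul, ← pow_succ,
      ← pow_succ']
  have hx'v : x' *ᵥ v = 0 := by
    have h1 : krylov g v *ᵥ c = x *ᵥ v := by
      rw [Matrix.mulVec_mulVec, Matrix.mul_nonsing_inv _ hv, Matrix.one_mulVec]
    have h2 : p *ᵥ v = krylov g v *ᵥ c := by
      ext i
      simp only [p, Matrix.mulVec, dotProduct, krylov, Matrix.of_apply, Matrix.sum_apply,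
        Matrix.smul_apply, smul_eq_mul, Finset.sum_mul]
      rw [Finset.sum_comm]
      exact Finset.sum_congr rfl fun k _ => Finset.sum_congr rfl fun j _ => by ring
    rw [Matrix.sub_mulVec, h2, h1, sub_self]
  have hy' : x' * g - g * x' = y := by
    simp only [x', hy, sub_mul, mul_sub, hpg]; abel
  have hrec : ∀ k : ℕ, x' *ᵥ (g ^ k *ᵥ v) =
      ∑ a ∈ Finset.range k, g ^ (k - 1 - a) *ᵥ (y *ᵥ (g ^ a *ᵥ v)) := by
    intro k
    induction k with
    | zero => simpa using hx'v
    | succ k ih =>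
      rw [Finset.sum_range_succ, show k + 1 - 1 - k = 0 by omega, pow_zero, Matrix.one_mulVec]
      have h3 : x' *ᵥ (g ^ (k + 1) *ᵥ v) =
          g *ᵥ (x' *ᵥ (g ^ k *ᵥ v)) + y *ᵥ (g ^ k *ᵥ v) := by
        rw [← hy', Matrix.mulVec_mulVec, Matrix.mulVec_mulVec, Matrix.mulVec_mulVec, Matrix.mulVec_mulVec,
          ← Matrix.add_mulVec]
        congr 1
        rw [pow_succ']
        simp only [x', sub_mul, mul_sub, Matrix.mul_assoc]
        abel
      rw [h3, ih, Matrix.mulVec_sum]
      congr 1
      refine Finset.sum_congr rfl fun a ha => ?_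
      rw [Finset.mem_range] at ha
      rw [Matrix.mulVec_mulVec, ← pow_succ', show k - 1 - a + 1 = k + 1 - 1 - a by omega]
  have hSl : Sl (fun ab => y ab.1 ab.2) = fun cd => x' cd.1 cd.2 := by
    have hM : M (fun ab => y ab.1 ab.2) = x' * krylov g v := by
      ext i k
      have := congrFun (hrec k) i
      simp only [Finset.sum_apply] at this
      exact this.symm
    funext cd
    change (M (fun ab => y ab.1 ab.2) * (krylov g v)⁻¹) cd.1 cd.2 = _
    rw [hM, Matrix.mul_assoc, Matrix.mul_nonsing_inv _ hv, Matrix.mul_one]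
  rw [hSl, adMat_mulVec, hy']

lemma exists_genInverse_of_regular {A : Type u} [CommRing A] (g : Matrix (Fin n) (Fin n) A)
    (hreg : ∀ (K : Type u) [Field K] (φ : A →+* K),
      Module.finrank K (Subalgebra.centralizer K ({g.map φ} : Set (Matrix (Fin n) (Fin n) K))) = n) :
    ∃ S, adMat g * S * adMat g = adMat g := by
  classical
  let J : Ideal A :=
    { carrier := {a | ∃ S, adMat g * S * adMat g = a • adMat g}
      add_mem' := fun {a b} ⟨S, hS⟩ ⟨S', hS'⟩ =>
        ⟨S + S', by rw [mul_add, add_mul, hS, hS', add_smul]⟩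
      zero_mem' := ⟨0, by simp⟩
      smul_mem' := fun c a ⟨S, hS⟩ =>
        ⟨c • S, by rw [Matrix.mul_smul, Matrix.smul_mul, hS, smul_eq_mul, mul_smul]⟩ }
  suffices h : J = ⊤ by
    obtain ⟨S, hS⟩ : (1 : A) ∈ J := h ▸ trivial
    exact ⟨S, hS.trans (one_smul _ _)⟩
  by_contra hne
  obtain ⟨P, hP, hJP⟩ := Ideal.exists_le_maximal J hne
  let L := Localization.AtPrime P
  let ℓ := algebraMap A L
  obtain ⟨v, hv⟩ := exists_cyclicVector_of_isLocalRing (g.map ℓ) (by
    rw [Matrix.map_map]
    exact hreg _ ((IsLocalRing.residue L).comp ℓ))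
  obtain ⟨S', hS'⟩ := exists_genInverse (g.map ℓ) v hv
  obtain ⟨b, hb⟩ := IsLocalization.exist_integer_multiples_of_finite P.primeCompl
    (fun pq : (Fin n × Fin n) × (Fin n × Fin n) => S' pq.1 pq.2)
  choose s hs using hb
  let S₀ : Matrix (Fin n × Fin n) (Fin n × Fin n) A := Matrix.of fun p q => s (p, q)
  have hS₀ : S₀.map ℓ = ℓ b • S' := by
    ext p q
    simpa [S₀, ℓ, Algebra.smul_def] using hs (p, q)
  have h1 : (adMat g * S₀ * adMat g).map ℓ = ((b : A) • adMat g).map ℓ := by
    rw [Matrix.map_mul, Matrix.map_mul, hS₀, adMat_map, Matrix.mul_smul, Matrix.smul_mul, hS']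
    ext p q
    simp [← adMat_map]
  have h2 : ∀ pq : (Fin n × Fin n) × (Fin n × Fin n), ∃ c : P.primeCompl,
      (c : A) * (adMat g * S₀ * adMat g) pq.1 pq.2 = c * ((b : A) • adMat g) pq.1 pq.2 := fun pq =>
    (IsLocalization.eq_iff_exists P.primeCompl L).mp (congrFun (congrFun h1 pq.1) pq.2)
  choose c hc using h2
  let C : A := ∏ pq, (c pq : A)
  have hCP : C * (b : A) ∉ P := P.primeCompl.mul_mem
    (Submonoid.prod_mem _ fun pq _ => (c pq).2) b.2
  refine hCP (hJP ⟨C • S₀, ?_⟩)
  rw [Matrix.mul_smul, Matrix.smul_mul, mul_smul]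
  ext p q
  simp only [Matrix.smul_apply, smul_eq_mul, C]
  rw [← Finset.mul_prod_erase Finset.univ _ (Finset.mem_univ (p, q))]
  have := hc (p, q)
  simp only [Matrix.smul_apply, smul_eq_mul] at this
  linear_combination (∏ pq ∈ Finset.univ.erase (p, q), (c pq : A)) * this

/-- The ring of matrices commuting with a fibrewise regular matrix is flat. -/
theorem flat_commutant {A : Type u} [CommRing A] (g : Matrix (Fin n) (Fin n) A)
    (hreg : ∀ (K : Type u) [Field K] (φ : A →+* K),
      Module.finrank K (Subalgebra.centralizer K ({g.map φ} : Set (Matrix (Fin n) (Fin n) K))) = n) :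
    Module.Flat A (MvPolynomial (Fin n × Fin n) A ⧸ Ideal.span (Set.range fun ij : Fin n × Fin n =>
        (Matrix.mvPolynomialX (Fin n) (Fin n) A * g.map MvPolynomial.C -
          g.map MvPolynomial.C * Matrix.mvPolynomialX (Fin n) (Fin n) A :
            Matrix (Fin n) (Fin n) (MvPolynomial (Fin n × Fin n) A)) ij.1 ij.2)) := by
  classical
  obtain ⟨S, hS⟩ := exists_genInverse_of_regular g hreg
  let D : Matrix (Fin n × Fin n) (Fin n × Fin n) (MvPolynomial (Fin n × Fin n) A) := (adMat g).map MvPolynomial.C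
  let T : Matrix (Fin n × Fin n) (Fin n × Fin n) (MvPolynomial (Fin n × Fin n) A) := S.map MvPolynomial.C
  let Xv : Fin n × Fin n → MvPolynomial (Fin n × Fin n) A := fun cd => MvPolynomial.X cd
  set gen : Fin n × Fin n → MvPolynomial (Fin n × Fin n) A := fun ij =>
    (Matrix.mvPolynomialX (Fin n) (Fin n) A * g.map MvPolynomial.C -
      g.map MvPolynomial.C * Matrix.mvPolynomialX (Fin n) (Fin n) A :
      Matrix (Fin n) (Fin n) (MvPolynomial (Fin n × Fin n) A)) ij.1 ij.2 with hgendef
  have hgen : gen = D *ᵥ Xv := by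
    refine (adMat_mulVec (g.map MvPolynomial.C) (Matrix.mvPolynomialX (Fin n) (Fin n) A)).symm.trans ?_
    rw [← adMat_map]
    rfl
  let θ : MvPolynomial (Fin n × Fin n) A →ₐ[A] MvPolynomial (Fin n × Fin n) A := MvPolynomial.aeval fun cd => Xv cd - ((T * D) *ᵥ Xv) cd
  have hθC : ∀ (M : Matrix (Fin n × Fin n) (Fin n × Fin n) A),
      (fun p => θ ((M.map MvPolynomial.C *ᵥ Xv) p)) = M.map MvPolynomial.C *ᵥ (Xv - (T * D) *ᵥ Xv) := by
    intro M
    funext p
    simp only [Matrix.mulVec, dotProduct, map_sum, map_mul, Matrix.map_apply, θ, MvPolynomial.aeval_C,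
      MvPolynomial.algebraMap_eq, Xv, MvPolynomial.aeval_X, Pi.sub_apply]
  have hker : ∀ a ∈ Ideal.span (Set.range gen), θ a = 0 := by
    suffices h : Ideal.span (Set.range gen) ≤ RingHom.ker θ from fun a ha => h ha
    rw [Ideal.span_le]
    rintro _ ⟨ij, rfl⟩
    have h1 := congrFun (hθC (adMat g)) ij
    rw [← hgen] at h1
    change θ (gen ij) = 0
    rw [h1, Matrix.mulVec_sub, Matrix.mulVec_mulVec, ← Matrix.mul_assoc]
    simp only [T, D, ← Matrix.map_mul, hS, sub_self, Pi.zero_apply]
  let σ : (MvPolynomial (Fin n × Fin n) A ⧸ Ideal.span (Set.range gen)) →ₐ[A] MvPolynomial (Fin n × Fin n) A := Ideal.Quotient.liftₐ _ θ hker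
  have hid : ((Ideal.Quotient.mkₐ A (Ideal.span (Set.range gen))).comp σ) = AlgHom.id A _ := by
    refine Ideal.Quotient.algHom_ext A (MvPolynomial.algHom_ext fun cd => ?_)
    change Ideal.Quotient.mk _ (θ (MvPolynomial.X cd)) = Ideal.Quotient.mk _ (MvPolynomial.X cd)
    rw [Ideal.Quotient.eq]
    simp only [θ, MvPolynomial.aeval_X, Xv]
    rw [sub_sub_cancel_left, ← Matrix.mulVec_mulVec, neg_mem_iff]
    change ∑ p, T cd p * (D *ᵥ Xv) p ∈ _
    refine Ideal.sum_mem _ fun p _ => Ideal.mul_mem_left _ _ ?_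
    rw [← hgen]
    exact Ideal.subset_span ⟨p, rfl⟩
  exact Module.Flat.of_retract σ.toLinearMap (Ideal.Quotient.mkₐ A _).toLinearMap
    (LinearMap.ext fun z => DFunLike.congr_fun hid z)

end Groth.Agent.SchBasics
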