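import Mathlib

/-! The fibrewise criterion of smoothness, algebraic form (no Noetherian hypotheses). -/

set_option autoImplicit false
universe u

open IsLocalRing TensorProduct KaehlerDifferential

namespace Groth.Agent.SchBasics

/-- For a flat quotient, relations among extended elements come from the kernel. -/
theorem ker_inf_map_le {A P C : Type u} [CommRing A] [CommRing P] [CommRing C] [Algebra A P]
    [Algebra A C] [Algebra P C] [IsScalarTower A P C] [Module.Flat A C]
    (h₁ : Function.Surjective (algebraMap P C)) (I : Ideal A) :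
    RingHom.ker (algebraMap P C) ⊓ I.map (algebraMap A P) ≤
      I.map (algebraMap A P) * RingHom.ker (algebraMap P C) := by
  classical
  rintro y ⟨hy, hyI⟩
  obtain ⟨l, hl, hsum⟩ := (Finsupp.mem_span_image_iff_linearCombination P (s := (I : Set A))
    (v := algebraMap A P)).mp hyI
  have hlI : ∀ a : l.support, (a : A) ∈ I := fun a => (Finsupp.mem_supported P l).mp hl a.2
  have hy' : y = ∑ a : l.support, l a.1 * algebraMap A P a.1 := by
    rw [← hsum, Finsupp.linearCombination_apply, Finsupp.sum, ← Finset.sum_coe_sort]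
    rfl
  have hrel : ∑ a : l.support, (a : A) • algebraMap P C (l a.1) = 0 := by
    rw [← show algebraMap P C y = 0 from hy, hy', map_sum]
    refine Finset.sum_congr rfl fun a _ => ?_
    rw [Algebra.smul_def, map_mul, ← IsScalarTower.algebraMap_apply, mul_comm]
  obtain ⟨k, α, z, hz, hα⟩ := Module.Flat.isTrivialRelation_of_sum_smul_eq_zero (R := A) (M := C)
    (f := fun a : l.support => (a : A)) (x := fun a => algebraMap P C (l a.1)) hrel
  choose w hw using fun j => h₁ (z j)
  let e : l.support → P := fun a => l a.1 - ∑ j, algebraMap A P (α a j) * w j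
  have he : ∀ a, e a ∈ RingHom.ker (algebraMap P C) := fun a => by
    simp only [e, RingHom.mem_ker, map_sub, map_sum, map_mul, hw, ← IsScalarTower.algebraMap_apply,
      hz a, Algebra.smul_def, sub_self]
  have h0 : ∑ a : l.support, (∑ j, algebraMap A P (α a j) * w j) * algebraMap A P a.1 = 0 := by
    simp only [Finset.sum_mul]
    rw [Finset.sum_comm]
    refine Finset.sum_eq_zero fun j _ => ?_
    have := congrArg (algebraMap A P) (hα j)
    rw [map_sum, map_zero] at this
    simp only [map_mul] at this
    calc ∑ a : l.support, algebraMap A P (α a j) * w j * algebraMap A P a.1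
        = (∑ a : l.support, algebraMap A P a.1 * algebraMap A P (α a j)) * w j := by
          rw [Finset.sum_mul]; exact Finset.sum_congr rfl fun a _ => by ring
      _ = 0 := by rw [this, zero_mul]
  have : y = ∑ a : l.support, algebraMap A P a.1 * e a := by
    rw [hy', ← sub_zero (∑ a : l.support, l a.1 * algebraMap A P a.1), ← h0, ← Finset.sum_sub_distrib]
    exact Finset.sum_congr rfl fun a _ => by simp only [e]; ring
  rw [this]
  exact Submodule.sum_mem _ fun a _ => Ideal.mul_mem_mul (Ideal.mem_map_of_mem _ (hlI a)) (he a)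

/-- Formal smoothness from formal smoothness modulo an ideal meeting the kernel trivially. -/
theorem formallySmooth_of_fibre {R P C R' C' : Type u} [CommRing R] [CommRing P] [CommRing C]
    [CommRing R'] [CommRing C'] [IsLocalRing C] [IsLocalRing P] [Algebra R P] [Algebra R C] [Algebra P C]
    [IsScalarTower R P C] [Algebra.FormallySmooth R P] [Module.Free P Ω[P⁄R]]
    [Module.Finite P Ω[P⁄R]] (h₁ : Function.Surjective (algebraMap P C))
    (hJ : (RingHom.ker (algebraMap P C)).FG) [Algebra R' C'] [Algebra.FormallySmooth R' C']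
    (b : R →+* R') (c : C →+* C') (hc : Function.Surjective c)
    (hsq : c.comp (algebraMap R C) = (algebraMap R' C').comp b)
    (𝔟 : Ideal P) (h𝔟m : 𝔟 ≤ maximalIdeal P) (hker : ∀ p, c (algebraMap P C p) = 0 → p ∈ RingHom.ker (algebraMap P C) ⊔ 𝔟)
    (hker' : ∀ p ∈ 𝔟, c (algebraMap P C p) = 0)
    (hflat : RingHom.ker (algebraMap P C) ⊓ 𝔟 ≤ maximalIdeal P * RingHom.ker (algebraMap P C))
    (ρ : R' →+* P ⧸ (RingHom.ker (algebraMap P C) ^ 2 ⊔ 𝔟))
    (hρb : ρ.comp b = (Ideal.Quotient.mk _).comp (algebraMap R P))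
    (hρc : ∀ (r : R') (p : P), Ideal.Quotient.mk _ p = ρ r → c (algebraMap P C p) = algebraMap R' C' r) :
    Algebra.FormallySmooth R C := by
  rw [Algebra.FormallySmooth.iff_injective_cotangentComplexBaseChange_residueField P h₁ hJ]
  let J := RingHom.ker (algebraMap P C)
  let Q := P ⧸ (J ^ 2 ⊔ 𝔟)
  let mk : P →+* Q := Ideal.Quotient.mk _
  let _ : Algebra R' Q := ρ.toAlgebra
  have hJ2 : ∀ p ∈ J ^ 2 ⊔ 𝔟, c (algebraMap P C p) = 0 := by
    intro p hp
    obtain ⟨a, ha, e, he, rfl⟩ := Submodule.mem_sup.mp hp
    rw [map_add, map_add, hker' e he, show algebraMap P C a = 0 from Ideal.pow_le_self two_ne_zero ha,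
      map_zero, add_zero]
  let π : Q →+* C' := Ideal.Quotient.lift _ (c.comp (algebraMap P C)) hJ2
  have hπ : Function.Surjective π := fun x => by
    obtain ⟨y, rfl⟩ := hc x
    obtain ⟨p, rfl⟩ := h₁ y
    exact ⟨mk p, rfl⟩
  let πa : Q →ₐ[R'] C' := AlgHom.mk π fun r => by
    obtain ⟨p, hp⟩ := Ideal.Quotient.mk_surjective (ρ r)
    show π (ρ r) = _
    rw [← hp]
    exact hρc r p hp
  have hK : ∀ x : Q, π x = 0 → x ∈ J.map mk := by
    intro x hx
    obtain ⟨p, rfl⟩ := Ideal.Quotient.mk_surjective x
    obtain ⟨a, ha, e, he, rfl⟩ := Submodule.mem_sup.mp (hker p hx)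
    rw [map_add]
    refine Ideal.add_mem _ (Ideal.mem_map_of_mem _ ha) ?_
    rw [Ideal.Quotient.eq_zero_iff_mem.mpr (Submodule.mem_sup_right he)]
    exact Ideal.zero_mem _
  have hKsq : (J.map mk) ^ 2 = ⊥ := by
    rw [← Ideal.map_pow, Ideal.map_eq_bot_iff_le_ker, Ideal.mk_ker]
    exact le_sup_left
  have hnil : IsNilpotent (RingHom.ker (πa : Q →+* C')) := ⟨2, by
    refine le_bot_iff.mp (le_trans (Ideal.pow_right_mono (fun x hx => hK x hx) 2) hKsq.le)⟩
  let σ : C' →ₐ[R'] Q := Algebra.FormallySmooth.liftOfSurjective (AlgHom.id R' C') πa hπ hnil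
  have hσ : ∀ x, π (σ x) = x := fun x =>
    Algebra.FormallySmooth.liftOfSurjective_apply (AlgHom.id R' C') πa hπ hnil x
  let s : P →+* Q := (σ : C' →+* Q).comp (c.comp (algebraMap P C))
  have hd : ∀ p, mk p - s p ∈ J.map mk := fun p => hK _ (by
    rw [map_sub]; exact sub_eq_zero.mpr (hσ _).symm)
  have hmul : ∀ x ∈ J.map mk, ∀ y ∈ J.map mk, x * y = 0 := fun x hx y hy => by
    have : x * y ∈ (⊥ : Ideal Q) := hKsq ▸ (pow_two (J.map mk)).symm ▸ Ideal.mul_mem_mul hx hy
    exact this
  have hsR : ∀ r, s (algebraMap R P r) = mk (algebraMap R P r) := fun r => by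
    show σ (c (algebraMap P C (algebraMap R P r))) = _
    rw [← IsScalarTower.algebraMap_apply]
    have h1 : c (algebraMap R C r) = algebraMap R' C' (b r) := RingHom.congr_fun hsq r
    rw [h1, σ.commutes]
    exact RingHom.congr_fun hρb r
  let _ : Algebra P Q := mk.toAlgebra
  have : IsScalarTower R P Q := IsScalarTower.of_algebraMap_eq fun _ => rfl
  let d : Derivation R P Q := Derivation.mk'
    { toFun := fun p => mk p - s p
      map_add' := fun p q => by simp only [map_add]; ring
      map_smul' := fun r p => by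
        simp only [Algebra.smul_def, map_mul, hsR, RingHom.id_apply]
        rw [show algebraMap R Q r = mk (algebraMap R P r) from rfl]
        ring }
    fun p q => by
      show mk (p * q) - s (p * q) = mk p * (mk q - s q) + mk q * (mk p - s p)
      have := hmul _ (hd p) _ (hd q)
      rw [map_mul, map_mul]
      linear_combination (-1 : Q) * this
  let ψ := d.liftKaehlerDifferential
  have hψ : ∀ ω, ψ ω ∈ (J.map mk).restrictScalars P := by
    intro ω
    have : ω ∈ Submodule.span P (Set.range (D R P)) := by rw [span_range_derivation]; trivial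
    induction this using Submodule.span_induction with
    | mem x hx =>
      obtain ⟨p, rfl⟩ := hx
      rw [show ψ (D R P p) = d p from d.liftKaehlerDifferential_comp_D p]
      exact hd p
    | zero => rw [map_zero]; exact zero_mem _
    | add x y _ _ hx hy => rw [map_add]; exact add_mem hx hy
    | smul a x _ hx => rw [map_smul]; exact Submodule.smul_mem _ a hx
  let κ := ResidueField C
  have hsurj : Function.Surjective (algebraMap P κ) := by
    rw [IsScalarTower.algebraMap_eq P C κ]
    exact residue_surjective.comp h₁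
  have hm : RingHom.ker (algebraMap P κ) = maximalIdeal P :=
    IsLocalRing.eq_maximalIdeal (RingHom.ker_isMaximal_of_surjective _ hsurj)
  have hkerm : ∀ {M : Type u} [AddCommGroup M] [Module P M] (x : M),
      (1 : κ) ⊗ₜ[P] x = 0 → x ∈ maximalIdeal P • (⊤ : Submodule P M) := by
    intro M _ _ x hx
    let q : P →ₗ[P] κ := Algebra.linearMap P κ
    let e : (P ⧸ maximalIdeal P) ≃ₗ[P] κ :=
      (Submodule.quotEquivOfEq (maximalIdeal P) (LinearMap.ker q) hm.symm).trans
        (q.quotKerEquivOfSurjective hsurj)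
    have he : e (Ideal.Quotient.mk (maximalIdeal P) 1) = 1 := map_one (algebraMap P κ)
    let E := (e.symm.rTensor M).trans (TensorProduct.quotTensorEquivQuotSMul M (maximalIdeal P))
    have h0 : E ((1 : κ) ⊗ₜ[P] x) = 0 := by rw [hx, map_zero]
    rw [← he] at h0
    simp only [E, LinearEquiv.trans_apply, LinearEquiv.rTensor_tmul, LinearEquiv.symm_apply_apply,
      TensorProduct.quotTensorEquivQuotSMul_mk_tmul, one_smul] at h0
    exact (Submodule.Quotient.mk_eq_zero _).mp h0
  refine (injective_iff_map_eq_zero _).mpr fun z hz => ?_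
  obtain ⟨⟨a, ha⟩, rfl⟩ := TensorProduct.mk_surjective P J κ hsurj z
  rw [TensorProduct.mk_apply, cotangentComplexBaseChange_tmul, one_smul, kerToTensor_apply] at hz
  have hDa : D R P a ∈ maximalIdeal P • (⊤ : Submodule P Ω[P⁄R]) := hkerm _ hz
  have hψa : mk a ∈ (maximalIdeal P * J).map mk := by
    have h1 : ψ (D R P a) = mk a := by
      rw [show ψ (D R P a) = d a from d.liftKaehlerDifferential_comp_D a]
      show mk a - σ (c (algebraMap P C a)) = mk a
      rw [show algebraMap P C a = 0 from ha, map_zero, map_zero, sub_zero]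
    rw [← h1]
    refine Submodule.smul_induction_on hDa (fun r hr ω _ => ?_) (fun x y hx hy => ?_)
    · rw [map_smul, Ideal.map_mul]
      show mk r * ψ ω ∈ _
      exact Ideal.mul_mem_mul (Ideal.mem_map_of_mem mk hr) (hψ ω)
    · rw [map_add]; exact Ideal.add_mem _ hx hy
  have haJ : a ∈ maximalIdeal P * J := by
    obtain ⟨u, hu, hua⟩ := (Ideal.mem_map_iff_of_surjective mk Ideal.Quotient.mk_surjective).mp hψa
    obtain ⟨v, hv, e, he, hve⟩ := Submodule.mem_sup.mp (Ideal.Quotient.eq.mp hua.symm)
    have hJm : RingHom.ker (algebraMap P C) ≤ maximalIdeal P :=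
      IsLocalRing.le_maximalIdeal (RingHom.ker_ne_top (algebraMap P C))
    have huJ : u ∈ J := (Ideal.mul_le_inf (I := maximalIdeal P) (J := J) hu).2
    have heJ : e ∈ J := by
      have := J.sub_mem (J.sub_mem ha huJ) (Ideal.pow_le_self two_ne_zero hv)
      rwa [← hve, add_sub_cancel_left] at this
    have hv' : v ∈ maximalIdeal P * J := by
      rw [pow_two] at hv
      exact Ideal.mul_mono_left hJm hv
    have : a = u + v + e := by rw [add_assoc, hve]; ring
    rw [this]
    exact Ideal.add_mem _ (Ideal.add_mem _ hu hv') (hflat ⟨heJ, he⟩)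
  rw [TensorProduct.mk_apply]
  have hmem : (⟨a, ha⟩ : J) ∈ maximalIdeal P • (⊤ : Submodule P J) := by
    have hmap : Submodule.map J.subtype (maximalIdeal P • (⊤ : Submodule P J)) = maximalIdeal P * J := by
      rw [Submodule.map_smul'', Submodule.map_top, Submodule.range_subtype, smul_eq_mul]
    rw [← hmap] at haJ
    obtain ⟨y, hy, hya⟩ := haJ
    exact (Subtype.ext hya : y = ⟨a, ha⟩) ▸ hy
  refine Submodule.smul_induction_on hmem (fun r hr x _ => ?_) (fun x y hx hy => ?_)
  · rw [TensorProduct.tmul_smul, TensorProduct.smul_tmul', Algebra.smul_def,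
      show algebraMap P κ r = 0 from hm.ge hr, zero_mul, TensorProduct.zero_tmul]
  · rw [TensorProduct.tmul_add, hx, hy, add_zero]

end Groth.Agent.SchBasics
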