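import Groth.Agent.Lim60.Props
import Groth.Agent.LimTop61.BaseChange

/-! Properties local on the source descend to a stage, near a point or on a quasi-compact scheme. -/

set_option autoImplicit false
universe u

open CategoryTheory CategoryTheory.Limits AlgebraicGeometry TopologicalSpace

namespace Groth.Agent.SchBasics

variable {P : MorphismProperty Scheme.{u}} [P.IsStableUnderBaseChange]

lemma isPullback_restrict {X' X Y Y' : Scheme.{u}} {pX : X' ⟶ X} {f' : X' ⟶ Y'} {f : X ⟶ Y}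
    {pY : Y' ⟶ Y} (h : IsPullback pX f' f pY) (U : X.Opens) :
    IsPullback (pX ∣_ U) ((pX ⁻¹ᵁ U).ι ≫ f') (U.ι ≫ f) pY :=
  (isPullback_morphismRestrict pX U).paste_vert h

lemma prop_restrict_iff {X' X Y Y' : Scheme.{u}} {pX : X' ⟶ X} {f' : X' ⟶ Y'} {f : X ⟶ Y}
    {pY : Y' ⟶ Y} (h : IsPullback pX f' f pY) (U : X.Opens) :
    P ((pX ⁻¹ᵁ U).ι ≫ f') ↔ P (pullback.snd (U.ι ≫ f) pY) :=
  LimDesc62.prop_iff_of_isPullback (isPullback_restrict h U)

lemma prop_of_comp_mono {A B C : Scheme.{u}} (h : A ⟶ B) (m : B ⟶ C) [Mono m] (hP : P (h ≫ m)) :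
    P h := by
  have h1 : IsPullback (𝟙 A) h h (𝟙 B) := IsPullback.of_horiz_isIso ⟨by simp⟩
  have h2 : IsPullback (𝟙 B) (𝟙 B) m m := IsKernelPair.id_of_mono m
  exact MorphismProperty.of_isPullback (h1.paste_vert h2) hP

/-- Descent on an affine chart of a morphism over a stage. -/
theorem exists_stage_chart (hd : LimDesc62.DescProp @LocallyOfFinitePresentation P)
    (hι : ∀ {A B C : Scheme.{u}} (h : A ⟶ B) (m : B ⟶ C) [IsOpenImmersion m], P h → P (h ≫ m))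
    {I : Type u} [SmallCategory I] [IsCofiltered I] (D : I ⥤ Scheme.{u}) (c : Cone D) (hc : IsLimit c)
    [∀ (i j : I) (f : i ⟶ j), IsAffineHom (D.map f)] (i : I)
    {X₀ Y₀ : Scheme.{u}} (f₀ : X₀ ⟶ Y₀) (g₀ : Y₀ ⟶ D.obj i)
    [LocallyOfFinitePresentation g₀] [LocallyOfFinitePresentation (f₀ ≫ g₀)]
    {V₀ : Y₀.Opens} (hV : IsAffineOpen V₀) {U₀ : X₀.Opens} (hU : IsAffineOpen U₀)
    (e : U₀ ≤ f₀ ⁻¹ᵁ V₀) (h : P (pullback.snd (U₀.ι ≫ f₀) (pullback.fst g₀ (c.π.app i)))) :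
    ∃ (j : I) (φ : j ⟶ i), P (pullback.snd (U₀.ι ≫ f₀) (pullback.fst g₀ (D.map φ))) := by
  have := LimDesc62.respectsIso_lfp.{u}
  have : IsAffine (V₀ : Scheme.{u}) := hV
  have : IsAffine (U₀ : Scheme.{u}) := hU
  let a : (U₀ : Scheme.{u}) ⟶ V₀ := f₀.resLE V₀ U₀ e
  have ha : a ≫ V₀.ι = U₀.ι ≫ f₀ := Scheme.Hom.resLE_comp_ι _ _
  have hlfp : LocallyOfFinitePresentation a := by
    have : LocallyOfFinitePresentation (a ≫ V₀.ι ≫ g₀) := by
      rw [← Category.assoc, ha, Category.assoc]; infer_instance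
    exact LimDesc62.lfp_of_comp a (V₀.ι ≫ g₀)
  have key : ∀ {T : Scheme.{u}} (b : T ⟶ D.obj i),
      (P (pullback.snd (U₀.ι ≫ f₀) (pullback.fst g₀ b)) →
        P (pullback.snd a (pullback.fst (V₀.ι ≫ g₀) b))) ∧
      (P (pullback.snd a (pullback.fst (V₀.ι ≫ g₀) b)) →
        P (pullback.snd (U₀.ι ≫ f₀) (pullback.fst g₀ b))) := by
    intro T b
    let m : pullback (V₀.ι ≫ g₀) b ⟶ pullback g₀ b :=
      pullback.map _ _ _ _ V₀.ι (𝟙 T) (𝟙 _) (by simp) (by simp)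
    have hm : IsPullback (pullback.fst (V₀.ι ≫ g₀) b) m V₀.ι (pullback.fst g₀ b) := by
      refine IsPullback.of_bot ?_ (pullback.lift_fst _ _ _).symm (IsPullback.of_hasPullback g₀ b)
      rw [show m ≫ pullback.snd g₀ b = pullback.snd (V₀.ι ≫ g₀) b by
        simp [m, pullback.map, pullback.lift_snd]]
      exact IsPullback.of_hasPullback (V₀.ι ≫ g₀) b
    have : IsOpenImmersion m :=
      MorphismProperty.of_isPullback (P := @IsOpenImmersion) hm inferInstance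
    have hsq := (IsPullback.of_hasPullback a (pullback.fst (V₀.ι ≫ g₀) b)).paste_vert hm
    rw [ha] at hsq
    rw [← LimDesc62.prop_iff_of_isPullback (P := P) hsq]
    exact ⟨fun hh => prop_of_comp_mono _ m hh, fun hh => hι _ m hh⟩
  obtain ⟨j, φ, hj⟩ := hd.rel D c hc i (V₀.ι ≫ g₀) a hlfp ((key _).1 h)
  exact ⟨j, φ, (key _).2 hj⟩

variable {I : Type u} [SmallCategory I] (D : I ⥤ Scheme.{u}) (c : Cone D) {i₀ : I}
  {X₀ Y₀ : Scheme.{u}} {f₀ : X₀ ⟶ Y₀} {g₀ : Y₀ ⟶ D.obj i₀}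
  {X Y : Scheme.{u}} {f : X ⟶ Y} {g : Y ⟶ c.pt} {qY : Y ⟶ Y₀} {qX : X ⟶ X₀}

/-- The projection of the limit to a stage is a base change. -/
lemma isPullback_to_stage (hY : IsPullback qY g g₀ (c.π.app i₀)) (hX : IsPullback qX f f₀ qY)
    {j : I} {φ : j ⟶ i₀} {Xj Yj : Scheme.{u}} {fj : Xj ⟶ Yj} {gj : Yj ⟶ D.obj j} {pY : Yj ⟶ Y₀}
    {pX : Xj ⟶ X₀} (hYj : IsPullback pY gj g₀ (D.map φ)) (hXj : IsPullback pX fj f₀ pY)
    (rX : X ⟶ Xj) (h1 : rX ≫ pX = qX) (h2 : rX ≫ fj ≫ gj = f ≫ g ≫ c.π.app j) :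
    ∃ u : Y ⟶ Yj, u ≫ pY = qY ∧ IsPullback u g gj (c.π.app j) ∧ IsPullback rX f fj u := by
  let u : Y ⟶ Yj := hYj.lift qY (g ≫ c.π.app j) (by rw [hY.w, Category.assoc, c.w φ])
  have hu : u ≫ pY = qY := hYj.lift_fst _ _ _
  have hu' : u ≫ gj = g ≫ c.π.app j := hYj.lift_snd _ _ _
  have hY' : IsPullback u g gj (c.π.app j) :=
    IsPullback.of_right (by rw [hu, c.w φ]; exact hY) hu' hYj
  refine ⟨u, hu, hY', IsPullback.of_right (by rw [h1, hu]; exact hX) ?_ hXj⟩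
  apply hYj.hom_ext
  · rw [Category.assoc, Category.assoc, ← hXj.w, ← Category.assoc, h1, hu, hX.w]
  · rw [Category.assoc, Category.assoc, h2, hu']

/-- The easy direction. -/
lemma prop_of_stage (hY : IsPullback qY g g₀ (c.π.app i₀)) (hX : IsPullback qX f f₀ qY)
    {j : I} {φ : j ⟶ i₀} {Xj Yj : Scheme.{u}} {fj : Xj ⟶ Yj} {gj : Yj ⟶ D.obj j} {pY : Yj ⟶ Y₀}
    {pX : Xj ⟶ X₀} (hYj : IsPullback pY gj g₀ (D.map φ)) (hXj : IsPullback pX fj f₀ pY)
    (hP : P fj) : P f := by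
  let u : Y ⟶ Yj := hYj.lift qY (g ≫ c.π.app j) (by rw [hY.w, Category.assoc, c.w φ])
  have hu : u ≫ pY = qY := hYj.lift_fst _ _ _
  let v : X ⟶ Xj := hXj.lift qX (f ≫ u) (by rw [hX.w, Category.assoc, hu])
  exact MorphismProperty.of_isPullback (IsPullback.of_right
    (by rw [show v ≫ pX = qX from hXj.lift_fst _ _ _, hu]; exact hX) (hXj.lift_snd _ _ _ : v ≫ fj = f ≫ u) hXj) hP

lemma prop_nhd_of_stage (hY : IsPullback qY g g₀ (c.π.app i₀)) (hX : IsPullback qX f f₀ qY)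
    (x : X) {j : I} {φ : j ⟶ i₀} {Xj Yj : Scheme.{u}} {fj : Xj ⟶ Yj} {gj : Yj ⟶ D.obj j}
    {pY : Yj ⟶ Y₀} {pX : Xj ⟶ X₀} {rX : X ⟶ Xj}
    (hYj : IsPullback pY gj g₀ (D.map φ)) (hXj : IsPullback pX fj f₀ pY)
    (h1 : rX ≫ pX = qX) (h2 : rX ≫ fj ≫ gj = f ≫ g ≫ c.π.app j)
    (V : Xj.Opens) (hx : rX x ∈ V) (hP : P (V.ι ≫ fj)) :
    ∃ U : X.Opens, x ∈ U ∧ P (U.ι ≫ f) := by
  obtain ⟨u, -, -, hsq⟩ := isPullback_to_stage D c hY hX hYj hXj rX h1 h2
  exact ⟨rX ⁻¹ᵁ V, hx, MorphismProperty.of_isPullback (isPullback_restrict hsq V) hP⟩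

variable [IsCofiltered I] [∀ (i j : I) (f : i ⟶ j), IsAffineHom (D.map f)]

/-- Near a point, descent to a stage. -/
theorem exists_stage_nhd [IsZariskiLocalAtSource P]
    (hd : LimDesc62.DescProp @LocallyOfFinitePresentation P)
    (hι : ∀ {A B C : Scheme.{u}} (h : A ⟶ B) (m : B ⟶ C) [IsOpenImmersion m], P h → P (h ≫ m))
    (hc : IsLimit c) [LocallyOfFinitePresentation g₀] [LocallyOfFinitePresentation (f₀ ≫ g₀)]
    (hY : IsPullback qY g g₀ (c.π.app i₀)) (hX : IsPullback qX f f₀ qY) (x : X)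
    (U : X.Opens) (hxU : x ∈ U) (hP : P (U.ι ≫ f)) :
    ∃ (j : I) (φ : j ⟶ i₀) (Xj Yj : Scheme.{u}) (fj : Xj ⟶ Yj) (gj : Yj ⟶ D.obj j) (pY : Yj ⟶ Y₀)
      (pX : Xj ⟶ X₀) (rX : X ⟶ Xj), IsPullback pY gj g₀ (D.map φ) ∧ IsPullback pX fj f₀ pY ∧
        rX ≫ pX = qX ∧ rX ≫ fj ≫ gj = f ≫ g ≫ c.π.app j ∧ ∃ V : Xj.Opens, rX x ∈ V ∧ P (V.ι ≫ fj) := by
  have := LimDesc62.isStableUnderBaseChange_lfp.{u}
  have hq : IsPullback qX (f ≫ g) (f₀ ≫ g₀) (c.π.app i₀) := hX.paste_vert hY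
  let qc := LimTop61.bcCone D c (f₀ ≫ g₀) qX (f ≫ g) hq.w
  have hlim : IsLimit qc := LimTop61.isLimitBcCone D c hc (f₀ ≫ g₀) qX (f ≫ g) hq
  obtain ⟨_, ⟨_, ⟨r, W, hW, rfl⟩, rfl⟩, hxW, hWU⟩ :=
    (isBasis_preimage_isAffineOpen _ qc hlim).exists_subset_of_mem_open hxU U.2
  set j := r.left
  let pXj : pullback (f₀ ≫ g₀) (D.map r.hom) ⟶ X₀ := pullback.fst _ _
  let pYj : pullback g₀ (D.map r.hom) ⟶ Y₀ := pullback.fst _ _
  let gj : pullback g₀ (D.map r.hom) ⟶ D.obj j := pullback.snd _ _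
  let fj : pullback (f₀ ≫ g₀) (D.map r.hom) ⟶ pullback g₀ (D.map r.hom) :=
    pullback.map _ _ _ _ f₀ (𝟙 _) (𝟙 _) (by simp) (by simp)
  have hfj : fj ≫ gj = pullback.snd _ _ := by simp [fj, gj, pullback.map, pullback.lift_snd]
  have hYj : IsPullback pYj gj g₀ (D.map r.hom) := IsPullback.of_hasPullback _ _
  have hXj : IsPullback pXj fj f₀ pYj := by
    refine IsPullback.of_bot ?_ (by simp [pXj, fj, pYj, pullback.map, pullback.lift_fst]) hYj
    rw [hfj]
    exact IsPullback.of_hasPullback (f₀ ≫ g₀) (D.map r.hom)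
  let v : X ⟶ pullback (f₀ ≫ g₀) (D.map r.hom) := qc.π.app r
  have hv1 : v ≫ pXj = qX := pullback.lift_fst _ _ _
  have hv2 : v ≫ fj ≫ gj = f ≫ g ≫ c.π.app j := by
    rw [hfj]; exact (pullback.lift_snd _ _ _).trans (Category.assoc _ _ _)
  obtain ⟨u, hu, hY', hX'⟩ := isPullback_to_stage D c hY hX hYj hXj v hv1 hv2
  obtain ⟨V₀, hV₀, hxV₀, -⟩ :=
    exists_isAffineOpen_mem_and_subset (Opens.mem_top ((fj : _ ⟶ _) (v x)))
  let W' : (pullback (f₀ ≫ g₀) (D.map r.hom)).Opens := W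
  obtain ⟨U₀, hU₀, hxU₀, hle⟩ := exists_isAffineOpen_mem_and_subset (X := pullback (f₀ ≫ g₀) (D.map r.hom))
    (show v x ∈ W' ⊓ fj ⁻¹ᵁ V₀ from ⟨hxW, hxV₀⟩)
  have : LocallyOfFinitePresentation gj := MorphismProperty.pullback_snd _ _ ‹_›
  have : LocallyOfFinitePresentation (fj ≫ gj) := by
    rw [hfj]; exact MorphismProperty.pullback_snd _ _ ‹_›
  have hPU : P ((v ⁻¹ᵁ U₀).ι ≫ f) := by
    have hsub : v ⁻¹ᵁ U₀ ≤ U := fun z hz => hWU ((hle hz).1)
    rw [← X.homOfLE_ι hsub, Category.assoc]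
    exact IsZariskiLocalAtSource.comp hP _
  have hP' : P (pullback.snd (U₀.ι ≫ fj) (pullback.fst gj (c.π.app j))) := by
    have hX'' : IsPullback v (f ≫ hY'.isoPullback.hom) fj (pullback.fst gj (c.π.app j)) :=
      hX'.of_iso (Iso.refl _) (Iso.refl _) hY'.isoPullback (Iso.refl _) (by simp) (by simp) (by simp) (by simp)
    refine (prop_restrict_iff (P := P) hX'' U₀).mp ?_
    rw [← Category.assoc]
    exact (P.cancel_right_of_respectsIso _ _).mpr hPU
  obtain ⟨k, ψ, hk⟩ := exists_stage_chart hd hι D c hc j fj gj hV₀ hU₀ (fun z hz => (hle hz).2) hP'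
  let fk := pullback.snd fj (pullback.fst gj (D.map ψ))
  have hYk : IsPullback (pullback.fst gj (D.map ψ) ≫ pYj) (pullback.snd gj (D.map ψ)) g₀
      (D.map (ψ ≫ r.hom)) := by
    rw [D.map_comp]
    exact (IsPullback.of_hasPullback gj (D.map ψ)).paste_horiz hYj
  have hXk : IsPullback (pullback.fst fj _ ≫ pXj) fk f₀ (pullback.fst gj (D.map ψ) ≫ pYj) :=
    (IsPullback.of_hasPullback fj (pullback.fst gj (D.map ψ))).paste_horiz hXj
  let rk : X ⟶ pullback fj (pullback.fst gj (D.map ψ)) :=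
    pullback.lift v (f ≫ pullback.lift u (g ≫ c.π.app k)
      (by rw [hY'.w, Category.assoc, c.w ψ])) (by rw [Category.assoc, pullback.lift_fst, hX'.w])
  refine ⟨k, ψ ≫ r.hom, _, _, fk, pullback.snd gj (D.map ψ), _, _, rk, hYk, hXk, ?_, ?_,
    pullback.fst fj _ ⁻¹ᵁ U₀, ?_, (prop_restrict_iff (IsPullback.of_hasPullback _ _) U₀).mpr hk⟩
  · simp [rk, pullback.lift_fst_assoc, hv1]
  · simp [rk, fk, pullback.lift_snd_assoc, pullback.lift_snd]
  · show pullback.fst fj _ (rk x) ∈ U₀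
    rw [← Scheme.Hom.comp_apply, pullback.lift_fst]
    exact hxU₀

/-- With a quasi-compact source, descent to a stage. -/
theorem exists_stage_of_compact [IsZariskiLocalAtSource P]
    (hd : LimDesc62.DescProp @LocallyOfFinitePresentation P)
    (hι : ∀ {A B C : Scheme.{u}} (h : A ⟶ B) (m : B ⟶ C) [IsOpenImmersion m], P h → P (h ≫ m))
    (hc : IsLimit c) [LocallyOfFinitePresentation g₀] [LocallyOfFinitePresentation (f₀ ≫ g₀)]
    [CompactSpace X₀] (hY : IsPullback qY g g₀ (c.π.app i₀)) (hX : IsPullback qX f f₀ qY) (hP : P f) :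
    ∃ (j : I) (φ : j ⟶ i₀) (Xj Yj : Scheme.{u}) (fj : Xj ⟶ Yj) (gj : Yj ⟶ D.obj j) (pY : Yj ⟶ Y₀)
      (pX : Xj ⟶ X₀), IsPullback pY gj g₀ (D.map φ) ∧ IsPullback pX fj f₀ pY ∧ P fj := by
  have hch : ∀ z : X₀, ∃ U₀ : X₀.Opens, z ∈ U₀ ∧ ∃ (j : I) (φ : j ⟶ i₀),
      P (pullback.snd (U₀.ι ≫ f₀) (pullback.fst g₀ (D.map φ))) := by
    intro z
    obtain ⟨V₀, hV₀, hzV₀, -⟩ := exists_isAffineOpen_mem_and_subset (Opens.mem_top (f₀ z))
    obtain ⟨U₀, hU₀, hzU₀, hle⟩ := exists_isAffineOpen_mem_and_subset (show z ∈ f₀ ⁻¹ᵁ V₀ from hzV₀)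
    refine ⟨U₀, hzU₀, exists_stage_chart hd hι D c hc i₀ f₀ g₀ hV₀ hU₀ hle ?_⟩
    have hX'' : IsPullback qX (f ≫ hY.isoPullback.hom) f₀ (pullback.fst g₀ (c.π.app i₀)) :=
      hX.of_iso (Iso.refl _) (Iso.refl _) hY.isoPullback (Iso.refl _) (by simp) (by simp) (by simp) (by simp)
    refine (prop_restrict_iff (P := P) hX'' U₀).mp ?_
    exact IsZariskiLocalAtSource.comp ((P.cancel_right_of_respectsIso _ _).mpr hP) _
  choose U hzU j φ hj using hch
  obtain ⟨s, hs⟩ := isCompact_univ.elim_finite_subcover (fun z => (U z : Set X₀)) (fun z => (U z).2)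
    fun z _ => Set.mem_iUnion.mpr ⟨z, hzU z⟩
  obtain ⟨m, ψ, χ, hχ⟩ := LimDesc62.DescProp.exists_common (fun z : s => φ z.1)
  refine ⟨m, ψ, _, _, pullback.snd f₀ (pullback.fst g₀ (D.map ψ)), pullback.snd g₀ (D.map ψ),
    pullback.fst g₀ (D.map ψ), pullback.fst f₀ _, IsPullback.of_hasPullback _ _, IsPullback.of_hasPullback _ _, ?_⟩
  let pXm := pullback.fst f₀ (pullback.fst g₀ (D.map ψ))
  rw [IsZariskiLocalAtSource.iff_of_iSup_eq_top (P := P) (fun z : s => pXm ⁻¹ᵁ U z.1)]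
  · intro z
    refine (prop_restrict_iff (IsPullback.of_hasPullback _ _) _).mpr ?_
    refine LimDesc62.prop_snd_of_eq_comp (pullback.lift (pullback.fst g₀ (D.map ψ))
      (pullback.snd _ _ ≫ D.map (χ z)) ?_) (pullback.lift_fst _ _ _).symm (hj z.1)
    rw [pullback.condition, Category.assoc, ← D.map_comp, hχ z]
  · refine eq_top_iff.mpr fun y _ => ?_
    obtain ⟨z, hz, hy⟩ := Set.mem_iUnion₂.mp (hs (Set.mem_univ (pXm y)))
    exact Opens.mem_iSup.mpr ⟨⟨z, hz⟩, hy⟩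

end Groth.Agent.SchBasics

namespace Groth.Agent.SchBasics

set_option backward.isDefEq.respectTransparency.types false in
theorem stable_smooth : MorphismProperty.IsStableUnderBaseChange (@Smooth : MorphismProperty Scheme.{u}) :=
  inferInstance

set_option backward.isDefEq.respectTransparency.types false in
theorem local_smooth : IsZariskiLocalAtSource (@Smooth : MorphismProperty Scheme.{u}) := inferInstance

set_option backward.isDefEq.respectTransparency.types false in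
theorem comp_ι_smooth {A B C : Scheme.{u}} (h : A ⟶ B) (m : B ⟶ C) [IsOpenImmersion m] (hh : Smooth h) :
    Smooth (h ≫ m) := inferInstance

set_option backward.isDefEq.respectTransparency.types false in
theorem stable_etale : MorphismProperty.IsStableUnderBaseChange (@Etale : MorphismProperty Scheme.{u}) :=
  inferInstance

set_option backward.isDefEq.respectTransparency.types false in
theorem local_etale : IsZariskiLocalAtSource (@Etale : MorphismProperty Scheme.{u}) := inferInstance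

set_option backward.isDefEq.respectTransparency.types false in
theorem comp_ι_etale {A B C : Scheme.{u}} (h : A ⟶ B) (m : B ⟶ C) [IsOpenImmersion m] (hh : Etale h) :
    Etale (h ≫ m) := inferInstance

set_option backward.isDefEq.respectTransparency.types false in
theorem stable_unramified :
    MorphismProperty.IsStableUnderBaseChange (@FormallyUnramified : MorphismProperty Scheme.{u}) :=
  inferInstance

set_option backward.isDefEq.respectTransparency.types false in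
theorem local_unramified :
    IsZariskiLocalAtSource (@FormallyUnramified : MorphismProperty Scheme.{u}) := inferInstance

set_option backward.isDefEq.respectTransparency.types false in
theorem comp_ι_unramified {A B C : Scheme.{u}} (h : A ⟶ B) (m : B ⟶ C) [IsOpenImmersion m]
    (hh : FormallyUnramified h) : FormallyUnramified (h ≫ m) :=
  MorphismProperty.comp_mem _ h m hh (inferInstance : FormallyUnramified m)

theorem descProp_unramified :
    LimDesc62.DescProp.{u} @LocallyOfFinitePresentation @FormallyUnramified :=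
  Lim60.descProp_formallyUnramified.mono_hyp fun _ _ f (_ : LocallyOfFinitePresentation f) =>
    (inferInstance : LocallyOfFiniteType f)

end Groth.Agent.SchBasics
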