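import Groth.Agent.SchBasics.UnramAt
import Groth.Agent.SchBasics.StageLocal
import Groth.Agent.SchBasics.FibreSmoothAlg
import Mathlib.AlgebraicGeometry.Morphisms.Smooth

/-! Smoothness at a point from the map of fibres. -/

set_option autoImplicit false
universe u

open AlgebraicGeometry CategoryTheory Limits IsLocalRing

namespace Groth.Agent.SchBasics

/-- kernels of maps of localisations -/
theorem ker_map_isLocalization {M₀ N₀ P C : Type u} [CommRing M₀] [CommRing N₀] [CommRing P]
    [CommRing C] [Algebra M₀ P] [Algebra N₀ C] (π : M₀ →+* N₀) (S : Submonoid M₀)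
    [IsLocalization S P] [IsLocalization (S.map π) C] :
    RingHom.ker (IsLocalization.map C π S.le_comap_map : P →+* C) =
      (RingHom.ker π).map (algebraMap M₀ P) := by
  refine le_antisymm (fun x hx => ?_) (Ideal.map_le_iff_le_comap.mpr fun a ha => ?_)
  · obtain ⟨a, t, rfl⟩ := IsLocalization.exists_mk'_eq S x
    rw [RingHom.mem_ker, IsLocalization.map_mk', IsLocalization.mk'_eq_zero_iff] at hx
    obtain ⟨⟨_, v, hv, rfl⟩, hva⟩ := hx
    rw [IsLocalization.mk'_mem_iff]
    have : v * a ∈ RingHom.ker π := by rw [RingHom.mem_ker, map_mul]; exact hva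
    have h := Ideal.mem_map_of_mem (algebraMap M₀ P) this
    rw [map_mul] at h
    exact (Ideal.unit_mul_mem_iff_mem _ (IsLocalization.map_units P (⟨v, hv⟩ : S))).mp h
  · rw [Ideal.mem_comap, RingHom.mem_ker, IsLocalization.map_eq, show π a = 0 from ha, map_zero]

variable {X Y S : Scheme.{u}}

/-- transporting a presentation of a quotient of a stalk along an equality of points -/
theorem stalkCongr_transport (g : Y ⟶ S) {y z : Y} (e : y = z) {R' : CommRingCat.{u}}
    (ψ : Y.presheaf.stalk z ⟶ R') (hs : Function.Surjective ψ.hom)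
    (hk : RingHom.ker ψ.hom = (maximalIdeal (S.presheaf.stalk (g z))).map (g.stalkMap z).hom) :
    Function.Surjective ((Y.presheaf.stalkCongr (.of_eq e)).hom ≫ ψ).hom ∧
      RingHom.ker ((Y.presheaf.stalkCongr (.of_eq e)).hom ≫ ψ).hom =
        (maximalIdeal (S.presheaf.stalk (g y))).map (g.stalkMap y).hom := by
  subst e
  simpa using And.intro hs hk

/-- smoothness at a point near which the morphism is smooth -/
theorem formallySmooth_stalkMap_of_nhd (f : X ⟶ Y) (x : X)
    (h : ∃ U : X.Opens, x ∈ U ∧ Smooth (U.ι ≫ f)) : (f.stalkMap x).hom.FormallySmooth := by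
  obtain ⟨U, hxU, hU⟩ := h
  obtain ⟨y, rfl⟩ : x ∈ Set.range U.ι := by rwa [Scheme.Opens.range_ι]
  have h1 : ((U.ι ≫ f).stalkMap y).hom.FormallySmooth := by
    rw [← Scheme.Hom.mem_smoothLocus, Scheme.Hom.smoothLocus_eq_top]; trivial
  rw [Scheme.Hom.stalkMap_comp] at h1
  exact (RingHom.FormallySmooth.respectsIso.cancel_right_isIso _ _).mp h1

/-- smoothness of the stalk map from smoothness of that of the map of fibres -/
theorem formallySmooth_stalkMap_of_fiber (g : Y ⟶ S) (f : X ⟶ Y) [LocallyOfFinitePresentation f]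
    (s : S) (x' : (f ≫ g).fiber s)
    (hflat : ((f ≫ g).stalkMap ((f ≫ g).fiberι s x')).hom.Flat)
    (hfib : ((CohIII.fiberMapOver f (f ≫ g) g rfl s).stalkMap x').hom.FormallySmooth) :
    (f.stalkMap ((f ≫ g).fiberι s x')).hom.FormallySmooth := by
  set φ := CohIII.fiberMapOver f (f ≫ g) g rfl s with hφdef
  set x := (f ≫ g).fiberι s x' with hxdef
  have hsq : φ ≫ g.fiberι s = (f ≫ g).fiberι s ≫ f :=
    (isPullback_fiberMapOver g (f ≫ g) f rfl s).w
  have hpt : g.fiberι s (φ x') = f x := by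
    rw [hxdef, ← Scheme.Hom.comp_apply, hsq, Scheme.Hom.comp_apply]
  let cg : Y.presheaf.stalk (f x) ⟶ Y.presheaf.stalk (g.fiberι s (φ x')) :=
    (Y.presheaf.stalkCongr (.of_eq hpt.symm)).hom
  let b₀ : Y.presheaf.stalk (f x) ⟶ (g.fiber s).presheaf.stalk (φ x') :=
    cg ≫ (g.fiberι s).stalkMap (φ x')
  obtain ⟨hbs, hbk⟩ := stalkCongr_transport g hpt.symm ((g.fiberι s).stalkMap (φ x'))
    (Groth.Agent.S9501.result g s (φ x')).1 (Groth.Agent.S9501.result g s (φ x')).2
  let c : X.presheaf.stalk x ⟶ ((f ≫ g).fiber s).presheaf.stalk x' :=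
    ((f ≫ g).fiberι s).stalkMap x'
  obtain ⟨hcs, hck⟩ := Groth.Agent.S9501.result (f ≫ g) s x'
  have hstalk : f.stalkMap x ≫ c = b₀ ≫ φ.stalkMap x' := by
    show _ = (cg ≫ _) ≫ _
    rw [Category.assoc]
    have e := Scheme.Hom.stalkMap_congr_hom _ _ hsq.symm x'
    rw [Scheme.Hom.stalkMap_comp, Scheme.Hom.stalkMap_comp] at e
    exact e
  obtain ⟨V, hV, hxV, -⟩ := exists_isAffineOpen_mem_and_subset (U := ⊤)
    (TopologicalSpace.Opens.mem_top (f x))
  obtain ⟨U, hU, hxU, hUV⟩ := exists_isAffineOpen_mem_and_subset (U := f ⁻¹ᵁ V) (x := x) hxV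
  have hfp := f.finitePresentation_appLE hV hU hUV
  rw [formallySmooth_stalkMap_iff V hV U hU hUV hxU]
  algebraize [(f.appLE V U hUV).hom]
  let R := Γ(Y, V)
  set q := (hU.primeIdealOf ⟨x, hxU⟩).asIdeal with hq
  set r := (hV.primeIdealOf ⟨f x, hxV⟩).asIdeal with hr
  let := TopCat.Presheaf.algebra_section_stalk X.presheaf ⟨x, hxU⟩
  let := TopCat.Presheaf.algebra_section_stalk Y.presheaf ⟨f x, hxV⟩
  have := hU.isLocalization_stalk ⟨x, hxU⟩
  have := hV.isLocalization_stalk ⟨f x, hxV⟩
  let C := X.presheaf.stalk x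
  obtain ⟨n, π, hπ, hπker⟩ := Algebra.FinitePresentation.out (R := R) (A := Γ(X, U))
  set Q₀ : Ideal (MvPolynomial (Fin n) R) := q.comap π.toRingHom with hQ₀
  let P := Localization.AtPrime Q₀
  have hmapQ : Submonoid.map π.toRingHom Q₀.primeCompl = q.primeCompl := by
    ext t
    constructor
    · rintro ⟨a, ha, rfl⟩; exact ha
    · intro ht
      obtain ⟨a, rfl⟩ := hπ t
      exact ⟨a, ht, rfl⟩
  have : IsLocalization (Submonoid.map π.toRingHom Q₀.primeCompl) C := by
    rw [hmapQ]; infer_instance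
  let α : P →+* C := IsLocalization.map C π.toRingHom Q₀.primeCompl.le_comap_map
  have hα : Function.Surjective α := IsLocalization.map_surjective_of_surjective _ _ _ hπ
  let _ : Algebra P C := α.toAlgebra
  let _ : Algebra R C := ((f.stalkMap x).hom.comp (Y.presheaf.germ V (f x) hxV).hom).toAlgebra
  have hRC : ∀ a : R, algebraMap R C a = algebraMap Γ(X, U) C (algebraMap R Γ(X, U) a) := by
    intro a
    have heq : (f.stalkMap x).hom.comp (Y.presheaf.germ V (f x) hxV).hom =
        (algebraMap Γ(X, U) (X.presheaf.stalk x)).comp (algebraMap Γ(Y, V) Γ(X, U)) := by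
      rw [← CommRingCat.hom_comp, Scheme.Hom.germ_stalkMap]
      change _ = (X.presheaf.germ U x hxU).hom.comp (f.appLE V U hUV).hom
      rw [← CommRingCat.hom_comp, Scheme.Hom.appLE, Category.assoc, TopCat.Presheaf.germ_res]
    exact RingHom.congr_fun heq a
  have hRP : ∀ a : R, α (algebraMap R P a) = algebraMap R C a := fun a => by
    rw [IsScalarTower.algebraMap_apply R (MvPolynomial (Fin n) R) P]
    show IsLocalization.map C π.toRingHom _ _ = _
    rw [IsLocalization.map_eq, hRC]
    exact congrArg _ (π.commutes a)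
  have : IsScalarTower R P C := IsScalarTower.of_algebraMap_eq fun a => (hRP a).symm
  have : Nontrivial C := inferInstanceAs (Nontrivial (X.presheaf.stalk x))
  have : IsLocalHom α := IsLocalHom.of_surjective α hα
  -- the local map `O_y → P`
  have hunit : ∀ a : r.primeCompl, IsUnit (algebraMap R P a.1) := fun a => by
    refine isUnit_of_map_unit α _ ?_
    rw [hRP]
    exact (IsLocalization.map_units (Y.presheaf.stalk (f x)) a).map (f.stalkMap x).hom
  let β : Y.presheaf.stalk (f x) →+* P := IsLocalization.lift hunit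
  have hαβ : α.comp β = (f.stalkMap x).hom := by
    refine IsLocalization.ringHom_ext r.primeCompl (RingHom.ext fun a => ?_)
    simp only [RingHom.comp_apply, β, IsLocalization.lift_eq, hRP]
    rfl
  let A := S.presheaf.stalk (g (f x))
  let _ : Algebra A P := (β.comp (g.stalkMap (f x)).hom).toAlgebra
  let _ : Algebra A C := ((f ≫ g).stalkMap x).hom.toAlgebra
  have : IsScalarTower A P C := IsScalarTower.of_algebraMap_eq fun a => by
    show ((f ≫ g).stalkMap x).hom a = α (β ((g.stalkMap (f x)).hom a))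
    rw [show α (β ((g.stalkMap (f x)).hom a)) = (f.stalkMap x).hom ((g.stalkMap (f x)).hom a) from
      RingHom.congr_fun hαβ _, Scheme.Hom.stalkMap_comp]
    rfl
  have : Module.Flat A C := hflat
  set 𝔟 : Ideal P := (maximalIdeal A).map (algebraMap A P) with h𝔟
  have hαloc : ∀ a ∈ maximalIdeal A, algebraMap A P a ∈ maximalIdeal P := by
    intro a ha hu
    have h1 : IsUnit (algebraMap A C a) := by
      rw [IsScalarTower.algebraMap_apply A P C]; exact hu.map (algebraMap P C)
    exact ha (((f ≫ g).toLRSHom.prop x).map_nonunit a h1)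
  have h𝔟m : 𝔟 ≤ maximalIdeal P := Ideal.map_le_iff_le_comap.mpr hαloc
  let J := RingHom.ker (algebraMap P C)
  have hJ : J.FG := by
    show (RingHom.ker α).FG
    rw [ker_map_isLocalization]
    exact hπker.map _
  have hker' : ∀ p ∈ 𝔟, c.hom (α p) = 0 := by
    intro p hp
    rw [← RingHom.mem_ker, hck]
    have hp' := Ideal.mem_map_of_mem α hp
    rw [h𝔟, Ideal.map_map] at hp'
    rw [show α.comp (algebraMap A P) = ((f ≫ g).stalkMap x).hom from
      (IsScalarTower.algebraMap_eq A P C).symm] at hp'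
    exact hp'
  have hker : ∀ p, c.hom (α p) = 0 → p ∈ RingHom.ker α ⊔ 𝔟 := by
    intro p hp
    rw [← RingHom.mem_ker, hck] at hp
    have hp' : α p ∈ 𝔟.map α := by
      rw [h𝔟, Ideal.map_map, show α.comp (algebraMap A P) = ((f ≫ g).stalkMap x).hom from
        (IsScalarTower.algebraMap_eq A P C).symm]
      exact hp
    obtain ⟨e, he, hep⟩ := (Ideal.mem_map_iff_of_surjective α hα).mp hp'
    rw [← sub_add_cancel p e]
    exact Submodule.add_mem_sup (by rw [RingHom.mem_ker, map_sub, hep, sub_self]) he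
  let mk : P →+* P ⧸ (J ^ 2 ⊔ 𝔟) := Ideal.Quotient.mk _
  have hlift : RingHom.ker b₀.hom ≤ RingHom.ker (mk.comp β) := by
    rw [hbk, Ideal.map_le_iff_le_comap]
    intro a ha
    show mk (β ((g.stalkMap (f x)).hom a)) = 0
    exact Ideal.Quotient.eq_zero_iff_mem.mpr
      (Submodule.mem_sup_right (Ideal.mem_map_of_mem (algebraMap A P) ha))
  let ρ := RingHom.liftOfSurjective b₀.hom hbs ⟨mk.comp β, hlift⟩
  have hρ : ∀ a, ρ (b₀.hom a) = mk (β a) := fun a =>
    RingHom.liftOfRightInverse_comp_apply b₀.hom _ (Function.rightInverse_surjInv hbs) ⟨mk.comp β, hlift⟩ a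
  let R' := (g.fiber s).presheaf.stalk (φ x')
  let C' := ((f ≫ g).fiber s).presheaf.stalk x'
  let _ : Algebra R' C' := (φ.stalkMap x').hom.toAlgebra
  have : Algebra.FormallySmooth R' C' := hfib
  have : Algebra.FormallyEtale (MvPolynomial (Fin n) R) P := .of_isLocalization Q₀.primeCompl
  have : Algebra.FormallySmooth R P := .comp R (MvPolynomial (Fin n) R) _
  let eΩ := KaehlerDifferential.tensorKaehlerEquivOfFormallyEtale R (MvPolynomial (Fin n) R) P
  have : Module.Free P (KaehlerDifferential R P) := .of_equiv eΩ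
  have : Module.Finite P (KaehlerDifferential R P) := .of_surjective eΩ.toLinearMap eΩ.surjective
  have : IsLocalRing C := inferInstanceAs (IsLocalRing (X.presheaf.stalk x))
  have hstalk' : ∀ a, c.hom ((f.stalkMap x).hom a) = (φ.stalkMap x').hom (b₀.hom a) := fun a =>
    RingHom.congr_fun (congrArg CommRingCat.Hom.hom hstalk) a
  have main : Algebra.FormallySmooth R C :=
    formallySmooth_of_fibre (P := P) (C := C) (R' := R') (C' := C') hα hJ
      (b₀.hom.comp (Y.presheaf.germ V (f x) hxV).hom) c.hom hcs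
      (RingHom.ext fun a => hstalk' _) 𝔟 h𝔟m hker hker'
      ((ker_inf_map_le hα (maximalIdeal A)).trans (Ideal.mul_mono_left h𝔟m)) ρ
      (RingHom.ext fun a => by
        show ρ (b₀.hom _) = mk (algebraMap R P a)
        rw [hρ]
        exact congrArg mk (IsLocalization.lift_eq hunit a))
      (fun a' p hp => by
        obtain ⟨a, rfl⟩ := hbs a'
        change mk p = ρ (b₀.hom a) at hp
        rw [hρ] at hp
        obtain ⟨v, hv, e, he, hve⟩ := Submodule.mem_sup.mp (Ideal.Quotient.eq.mp hp)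
        have h0 : c.hom (α (p - β a)) = 0 := by
          rw [← hve, map_add, map_add, hker' e he,
            show α v = 0 from Ideal.pow_le_self (I := J) two_ne_zero hv, map_zero, add_zero]
        rw [map_sub, map_sub, sub_eq_zero] at h0
        show c.hom (α p) = (φ.stalkMap x').hom (b₀.hom a)
        rw [h0, show α (β a) = (f.stalkMap x).hom a from RingHom.congr_fun hαβ a, hstalk'])
  show Algebra.IsSmoothAt R q
  have : IsScalarTower R Γ(X, U) C := IsScalarTower.of_algebraMap_eq hRC
  exact Algebra.FormallySmooth.of_equiv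
    ((IsLocalization.algEquiv q.primeCompl C (Localization.AtPrime q)).restrictScalars R)

end Groth.Agent.SchBasics

namespace Groth.Agent.SchBasics

variable {X Y S : Scheme.{u}}

theorem smooth_nhd_iff_smooth_fiber_nhd (g : Y ⟶ S) (h : X ⟶ S) [LocallyOfFinitePresentation g]
    [LocallyOfFinitePresentation h] (f : X ⟶ Y) (w : f ≫ g = h) (x : X)
    (hflat : (h.stalkMap x).hom.Flat) (x' : h.fiber (h x)) (hx' : h.fiberι (h x) x' = x) :
    (∃ U : X.Opens, x ∈ U ∧ Smooth (U.ι ≫ f)) ↔
      ∃ V : (h.fiber (h x)).Opens, x' ∈ V ∧ Smooth (V.ι ≫ CohIII.fiberMapOver f h g w (h x)) := by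
  subst w
  have : LocallyOfFinitePresentation f := LimDesc62.lfp_of_comp f g
  revert x' hx'
  generalize (f ≫ g) x = s
  intro x' hx'
  constructor
  · rintro ⟨U, hxU, hU⟩
    have := stable_smooth.{u}
    refine ⟨(f ≫ g).fiberι s ⁻¹ᵁ U, by rw [Scheme.Hom.mem_preimage, hx']; exact hxU, ?_⟩
    exact MorphismProperty.of_isPullback
      (isPullback_restrict (isPullback_fiberMapOver g (f ≫ g) f rfl s).flip U) hU
  · intro hV
    have hfib := formallySmooth_stalkMap_of_nhd _ x' hV
    subst hx'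
    have hs := formallySmooth_stalkMap_of_fiber g f s x' hflat hfib
    refine ⟨f.smoothLocus, hs, ?_⟩
    rw [← Scheme.Hom.smoothLocus_eq_top_iff, ← Scheme.Hom.preimage_smoothLocus_eq]
    exact Scheme.Opens.ι_preimage_self f.smoothLocus

theorem etale_nhd_iff_etale_fiber_nhd (g : Y ⟶ S) (h : X ⟶ S) [LocallyOfFinitePresentation g]
    [LocallyOfFinitePresentation h] (f : X ⟶ Y) (w : f ≫ g = h) (x : X)
    (hflat : (h.stalkMap x).hom.Flat) (x' : h.fiber (h x)) (hx' : h.fiberι (h x) x' = x) :
    (∃ U : X.Opens, x ∈ U ∧ Etale (U.ι ≫ f)) ↔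
      ∃ V : (h.fiber (h x)).Opens, x' ∈ V ∧ Etale (V.ι ≫ CohIII.fiberMapOver f h g w (h x)) := by
  subst w
  have : LocallyOfFinitePresentation f := LimDesc62.lfp_of_comp f g
  constructor
  · rintro ⟨U, hxU, hU⟩
    have := stable_etale.{u}
    refine ⟨(f ≫ g).fiberι _ ⁻¹ᵁ U, by rw [Scheme.Hom.mem_preimage, hx']; exact hxU, ?_⟩
    exact MorphismProperty.of_isPullback
      (isPullback_restrict (isPullback_fiberMapOver g (f ≫ g) f rfl _).flip U) hU
  · rintro ⟨V, hxV, hV⟩
    obtain ⟨U₁, hxU₁, hU₁⟩ := (smooth_nhd_iff_smooth_fiber_nhd g (f ≫ g) f rfl x hflat x' hx').2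
      ⟨V, hxV, inferInstance⟩
    have hu : (f.stalkMap x).hom.FormallyUnramified := by
      have hlft : LocallyOfFiniteType (CohIII.fiberMapOver f (f ≫ g) g rfl ((f ≫ g) x)) :=
        MorphismProperty.of_isPullback (isPullback_fiberMapOver g (f ≫ g) f rfl _).flip
          (inferInstance : LocallyOfFiniteType f)
      have h1 := (formallyUnramified_stalkMap_iff_fiber g (f ≫ g) f rfl ((f ≫ g) x) x').2
        ((exists_formallyUnramified_iff_stalkMap _ x').mp ⟨V, hxV, inferInstance⟩)
      exact hx' ▸ h1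
    obtain ⟨U₂, hxU₂, hU₂⟩ := (exists_formallyUnramified_iff_stalkMap f x).mpr hu
    refine ⟨U₁ ⊓ U₂, ⟨hxU₁, hxU₂⟩, ?_⟩
    have hs : Smooth ((U₁ ⊓ U₂).ι ≫ f) := by
      rw [← X.homOfLE_ι (inf_le_left : U₁ ⊓ U₂ ≤ U₁), Category.assoc]
      have := local_smooth.{u}
      exact IsZariskiLocalAtSource.comp hU₁ _
    have hun : FormallyUnramified ((U₁ ⊓ U₂).ι ≫ f) := by
      rw [← X.homOfLE_ι (inf_le_right : U₁ ⊓ U₂ ≤ U₂), Category.assoc]
      have := local_unramified.{u}
      exact IsZariskiLocalAtSource.comp hU₂ _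
    exact Etale.of_formallyUnramified_of_flat _

end Groth.Agent.SchBasics
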