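import Mathlib.AlgebraicGeometry.ValuativeCriterion
import Mathlib.AlgebraicGeometry.ResidueField
import Groth.Agent.SchBasics.Closure

set_option autoImplicit false
universe u
open AlgebraicGeometry CategoryTheory CategoryTheory.Limits IsLocalRing

namespace Groth.Agent.SchBasics

/-- A morphism from the spectrum of a local ring factors through any affine open containing the
image of the closed point. -/
lemma exists_factor_affine {X : Scheme.{u}} {R : Type u} [CommRing R] [IsLocalRing R]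
    (a : Spec (.of R) ⟶ X) {U : X.Opens} (hU : IsAffineOpen U) (h : a (closedPoint R) ∈ U) :
    ∃ ψ : Γ(X, U) ⟶ CommRingCat.of R, Spec.map ψ ≫ hU.fromSpec = a := by
  have hr : Set.range a ⊆ Set.range hU.fromSpec := by
    rw [hU.range_fromSpec]
    rintro _ ⟨p, rfl⟩
    exact ((specializes_closedPoint (R := R) p).map a.continuous).mem_open U.isOpen h
  obtain ⟨ψ, hψ⟩ := Spec.map_surjective (IsOpenImmersion.lift hU.fromSpec a hr)
  exact ⟨ψ, by rw [hψ, IsOpenImmersion.lift_fac]⟩

lemma fromSpec_comp_inj {X : Scheme.{u}} {U : X.Opens} (hU : IsAffineOpen U) {R : CommRingCat.{u}}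
    {ψ ψ' : Γ(X, U) ⟶ R} (h : Spec.map ψ ≫ hU.fromSpec = Spec.map ψ' ≫ hU.fromSpec) : ψ = ψ' :=
  Spec.map_injective ((cancel_mono hU.fromSpec).mp h)

lemma mem_of_comp {X : Scheme.{u}} {U : X.Opens} {R S : CommRingCat.{u}} (ψ : S ⟶ R)
    {φ : Spec S ⟶ X} (h : Set.range φ ⊆ U) (p : Spec R) : (Spec.map ψ ≫ φ) p ∈ U :=
  h ⟨_, rfl⟩

/-- The image of the closed point under a local homomorphism. -/
lemma comp_apply_closedPoint {X : Scheme.{u}} {R S : Type u} [CommRing R] [CommRing S]
    [IsLocalRing R] [IsLocalRing S] (ρ : R →+* S) [IsLocalHom ρ] (φ : Spec (.of R) ⟶ X) :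
    (Spec.map (CommRingCat.ofHom ρ) ≫ φ) (closedPoint S) = φ (closedPoint R) := by
  rw [Scheme.Hom.comp_apply]
  exact congrArg φ (comap_closedPoint ρ)

variable {X : Scheme.{u}} {k K : Type u} [Field k] [Field K]

lemma isLocalHom_comap {R : ValuationSubring K} {g : k →+* K} (ρ : R.comap g →+* R)
    (hρ : ∀ x, ((ρ x : R) : K) = g x) : IsLocalHom ρ := by
  refine ⟨fun x ⟨v, hv⟩ => ?_⟩
  have h1 : g x * (((↑v⁻¹ : R)) : K) = 1 := by
    rw [← hρ, ← hv, ← MulMemClass.coe_mul, Units.mul_inv, OneMemClass.coe_one]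
  have hx : (x : k) ≠ 0 := fun h0 => by simp [h0] at h1
  have hxi : (x : k)⁻¹ ∈ R.comap g := by
    rw [ValuationSubring.mem_comap, map_inv₀, inv_eq_of_mul_eq_one_right h1]
    exact (↑v⁻¹ : R).2
  exact IsUnit.of_mul_eq_one (⟨_, hxi⟩ : R.comap g) (Subtype.ext (mul_inv_cancel₀ hx))

/-- A morphism from the spectrum of a valuation ring, whose generic point is defined over a
subfield, factors through the valuation ring induced on the subfield. -/
lemma existsUnique_comap_lift (a : Spec (.of k) ⟶ X) (g : k →+* K) (R : ValuationSubring K)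
    (φ : Spec (.of R) ⟶ X)
    (w : Spec.map (CommRingCat.ofHom R.subtype) ≫ φ = Spec.map (CommRingCat.ofHom g) ≫ a)
    (ρ : R.comap g →+* R) (hρ : ∀ x, ((ρ x : R) : K) = g x) :
    ∃! φ' : Spec (.of (R.comap g)) ⟶ X, Spec.map (CommRingCat.ofHom ρ) ≫ φ' = φ ∧
      Spec.map (CommRingCat.ofHom (R.comap g).subtype) ≫ φ' = a := by
  obtain ⟨U, hU, hxU, -⟩ := exists_isAffineOpen_mem_and_subset (U := ⊤)
    (TopologicalSpace.Opens.mem_top (φ (closedPoint R)))
  obtain ⟨ψ, hψ⟩ := exists_factor_affine φ hU hxU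
  have haU : a (closedPoint k) ∈ U := by
    have h1 : Set.range φ ⊆ U := by
      rintro _ ⟨p, rfl⟩
      exact ((specializes_closedPoint (R := R) p).map φ.continuous).mem_open U.isOpen hxU
    have := mem_of_comp (CommRingCat.ofHom R.subtype) h1 (closedPoint K)
    rw [w, Scheme.Hom.comp_apply] at this
    convert this using 2
    exact Subsingleton.elim (α := PrimeSpectrum k) _ _
  obtain ⟨ψa, hψa⟩ := exists_factor_affine a hU haU
  have key : ψ ≫ CommRingCat.ofHom R.subtype = ψa ≫ CommRingCat.ofHom g :=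
    fromSpec_comp_inj hU (by rw [Spec.map_comp, Spec.map_comp, Category.assoc, Category.assoc, hψ, hψa, w])
  have hmem : ∀ s, ψa s ∈ R.comap g := fun s => by
    rw [ValuationSubring.mem_comap]
    have := congrArg (fun f => f s) key
    exact this ▸ (ψ s).2
  let ψ' : Γ(X, U) ⟶ CommRingCat.of (R.comap g) :=
    CommRingCat.ofHom (ψa.hom.codRestrict _ hmem)
  have h1 : ψ' ≫ CommRingCat.ofHom ρ = ψ := by
    ext s
    have h := congrArg (fun f => f s) key
    exact ((hρ (ψ' s)).trans h.symm)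
  have h2 : ψ' ≫ CommRingCat.ofHom (R.comap g).subtype = ψa := by ext s; rfl
  refine ⟨Spec.map ψ' ≫ hU.fromSpec, ⟨?_, ?_⟩, ?_⟩
  · rw [← Spec.map_comp_assoc, h1, hψ]
  · rw [← Spec.map_comp_assoc, h2, hψa]
  · rintro φ' ⟨e1, e2⟩
    have := isLocalHom_comap ρ hρ
    have hcl : φ' (closedPoint (R.comap g)) ∈ U := by
      rw [← comp_apply_closedPoint ρ φ', e1]; exact hxU
    obtain ⟨ψ'', hψ''⟩ := exists_factor_affine φ' hU hcl
    have e : ψ'' ≫ CommRingCat.ofHom (R.comap g).subtype = ψa :=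
      fromSpec_comp_inj hU (by rw [Spec.map_comp, Category.assoc, hψ'', e2, hψa])
    have : ψ'' = ψ' := by
      ext s
      exact congrArg (fun f => f s) (e.trans h2.symm)
    rw [← this, hψ'']

/-- A morphism from the spectrum of a valuation ring composite with a place. -/
lemma existsUnique_composite (R R' : ValuationSubring K) (hRR' : R ≤ R') (ι : R →+* R')
    (hι : ∀ x, ((ι x : R') : K) = x) (Rt : ValuationSubring (ResidueField R')) (σ : R →+* Rt)
    (hσs : Function.Surjective σ) (hσ : ∀ x, ((σ x : Rt) : ResidueField R') = residue R' (ι x))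
    (g : Spec (.of R') ⟶ X) (ht : Spec (.of Rt) ⟶ X)
    (w : Spec.map (CommRingCat.ofHom Rt.subtype) ≫ ht =
      Spec.map (CommRingCat.ofHom (residue R')) ≫ g) :
    ∃! h : Spec (.of R) ⟶ X, Spec.map (CommRingCat.ofHom ι) ≫ h = g ∧
      Spec.map (CommRingCat.ofHom σ) ≫ h = ht := by
  obtain ⟨U, hU, hxU, -⟩ := exists_isAffineOpen_mem_and_subset (U := ⊤)
    (TopologicalSpace.Opens.mem_top (ht (closedPoint Rt)))
  obtain ⟨ψt, hψt⟩ := exists_factor_affine ht hU hxU
  have hgU : g (closedPoint R') ∈ U := by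
    rw [← comp_apply_closedPoint (residue R') g, ← w]
    exact mem_of_comp _ (by
      rintro _ ⟨p, rfl⟩
      exact ((specializes_closedPoint (R := Rt) p).map ht.continuous).mem_open U.isOpen hxU) _
  obtain ⟨ψg, hψg⟩ := exists_factor_affine g hU hgU
  have key : ψt ≫ CommRingCat.ofHom Rt.subtype = ψg ≫ CommRingCat.ofHom (residue R') :=
    fromSpec_comp_inj hU (by rw [Spec.map_comp, Spec.map_comp, Category.assoc, Category.assoc, hψt, hψg, w])
  have hm : ∀ m : R', m ∈ maximalIdeal R' → (m : K) ∈ R := fun m hm => by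
    by_cases h0 : (m : K) = 0
    · rw [h0]; exact R.zero_mem
    refine (R.mem_or_inv_mem (m : K)).resolve_right fun hi => ?_
    exact hm (IsUnit.of_mul_eq_one (⟨_, hRR' hi⟩ : R') (Subtype.ext (mul_inv_cancel₀ h0)))
  have hmem : ∀ s, ((ψg s : R') : K) ∈ R := fun s => by
    obtain ⟨r, hr⟩ := hσs (ψt s)
    have h : residue R' (ψg s - ι r) = 0 := by
      rw [map_sub, ← hσ, hr, sub_eq_zero]
      exact (congrArg (fun f => f s) key).symm
    have := R.toSubring.add_mem (hm _ ((residue_eq_zero_iff _).mp h)) r.2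
    simpa [hι] using this
  let ψ : Γ(X, U) ⟶ CommRingCat.of R :=
    CommRingCat.ofHom ((R'.subtype.comp ψg.hom).codRestrict _ hmem)
  have h1 : ψ ≫ CommRingCat.ofHom ι = ψg := by
    ext s
    exact hι (ψ s)
  have h2 : ψ ≫ CommRingCat.ofHom σ = ψt := by
    ext s
    refine (hσ (ψ s)).trans ?_
    exact (congrArg (residue R') (congrArg (fun f => f s) h1)).trans
      (congrArg (fun f => f s) key).symm
  refine ⟨Spec.map ψ ≫ hU.fromSpec, ⟨?_, ?_⟩, ?_⟩
  · rw [← Spec.map_comp_assoc, h1, hψg]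
  · rw [← Spec.map_comp_assoc, h2, hψt]
  · rintro h ⟨e1, e2⟩
    have : IsLocalHom σ := .of_surjective σ hσs
    have hcl : h (closedPoint R) ∈ U := by
      rw [← comp_apply_closedPoint σ h, e2]; exact hxU
    obtain ⟨ψ', hψ'⟩ := exists_factor_affine h hU hcl
    have e : ψ' ≫ CommRingCat.ofHom ι = ψg :=
      fromSpec_comp_inj hU (by rw [Spec.map_comp, Category.assoc, hψ', e1, hψg])
    have : ψ' = ψ := by
      ext s
      rw [← hι, ← hι]
      exact congrArg Subtype.val (congrArg (fun f => f s) (e.trans h1.symm))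
    rw [← this, hψ']

end Groth.Agent.SchBasics
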