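import Groth.Agent.SchBasics.ValLift
import Mathlib.AlgebraicGeometry.Morphisms.UnderlyingMap

set_option autoImplicit false
universe u
open AlgebraicGeometry CategoryTheory CategoryTheory.Limits IsLocalRing

namespace Groth.Agent.SchBasics

variable {X Y Z : Scheme.{u}}

/-- The criterion: at most one lift. -/
def RefinedUniq (h : Z ⟶ Y) (f : Y ⟶ X) : Prop :=
  ∀ (z : Z) (R : ValuationSubring (Z.residueField z)) (φ : Spec (.of R) ⟶ X),
    Spec.map (CommRingCat.ofHom R.subtype) ≫ φ = Z.fromSpecResidueField z ≫ h ≫ f →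
    ∀ φ₁ φ₂ : Spec (.of R) ⟶ Y,
      Spec.map (CommRingCat.ofHom R.subtype) ≫ φ₁ = Z.fromSpecResidueField z ≫ h → φ₁ ≫ f = φ →
      Spec.map (CommRingCat.ofHom R.subtype) ≫ φ₂ = Z.fromSpecResidueField z ≫ h → φ₂ ≫ f = φ →
      φ₁ = φ₂

/-- The criterion: existence of a lift. -/
def RefinedExists (h : Z ⟶ Y) (f : Y ⟶ X) : Prop :=
  ∀ (z : Z) (R : ValuationSubring (Z.residueField z)) (φ : Spec (.of R) ⟶ X),
    Spec.map (CommRingCat.ofHom R.subtype) ≫ φ = Z.fromSpecResidueField z ≫ h ≫ f →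
    ∃ φ' : Spec (.of R) ⟶ Y,
      Spec.map (CommRingCat.ofHom R.subtype) ≫ φ' = Z.fromSpecResidueField z ≫ h ∧ φ' ≫ f = φ

lemma exists_center (m : Z ⟶ Y) {z : Z} {y : Y} (hzy : m z ⤳ y) :
    ∃ (R : ValuationSubring (Z.residueField z)) (ψ : Spec (.of R) ⟶ Y),
      Spec.map (CommRingCat.ofHom R.subtype) ≫ ψ = Z.fromSpecResidueField z ≫ m ∧
      ψ (closedPoint R) = y := by
  let α : Y.presheaf.stalk y ⟶ Z.residueField z :=
    Y.presheaf.stalkSpecializes hzy ≫ m.stalkMap z ≫ Z.residue z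
  obtain ⟨A, hA, hloc⟩ := exists_factor_valuationRing α.hom
  let β : Y.presheaf.stalk y ⟶ .of A := CommRingCat.ofHom (α.hom.codRestrict _ hA)
  refine ⟨A, Spec.map β ≫ Y.fromSpecStalk y, ?_, ?_⟩
  · rw [← Spec.map_comp_assoc, Scheme.fromSpecResidueField, Category.assoc,
      ← Scheme.SpecMap_stalkMap_fromSpecStalk, ← Scheme.SpecMap_stalkSpecializes_fromSpecStalk hzy,
      ← Spec.map_comp_assoc, ← Spec.map_comp_assoc]
    rfl
  · rw [Scheme.Hom.comp_apply]
    have : Spec.map β (closedPoint A) = closedPoint (Y.presheaf.stalk y) :=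
      comap_closedPoint (S := A) (α.hom.codRestrict A.toSubring hA)
    rw [this, Scheme.fromSpecStalk_closedPoint]

lemma exists_specializes_range (h : Z ⟶ Y) [QuasiCompact h] (hd : DenseRange h) (y : Y) :
    ∃ z : Z, h z ⤳ y :=
  exists_specializes_of_mem_closure_range h (hd.closure_range ▸ Set.mem_univ y)

lemma isSeparated_of_refinedUniq (h : Z ⟶ Y) (f : Y ⟶ X) [QuasiCompact h] [QuasiSeparated f]
    (hd : DenseRange h) (H : RefinedUniq h f) : IsSeparated f := by
  refine ⟨.of_isPreimmersion _ (isClosed_of_closure_subset fun q hq => ?_)⟩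
  obtain ⟨y, hy⟩ := exists_specializes_of_mem_closure_range (pullback.diagonal f) hq
  obtain ⟨z, hz⟩ := exists_specializes_range h hd y
  obtain ⟨R, ψ, hψ, hψq⟩ := exists_center (h ≫ pullback.diagonal f) (z := z) (y := q)
    ((hz.map (pullback.diagonal f).continuous).trans hy)
  have e1 : Spec.map (CommRingCat.ofHom R.subtype) ≫ ψ ≫ pullback.fst f f =
      Z.fromSpecResidueField z ≫ h := by simp [reassoc_of% hψ]
  have e2 : Spec.map (CommRingCat.ofHom R.subtype) ≫ ψ ≫ pullback.snd f f =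
      Z.fromSpecResidueField z ≫ h := by simp [reassoc_of% hψ]
  have e : ψ ≫ pullback.fst f f = ψ ≫ pullback.snd f f :=
    H z R ((ψ ≫ pullback.fst f f) ≫ f) (by simp only [Category.assoc]; rw [reassoc_of% e1]) _ _ e1 rfl e2
      (by rw [Category.assoc, Category.assoc, pullback.condition])
  have : (ψ ≫ pullback.fst f f) ≫ pullback.diagonal f = ψ := by
    apply pullback.hom_ext
    · simp
    · simpa using e
  exact ⟨(ψ ≫ pullback.fst f f) (closedPoint R),
    by rw [← Scheme.Hom.comp_apply, this, hψq]⟩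

/-- Composite of two valuation rings. -/
def compositeValuationSubring {K : Type u} [Field K] (R' : ValuationSubring K)
    (Rt : ValuationSubring (ResidueField R')) : ValuationSubring K :=
  .ofSubring ((Rt.toSubring.comap (residue R')).map R'.subtype) fun x => by
    rcases R'.mem_or_inv_mem x with hx | hx
    · by_cases hm : IsUnit (⟨x, hx⟩ : R')
      · obtain ⟨v, hv⟩ := hm
        rcases Rt.mem_or_inv_mem (residue R' v) with h | h
        · exact .inl ⟨v, h, congrArg Subtype.val hv⟩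
        · refine .inr ⟨↑v⁻¹, ?_, ?_⟩
          · change residue R' ↑v⁻¹ ∈ Rt
            rwa [show residue R' ↑v⁻¹ = (residue R' ↑v)⁻¹ from
              eq_inv_of_mul_eq_one_left (by rw [← map_mul, Units.inv_mul, map_one])]
          · exact eq_inv_of_mul_eq_one_left (congrArg Subtype.val (by rw [← hv, Units.inv_mul] :
              (↑v⁻¹ : R') * ⟨x, hx⟩ = 1))
      · exact .inl ⟨⟨x, hx⟩, by
          change residue R' _ ∈ Rt
          rw [(residue_eq_zero_iff _).mpr hm]; exact Rt.zero_mem, rfl⟩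
    · by_cases hm : IsUnit (⟨x⁻¹, hx⟩ : R')
      · obtain ⟨v, hv⟩ := hm
        rcases Rt.mem_or_inv_mem (residue R' v) with h | h
        · exact .inr ⟨v, h, congrArg Subtype.val hv⟩
        · refine .inl ⟨↑v⁻¹, ?_, ?_⟩
          · change residue R' ↑v⁻¹ ∈ Rt
            rwa [show residue R' ↑v⁻¹ = (residue R' ↑v)⁻¹ from
              eq_inv_of_mul_eq_one_left (by rw [← map_mul, Units.inv_mul, map_one])]
          · have := eq_inv_of_mul_eq_one_left (congrArg Subtype.val (by rw [← hv, Units.inv_mul] :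
              (↑v⁻¹ : R') * ⟨x⁻¹, hx⟩ = 1))
            rwa [inv_inv] at this
      · exact .inr ⟨⟨x⁻¹, hx⟩, by
          change residue R' _ ∈ Rt
          rw [(residue_eq_zero_iff _).mpr hm]; exact Rt.zero_mem, rfl⟩

lemma exists_lift_of_refined (h : Z ⟶ Y) (f : Y ⟶ X) [QuasiCompact h] [IsSeparated f]
    (hd : DenseRange h) (He : RefinedExists h f) (y : Y)
    (Ry : ValuationSubring (Y.residueField y)) (φ : Spec (.of Ry) ⟶ X)
    (w : Spec.map (CommRingCat.ofHom Ry.subtype) ≫ φ = Y.fromSpecResidueField y ≫ f) :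
    ∃ l : Spec (.of Ry) ⟶ Y, Spec.map (CommRingCat.ofHom Ry.subtype) ≫ l =
      Y.fromSpecResidueField y ∧ l ≫ f = φ := by
  obtain ⟨z, hz⟩ := exists_specializes_range h hd y
  obtain ⟨R', g, hg, hgy⟩ := exists_center h (z := z) (y := y) hz
  -- the residue extension `κ(y) → k`
  obtain ⟨γ, hγ⟩ : ∃ γ : Y.residueField y ⟶ .of (ResidueField R'),
      Spec.map γ ≫ Y.fromSpecResidueField y = Spec.map (CommRingCat.ofHom (residue R')) ≫ g := by
    let c := Spec.map (CommRingCat.ofHom (residue R')) ≫ g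
    have hc : c (closedPoint (ResidueField R')) = y := by
      rw [comp_apply_closedPoint (residue R') g]; exact hgy
    subst hc
    exact ⟨_, Scheme.descResidueField_stalkClosedPointTo_fromSpecResidueField _ Y c⟩
  obtain ⟨Rt, hRy, hloc⟩ := exists_factor_valuationRing (γ.hom.comp Ry.subtype)
  have hcomap : Rt.comap γ.hom = Ry := by
    refine le_antisymm (fun x hx => ?_) fun x hx => hRy ⟨x, hx⟩
    by_cases h0 : x = 0
    · rw [h0]; exact Ry.zero_mem
    rcases Ry.mem_or_inv_mem x with h1 | hi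
    · exact h1
    have hu : IsUnit ((γ.hom.comp Ry.subtype).codRestrict Rt.toSubring hRy ⟨x⁻¹, hi⟩) :=
      IsUnit.of_mul_eq_one (⟨γ x, hx⟩ : Rt.toSubring) (Subtype.ext (by
        change γ x⁻¹ * γ x = 1
        rw [← map_mul, inv_mul_cancel₀ h0, map_one]))
    obtain ⟨x', hx'⟩ := (IsUnit.of_map _ _ hu).exists_right_inv
    have h2 : x⁻¹ * (x' : Y.residueField y) = 1 := congrArg Subtype.val hx'
    rw [← inv_inv x, ← eq_inv_of_mul_eq_one_right h2]
    exact x'.2
  subst hcomap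
  let ρ : Rt.comap γ.hom →+* Rt := (γ.hom.comp (Rt.comap γ.hom).subtype).codRestrict Rt.toSubring fun x => x.2
  have hρ : ∀ x, ((ρ x : Rt) : ResidueField R') = γ.hom x := fun _ => rfl
  let R := compositeValuationSubring R' Rt
  have hRR' : R ≤ R' := by rintro _ ⟨v, -, rfl⟩; exact v.2
  let ι : R →+* R' := R.subtype.codRestrict R'.toSubring fun x => hRR' x.2
  have hι : ∀ x, ((ι x : R') : Z.residueField z) = x := fun _ => rfl
  have hmem : ∀ x : R, residue R' (ι x) ∈ Rt := fun x => by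
    obtain ⟨v, hv, hvx⟩ := x.2
    rwa [show ι x = v from Subtype.ext hvx.symm]
  let σ : R →+* Rt := ((residue R').comp ι).codRestrict Rt.toSubring hmem
  have hσ : ∀ x, ((σ x : Rt) : ResidueField R') = residue R' (ι x) := fun _ => rfl
  have hσs : Function.Surjective σ := fun t => by
    obtain ⟨v, hv⟩ := residue_surjective (t : ResidueField R')
    refine ⟨⟨v, v, by change residue R' v ∈ Rt; rw [hv]; exact t.2, rfl⟩, Subtype.ext ?_⟩
    exact (congrArg (residue R') (Subtype.ext rfl)).trans hv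
  have hsq : CommRingCat.ofHom ρ ≫ CommRingCat.ofHom Rt.subtype =
      CommRingCat.ofHom (Rt.comap γ.hom).subtype ≫ γ := rfl
  have hsub : CommRingCat.ofHom R.subtype = CommRingCat.ofHom ι ≫ CommRingCat.ofHom R'.subtype := rfl
  obtain ⟨φ'', ⟨h1, h2⟩, -⟩ := existsUnique_composite R R' hRR' ι hι Rt σ hσs hσ (g ≫ f)
    (Spec.map (CommRingCat.ofHom ρ) ≫ φ) (by
      rw [← Spec.map_comp_assoc, hsq, Spec.map_comp_assoc, w, reassoc_of% hγ])
  obtain ⟨L, hL1, hL2⟩ := He z R φ'' (by
    rw [hsub, Spec.map_comp, Category.assoc, h1, reassoc_of% hg])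
  have hLg : Spec.map (CommRingCat.ofHom ι) ≫ L = g := by
    let S : ValuativeCommSq f :=
      { R := R', K := Z.residueField z, i₁ := Z.fromSpecResidueField z ≫ h, i₂ := g ≫ f,
        commSq := ⟨by rw [Category.assoc, ← reassoc_of% hg]; rfl⟩ }
    have := IsSeparated.valuativeCriterion f S
    refine congrArg CommSq.LiftStruct.l (Subsingleton.elim
      (⟨Spec.map (CommRingCat.ofHom ι) ≫ L, ?_, ?_⟩ : S.commSq.LiftStruct) ⟨g, ?_, rfl⟩)
    · change Spec.map (CommRingCat.ofHom R'.subtype) ≫ _ = Z.fromSpecResidueField z ≫ h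
      rw [← hL1, hsub, Spec.map_comp, Category.assoc]
    · change _ = g ≫ f
      rw [Category.assoc, hL2, h1]
    · exact hg
  obtain ⟨l, ⟨hl1, hl2⟩, -⟩ := existsUnique_comap_lift (Y.fromSpecResidueField y) γ.hom Rt
    (Spec.map (CommRingCat.ofHom σ) ≫ L) (by
      have : CommRingCat.ofHom σ ≫ CommRingCat.ofHom Rt.subtype =
          CommRingCat.ofHom ι ≫ CommRingCat.ofHom (residue R') := rfl
      rw [← Spec.map_comp_assoc, this, Spec.map_comp_assoc, hLg]
      exact hγ.symm) ρ hρ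
  obtain ⟨u, -, huniq⟩ := existsUnique_comap_lift (Y.fromSpecResidueField y ≫ f) γ.hom Rt
    (Spec.map (CommRingCat.ofHom ρ) ≫ φ) (by
      rw [← Spec.map_comp_assoc, hsq, Spec.map_comp_assoc, w]; rfl) ρ hρ
  refine ⟨l, hl2, (huniq (l ≫ f) ⟨?_, ?_⟩).trans (huniq φ ⟨rfl, w⟩).symm⟩
  · rw [reassoc_of% hl1, hL2, h2]
  · rw [reassoc_of% hl2]

lemma isProper_of_refined (h : Z ⟶ Y) (f : Y ⟶ X) [QuasiCompact h] [QuasiCompact f] [IsSeparated f]
    [LocallyOfFiniteType f] (hd : DenseRange h) (He : RefinedExists h f) : IsProper f := by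
  have : UniversallyClosed f := by
    refine UniversallyClosed.of_valuativeCriterion f fun S => ?_
    let Rs : ValuationSubring S.K := .ofSubring (algebraMap S.R S.K).range fun x => by
      rcases ValuationRing.isInteger_or_isInteger S.R x with ⟨r, hr⟩ | ⟨r, hr⟩
      exacts [.inl ⟨r, hr⟩, .inr ⟨r, hr⟩]
    let e : S.R →+* Rs := (algebraMap S.R S.K).codRestrict Rs.toSubring fun r => ⟨r, rfl⟩
    have he : Function.Bijective e :=
      ⟨fun a b hab => IsFractionRing.injective S.R S.K (congrArg Subtype.val hab),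
        fun ⟨_, r, rfl⟩ => ⟨r, rfl⟩⟩
    have : IsIso (CommRingCat.ofHom e) := (ConcreteCategory.isIso_iff_bijective _).mpr he
    let φs : Spec (.of Rs) ⟶ X := Spec.map (CommRingCat.ofHom e) ≫ S.i₂
    have hes : CommRingCat.ofHom e ≫ CommRingCat.ofHom Rs.subtype =
        CommRingCat.ofHom (algebraMap S.R S.K) := rfl
    have ws : Spec.map (CommRingCat.ofHom Rs.subtype) ≫ φs = S.i₁ ≫ f := by
      rw [S.commSq.w, ← hes, Spec.map_comp, Category.assoc]
    obtain ⟨⟨y, γ⟩, hyγ⟩ := (Scheme.SpecToEquivOfField S.K Y).symm.surjective S.i₁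
    have hyγ' : Spec.map γ ≫ Y.fromSpecResidueField y = S.i₁ := hyγ
    let ρ : Rs.comap γ.hom →+* Rs :=
      (γ.hom.comp (Rs.comap γ.hom).subtype).codRestrict Rs.toSubring fun x => x.2
    have hρ : ∀ x, ((ρ x : Rs) : S.K) = γ.hom x := fun _ => rfl
    obtain ⟨φy, ⟨hφ1, hφ2⟩, -⟩ := existsUnique_comap_lift (Y.fromSpecResidueField y ≫ f) γ.hom Rs φs
      (by rw [ws, ← hyγ', Category.assoc]; rfl) ρ hρ
    obtain ⟨l, hl1, hl2⟩ := exists_lift_of_refined h f hd He y _ φy hφ2
    refine ⟨⟨⟨inv (Spec.map (CommRingCat.ofHom e)) ≫ Spec.map (CommRingCat.ofHom ρ) ≫ l, ?_, ?_⟩⟩⟩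
    · have hsq : CommRingCat.ofHom ρ ≫ CommRingCat.ofHom Rs.subtype =
          CommRingCat.ofHom (Rs.comap γ.hom).subtype ≫ γ := rfl
      rw [← hes, Spec.map_comp, Category.assoc, IsIso.hom_inv_id_assoc, ← Spec.map_comp_assoc,
        hsq, Spec.map_comp_assoc]
      exact (congrArg (Spec.map γ ≫ ·) hl1).trans hyγ'
    · have e3 : (Spec.map (CommRingCat.ofHom ρ) ≫ l) ≫ f = φs :=
        (Category.assoc _ _ _).trans ((congrArg (Spec.map (CommRingCat.ofHom ρ) ≫ ·) hl2).trans hφ1)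
      rw [Category.assoc, e3]
      simp [φs]
  exact { }

end Groth.Agent.SchBasics
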