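import Mathlib.AlgebraicGeometry.Birational.RationalMap

set_option autoImplicit false
universe u
open AlgebraicGeometry CategoryTheory TopologicalSpace Topology

namespace Groth.Agent.SchBasics

lemma partialMap_pullback_compat {S X Y : Scheme.{u}} [X.Over S] [Y.Over S] [IsReduced X]
    [IsSeparated (Y ↘ S)] (a b : X.PartialMap Y) [a.IsOver S] [b.IsOver S] (h : a.equiv b)
    {U : X.Opens} (ha : a.domain ≤ U) (hb : b.domain ≤ U) :
    Limits.pullback.fst (X.homOfLE ha) (X.homOfLE hb) ≫ a.hom =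
      Limits.pullback.snd (X.homOfLE ha) (X.homOfLE hb) ≫ b.hom := by
  refine (cancel_epi (isPullback_opens_inf_le ha hb).isoPullback.hom).mp ?_
  rw [IsPullback.isoPullback_hom_fst_assoc, IsPullback.isoPullback_hom_snd_assoc]
  exact (Scheme.PartialMap.equiv_iff_of_isSeparated (S := S) (f := a) (g := b)).mp h

lemma isOver_of_cover {S X Y : Scheme.{u}} [X.Over S] [Y.Over S] {J : Type u} (D : J → X.Opens)
    (g : ∀ j, (D j : Scheme.{u}) ⟶ Y) (hg : ∀ j, g j ≫ (Y ↘ S) = (D j).ι ≫ (X ↘ S))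
    (G : (↑(⨆ j, D j) : Scheme.{u}) ⟶ Y) (hG : ∀ j, X.homOfLE (le_iSup D j) ≫ G = g j) :
    G ≫ (Y ↘ S) = (⨆ j, D j).ι ≫ (X ↘ S) := by
  refine (Scheme.Opens.iSupOpenCover D).hom_ext _ _ fun j => ?_
  change X.homOfLE (le_iSup D j) ≫ _ = X.homOfLE (le_iSup D j) ≫ _
  rw [← Category.assoc, hG j, hg j, Scheme.homOfLE_ι_assoc]

lemma exists_glue {S X Y : Scheme.{u}} [X.Over S] [Y.Over S] [IsReduced X] [IsSeparated (Y ↘ S)]
    {J : Type u} (g : J → X.PartialMap Y) (hg : ∀ j, (g j).IsOver S)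
    (he : ∀ i j, (g i).equiv (g j)) :
    ∃ G : (↑(⨆ j, (g j).domain) : Scheme.{u}) ⟶ Y,
      ∀ j, X.homOfLE (le_iSup (fun j => (g j).domain) j) ≫ G = (g j).hom :=
  ⟨(Scheme.Opens.iSupOpenCover fun j => (g j).domain).glueMorphisms (fun j => (g j).hom)
    (fun a b => @partialMap_pullback_compat S X Y _ _ _ _ (g a) (g b) (hg a) (hg b) (he a b) _
      (le_iSup (fun j => (g j).domain) a) (le_iSup (fun j => (g j).domain) b)),
   fun j => (Scheme.Opens.iSupOpenCover fun j => (g j).domain).ι_glueMorphisms _ _ j⟩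

end Groth.Agent.SchBasics
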