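import Mathlib.AlgebraicGeometry.AffineScheme

/-! An affine union of two basic opens with coprime equations. -/

universe u

open CategoryTheory AlgebraicGeometry

namespace Groth.Agent.SchBasics

/-- If `D(s) ∪ D(t)` is affine and `s` is a prime not dividing `t`, then `(s, t) = 1`. -/
theorem exists_comb_of_isAffineOpen_sup (R : CommRingCat.{u}) [IsDomain R] (s t : R) (hp : Prime s)
    (ht : t ≠ 0) (hst : ¬ s ∣ t)
    (hA : IsAffineOpen (X := Spec R) (PrimeSpectrum.basicOpen s ⊔ PrimeSpectrum.basicOpen t)) :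
    ∃ c d : R, c * s + d * t = 1 := by
  let U : (Spec R).Opens := PrimeSpectrum.basicOpen s ⊔ PrimeSpectrum.basicOpen t
  let g : R →+* Γ(Spec R, U) := ((Scheme.ΓSpecIso R).inv ≫
    (Spec R).presheaf.map (homOfLE le_top).op).hom
  have hb : ∀ r : R, (Spec R).basicOpen (g r) = U ⊓ PrimeSpectrum.basicOpen r := fun r => by
    simp only [g, CommRingCat.hom_comp, RingHom.comp_apply, Scheme.basicOpen_res,
      basicOpen_eq_of_affine]
  have hspan : Ideal.span ({g s, g t} : Set Γ(Spec R, U)) = ⊤ := by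
    rw [← hA.self_le_iSup_basicOpen_iff]
    change U ≤ _
    refine sup_le ?_ ?_
    · refine le_trans ?_ (le_iSup _ ⟨g s, by simp⟩)
      rw [hb]; exact le_inf le_sup_left le_rfl
    · refine le_trans ?_ (le_iSup _ ⟨g t, by simp⟩)
      rw [hb]; exact le_inf le_sup_right le_rfl
  obtain ⟨a, b, hab⟩ := Ideal.mem_span_pair.mp (hspan ▸ Submodule.mem_top : (1 : Γ(Spec R, U)) ∈ _)
  let Ds : (Spec R).Opens := PrimeSpectrum.basicOpen s
  let Dt : (Spec R).Opens := PrimeSpectrum.basicOpen t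
  let Dst : (Spec R).Opens := PrimeSpectrum.basicOpen (s * t)
  let ρs : Γ(Spec R, U) →+* Γ(Spec R, Ds) := ((Spec R).presheaf.map (homOfLE (le_sup_left : Ds ≤ U)).op).hom
  let ρt : Γ(Spec R, U) →+* Γ(Spec R, Dt) := ((Spec R).presheaf.map (homOfLE (le_sup_right : Dt ≤ U)).op).hom
  have hst0 : s * t ≠ 0 := mul_ne_zero hp.ne_zero ht
  let σ : Γ(Spec R, Ds) →+* Γ(Spec R, Dst) :=
    ((Spec R).presheaf.map (homOfLE (PrimeSpectrum.basicOpen_mul_le_left s t : Dst ≤ Ds)).op).hom
  let τ : Γ(Spec R, Dt) →+* Γ(Spec R, Dst) :=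
    ((Spec R).presheaf.map (homOfLE (PrimeSpectrum.basicOpen_mul_le_right s t : Dst ≤ Dt)).op).hom
  have hστ : ∀ θ, σ (ρs θ) = τ (ρt θ) := fun θ => by
    simp only [σ, τ, ρs, ρt]
    change (((Spec R).presheaf.map _ ≫ (Spec R).presheaf.map _).hom θ) =
      (((Spec R).presheaf.map _ ≫ (Spec R).presheaf.map _).hom θ)
    rw [← Functor.map_comp, ← Functor.map_comp]
    rfl
  have hσ : ∀ x, σ (algebraMap R _ x) = algebraMap R _ x := fun x => by
    simp only [σ, IsAffineOpen.algebraMap_Spec_obj]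
    erw [← CommRingCat.comp_apply, Category.assoc, ← Functor.map_comp]
  have hτ : ∀ x, τ (algebraMap R _ x) = algebraMap R _ x := fun x => by
    simp only [τ, IsAffineOpen.algebraMap_Spec_obj]
    erw [← CommRingCat.comp_apply, Category.assoc, ← Functor.map_comp]
  have hρs : ∀ x, ρs (g x) = algebraMap R _ x := fun x => rfl
  have hρt : ∀ x, ρt (g x) = algebraMap R _ x := fun x => rfl
  have hinj : ∀ r : R, r ≠ 0 → Function.Injective
      (algebraMap R Γ(Spec R, (PrimeSpectrum.basicOpen r : (Spec R).Opens))) := fun r hr =>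
    IsLocalization.injective _ (powers_le_nonZeroDivisors_of_noZeroDivisors hr)
  have hartogs : ∀ θ : Γ(Spec R, U), ∃ c : R, ρs θ = algebraMap R _ c := by
    intro θ
    obtain ⟨⟨x, ⟨_, n, rfl⟩⟩, hx⟩ := IsLocalization.surj (Submonoid.powers s) (ρs θ)
    obtain ⟨⟨y, ⟨_, m, rfl⟩⟩, hy⟩ := IsLocalization.surj (Submonoid.powers t) (ρt θ)
    have e : x * t ^ m = y * s ^ n := by
      apply (show Function.Injective (algebraMap R Γ(Spec R, Dst)) from hinj (s * t) hst0)
      have h1 := congrArg σ hx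
      have h2 := congrArg τ hy
      simp only [map_mul, hσ, hτ, hστ, map_pow] at h1 h2 ⊢
      rw [← h1, ← h2]; ring
    have hndvd : ¬ s ∣ t ^ m := fun h => hst (hp.dvd_of_dvd_pow h)
    obtain ⟨c, rfl⟩ : s ^ n ∣ x := hp.pow_dvd_of_dvd_mul_right n hndvd ⟨y, by rw [e]; ring⟩
    refine ⟨c, (IsLocalization.map_units _ (⟨s ^ n, n, rfl⟩ : Submonoid.powers s)).mul_left_injective ?_⟩
    simp only [map_mul] at hx ⊢
    rw [hx]; ring
  obtain ⟨c, hc⟩ := hartogs a
  obtain ⟨d, hd⟩ := hartogs b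
  have h1 : c * s + d * t = 1 := by
    apply (show Function.Injective (algebraMap R Γ(Spec R, Ds)) from hinj s hp.ne_zero)
    have := congrArg ρs hab
    simp only [map_add, map_mul, map_one, hc, hd, hρs] at this ⊢
    exact this
  exact ⟨c, d, h1⟩

end Groth.Agent.SchBasics
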