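import Groth.Agent.SchBasics.FreeKaehlerGen
import Mathlib.RingTheory.Nilpotent.GeometricallyReduced

/-! Smoothness at generic points of algebras of finite type over a field. -/

set_option autoImplicit false
universe u

open TensorProduct KaehlerDifferential

namespace Groth.Agent.SchBasics

variable {k A : Type u} [Field k] [CommRing A] [Algebra k A] [Algebra.FiniteType k A]

theorem isField_of_minimal_of_isSmoothAt (p : Ideal A) [p.IsPrime] (hp : p ∈ minimalPrimes A)
    [Algebra.IsSmoothAt k p] : IsField (Localization.AtPrime p) := by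
  have := CAlg5.regular_of_isSmoothAt k A p
  have := CAlg1.isDomain_regular (Localization.AtPrime p)
  have : IsNoetherianRing A := Algebra.FiniteType.isNoetherianRing k A
  have h0 : Ring.KrullDimLE 0 (Localization.AtPrime p) := by
    refine Ring.krullDimLE_iff.mpr ?_
    rw [IsLocalization.AtPrime.ringKrullDim_eq_height p]
    simp [Ideal.height_eq_zero_iff.mpr hp]
  exact Ring.KrullDimLE.isField_of_isReduced (R := Localization.AtPrime p)

theorem isSmoothAt_minimal_iff (p : Ideal A) [p.IsPrime] (hp : p ∈ minimalPrimes A) :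
    Algebra.IsSmoothAt k p ↔ Algebra.IsGeometricallyReduced k (Localization.AtPrime p) := by
  constructor
  · intro h
    let F := (isField_of_minimal_of_isSmoothAt (k := k) p hp).toField
    exact (Sep12.formallySmooth_iff_isGeometricallyReduced (k := k) (K := Localization.AtPrime p)).mp h
  · intro h
    have : IsNoetherianRing A := Algebra.FiniteType.isNoetherianRing k A
    have : IsReduced (Localization.AtPrime p) :=
      Algebra.isReduced_of_isGeometricallyReduced k
    have : Ring.KrullDimLE 0 (Localization.AtPrime p) := by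
      refine Ring.krullDimLE_iff.mpr ?_
      rw [IsLocalization.AtPrime.ringKrullDim_eq_height p]
      simp [Ideal.height_eq_zero_iff.mpr hp]
    let F := (Ring.KrullDimLE.isField_of_isReduced (R := Localization.AtPrime p)).toField
    exact (Sep12.formallySmooth_iff_isGeometricallyReduced (k := k) (K := Localization.AtPrime p)).mpr h

theorem exists_dense_open_smooth_iff :
    (∃ U : TopologicalSpace.Opens (PrimeSpectrum A), Dense (U : Set (PrimeSpectrum A)) ∧
        ∀ p ∈ U, Algebra.IsSmoothAt k p.asIdeal) ↔
      ∀ (p : Ideal A) [p.IsPrime], p ∈ minimalPrimes A → Algebra.IsSmoothAt k p := by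
  have : IsNoetherianRing A := Algebra.FiniteType.isNoetherianRing k A
  constructor
  · rintro ⟨U, hU, hs⟩ p _ hp
    suffices h : (⟨p, ‹_›⟩ : PrimeSpectrum A) ∈ U from hs _ h
    set T : Set (Ideal A) := minimalPrimes A \ {p} with hT
    have hfin : T.Finite := (minimalPrimes.finite_of_isNoetherianRing A).subset Set.sdiff_subset
    let W : Set (PrimeSpectrum A) := (⋃ q ∈ T, PrimeSpectrum.zeroLocus (q : Set A))ᶜ
    have hW : IsOpen W :=
      (hfin.isClosed_biUnion fun q _ => PrimeSpectrum.isClosed_zeroLocus _).isOpen_compl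
    have hpW : (⟨p, ‹_›⟩ : PrimeSpectrum A) ∈ W := by
      simp only [W, Set.mem_compl_iff, Set.mem_iUnion, PrimeSpectrum.mem_zeroLocus, not_exists]
      exact fun q hq hle => hq.2 (le_antisymm hle (hp.2 ⟨Ideal.minimalPrimes_isPrime hq.1, bot_le⟩ hle))
    obtain ⟨r, hrW, hrU⟩ := hU.inter_open_nonempty W hW ⟨_, hpW⟩
    obtain ⟨q, hq, hqr⟩ := Ideal.exists_minimalPrimes_le (I := (⊥ : Ideal A)) (J := r.asIdeal) bot_le
    have hqp : q = p := by
      by_contra hne
      refine hrW (Set.mem_iUnion.mpr ⟨q, Set.mem_iUnion.mpr ⟨⟨hq, hne⟩, ?_⟩⟩)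
      exact hqr
    exact ((PrimeSpectrum.le_iff_specializes ⟨p, ‹_›⟩ r).mp (hqp ▸ hqr)).mem_open U.2 hrU
  · intro h
    refine ⟨⟨Algebra.smoothLocus k A, ?_⟩, ?_, fun p hp => hp⟩
    · have : Algebra.FinitePresentation k A := Algebra.FinitePresentation.of_finiteType.mp ‹_›
      exact Algebra.isOpen_smoothLocus
    · refine dense_iff_inter_open.mpr fun V hV ⟨r, hr⟩ => ?_
      obtain ⟨q, hq, hqr⟩ := Ideal.exists_minimalPrimes_le (I := (⊥ : Ideal A)) (J := r.asIdeal) bot_le
      have := Ideal.minimalPrimes_isPrime hq
      exact ⟨⟨q, this⟩, ((PrimeSpectrum.le_iff_specializes ⟨q, this⟩ r).mp hqr).mem_open hV hr, h q hq⟩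

/-- Smoothness over a field from projective differentials and smooth generic points. -/
theorem isSmoothAt_of_free_kaehler (q : Ideal A) [q.IsPrime]
    [Module.Free (Localization.AtPrime q) Ω[Localization.AtPrime q⁄k]]
    (h : ∀ (p : Ideal A) [p.IsPrime], p ∈ minimalPrimes A → Algebra.IsSmoothAt k p) :
    Algebra.IsSmoothAt k q := by
  obtain ⟨p, hp, hpq⟩ := Ideal.exists_minimalPrimes_le (I := (⊥ : Ideal A)) (J := q) bot_le
  have := Ideal.minimalPrimes_isPrime hp
  have := h p hp
  have hd : Disjoint (q.primeCompl : Set A) p := Set.disjoint_left.mpr fun a ha hap => ha (hpq hap)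
  let R := Localization.AtPrime q
  set P₀ : Ideal R := p.map (algebraMap A R) with hP₀
  have : P₀.IsPrime := IsLocalization.isPrime_of_isPrime_disjoint q.primeCompl R p ‹_› hd
  have hPp : P₀.under A = p := IsLocalization.under_map_of_isPrime_disjoint q.primeCompl R ‹_› hd
  have : IsLocalization.AtPrime (Localization.AtPrime P₀) p := by
    convert IsLocalization.isLocalization_isLocalization_atPrime_isLocalization q.primeCompl
      (Localization.AtPrime P₀) P₀
    exact hPp.symm
  let e : Localization.AtPrime p ≃ₐ[A] Localization.AtPrime P₀ :=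
    IsLocalization.algEquiv p.primeCompl _ _
  have hF : IsField (Localization.AtPrime P₀) :=
    e.symm.toRingEquiv.toMulEquiv.isField (isField_of_minimal_of_isSmoothAt (k := k) p hp)
  have : Algebra.FormallySmooth k (Localization.AtPrime P₀) :=
    Algebra.FormallySmooth.of_equiv (e.restrictScalars k)
  obtain ⟨n, f₀, hf₀⟩ := Algebra.FiniteType.iff_quotient_mvPolynomial''.mp
    (inferInstance : Algebra.FiniteType k A)
  let Q := q.comap f₀.toRingHom
  let P' := Localization.AtPrime Q
  let fP : P' →+* Localization.AtPrime q := Localization.localRingHom Q q f₀.toRingHom rfl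
  let _ : Algebra P' (Localization.AtPrime q) := fP.toAlgebra
  have : IsScalarTower k P' (Localization.AtPrime q) := IsScalarTower.of_algebraMap_eq fun r => by
    rw [RingHom.algebraMap_toAlgebra, IsScalarTower.algebraMap_apply k (MvPolynomial (Fin n) k) P',
      Localization.localRingHom_to_map]
    simp [← IsScalarTower.algebraMap_apply]
  have : IsRegularLocalRing P' := by
    have : IsRegularRing (MvPolynomial (Fin n) k) := inferInstance
    exact IsRegularRing.isRegularLocalRing_localization Q
  have : Algebra.FormallyEtale (MvPolynomial (Fin n) k) P' := .of_isLocalization Q.primeCompl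
  have : Algebra.FormallySmooth k P' := .comp _ (MvPolynomial (Fin n) k) _
  let eΩ := KaehlerDifferential.tensorKaehlerEquivOfFormallyEtale k (MvPolynomial (Fin n) k) P'
  have : Module.Free P' Ω[P'⁄k] := .of_equiv eΩ
  have : Module.Finite P' Ω[P'⁄k] := .of_surjective eΩ.toLinearMap eΩ.surjective
  exact formallySmooth_of_free_kaehler_of_generic (P := P')
    (RingHom.surjective_localRingHom_of_surjective f₀.toRingHom hf₀ q) P₀ hF

end Groth.Agent.SchBasics
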