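import Mathlib
import Groth.Agent.S9415
import Groth.Agent.S9442
import Groth.Agent.S2789
import Groth.Agent.S2141
import Groth.Agent.Sep12.Index
import Groth.Agent.Var76.KaehlerGen
import Groth.Agent.EGA4Alg4.RegParam

/-! Adapted systems of parameters of algebras of finite type over a field. -/

set_option autoImplicit false
universe u

open IsLocalRing TensorProduct KaehlerDifferential

namespace Groth.Agent.SchBasics

/-- A finitely generated field extension with at most `trdeg` many differentials is separable. -/
theorem isGeometricallyReduced_iff_finrank_le {k K : Type u} [Field k] [Field K] [Algebra k K]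
    [Algebra.EssFiniteType k K] :
    Algebra.IsGeometricallyReduced k K ↔
      Module.finrank K Ω[K⁄k] ≤ Cardinal.toNat (Algebra.trdeg k K) := by
  obtain ⟨h1, h2, h3⟩ := Sep12.cartier (k := k) (K := K)
  rw [← Sep12.formallySmooth_iff_isGeometricallyReduced, Algebra.formallySmooth_iff]
  constructor
  · rintro ⟨-, _⟩
    rw [Module.finrank_zero_of_subsingleton (M := Algebra.H1Cotangent k K)] at h3
    omega
  · intro h
    have h0 : Module.finrank K (Algebra.H1Cotangent k K) = 0 := by omega
    exact ⟨Module.Projective.of_free, Module.finrank_zero_iff.mp h0⟩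

theorem finrank_kaehler_eq_of_isGeometricallyReduced {k K : Type u} [Field k] [Field K] [Algebra k K]
    [Algebra.EssFiniteType k K] [Algebra.IsGeometricallyReduced k K] :
    Module.finrank K Ω[K⁄k] = Cardinal.toNat (Algebra.trdeg k K) := by
  obtain ⟨h1, h2, h3⟩ := Sep12.cartier (k := k) (K := K)
  have := (isGeometricallyReduced_iff_finrank_le (k := k) (K := K)).mp ‹_›
  omega

variable {k A : Type u} [Field k] [CommRing A] [Algebra k A] [Algebra.FiniteType k A]
  (p : Ideal A) [p.IsPrime]

theorem essFiniteType_residueField : Algebra.EssFiniteType k p.ResidueField := by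
  have : Algebra.EssFiniteType A (Localization.AtPrime p) :=
    Algebra.EssFiniteType.of_isLocalization _ p.primeCompl
  have : Algebra.EssFiniteType k (Localization.AtPrime p) := .comp k A _
  exact .comp k (Localization.AtPrime p) _

/-- The residue transcendence degree in terms of the local dimension. -/
theorem trdeg_residueField_eq {n r : ℕ}
    (hn : FlatMor.localDim (PrimeSpectrum A) ⟨p, inferInstance⟩ = (n : WithBot ℕ∞))
    (hr : ringKrullDim (Localization.AtPrime p) = (r : WithBot ℕ∞)) :
    n = r + Cardinal.toNat (Algebra.trdeg k p.ResidueField) := by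
  have := essFiniteType_residueField (k := k) p
  have hlt : Algebra.trdeg k p.ResidueField < Cardinal.aleph0 :=
    (Var76.KaehlerGen.trdeg_le_finrank k p.ResidueField).trans_lt Cardinal.natCast_lt_aleph0
  have h := S2141.result (k := k) p _ (Cardinal.cast_toNat_of_lt_aleph0 hlt).symm
  rw [hn, hr] at h
  exact_mod_cast h

variable {r t : ℕ} (hr : ringKrullDim (Localization.AtPrime p) = (r : WithBot ℕ∞))
  (ht : Cardinal.toNat (Algebra.trdeg k p.ResidueField) = t)
  (g₁ : Fin r → Localization.AtPrime p) (g₂ : Fin t → Localization.AtPrime p)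

/-- The two conditions on a system of parameters adapted to the residue field. -/
def Adapted : Prop :=
  Ideal.span (Set.range g₁) = maximalIdeal (Localization.AtPrime p) ∧
    Submodule.span p.ResidueField (Set.range fun i =>
      D k p.ResidueField (residue (Localization.AtPrime p) (g₂ i))) = ⊤

include hr ht in
theorem regular_and_separable_of_adapted (h : Adapted (k := k) p g₁ g₂) :
    IsRegularLocalRing (Localization.AtPrime p) ∧ Algebra.IsGeometricallyReduced k p.ResidueField := by
  have : IsNoetherianRing A := Algebra.FiniteType.isNoetherianRing k A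
  have : IsNoetherianRing (Localization.AtPrime p) :=
    IsLocalization.isNoetherianRing p.primeCompl _ inferInstance
  have := essFiniteType_residueField (k := k) p
  constructor
  · refine IsRegularLocalRing.of_spanFinrank_maximalIdeal_le _ ?_
    rw [hr, ← h.1]
    exact_mod_cast (Submodule.spanFinrank_span_le_ncard_of_finite (Set.finite_range g₁)).trans
      (by rw [← Set.image_univ]; exact (Set.ncard_image_le Set.finite_univ).trans (by simp))
  · rw [isGeometricallyReduced_iff_finrank_le, ht]
    exact Var76.KaehlerGen.finrank_le_of_span _ h.2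

include hr ht in
theorem exists_adapted (hreg : IsRegularLocalRing (Localization.AtPrime p))
    [Algebra.IsGeometricallyReduced k p.ResidueField] :
    ∃ (f₁ : Fin r → Localization.AtPrime p) (f₂ : Fin t → Localization.AtPrime p),
      Adapted (k := k) p f₁ f₂ := by
  classical
  have := essFiniteType_residueField (k := k) p
  obtain ⟨s, hcard, hspan⟩ := Submodule.FG.exists_span_finset_card_eq_spanFinrank
    (maximalIdeal (Localization.AtPrime p)).fg_of_isNoetherianRing
  have hcard' : s.card = r := by
    rw [hcard]
    have h := IsRegularLocalRing.spanFinrank_maximalIdeal (R := Localization.AtPrime p)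
    rw [hr] at h
    exact_mod_cast h
  have hfin : Module.finrank p.ResidueField
      (Submodule.span p.ResidueField (Set.range (D k p.ResidueField))) = t := by
    rw [span_range_derivation, finrank_top, finrank_kaehler_eq_of_isGeometricallyReduced, ht]
  obtain ⟨f, hf, hfspan, -⟩ :=
    Submodule.exists_fun_fin_finrank_span_eq p.ResidueField (Set.range (D k p.ResidueField))
  have hpre : ∀ i, ∃ x : Localization.AtPrime p,
      D k p.ResidueField (residue (Localization.AtPrime p) x) = f i := fun i => by
    obtain ⟨y, hy⟩ := hf i
    obtain ⟨x, rfl⟩ := residue_surjective y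
    exact ⟨x, hy⟩
  choose g hg using hpre
  refine ⟨fun i => ((s.equivFinOfCardEq hcard').symm i : Localization.AtPrime p),
    fun i => g (Fin.cast hfin.symm i), ?_, ?_⟩
  · have : Set.range (fun i : Fin r => ((s.equivFinOfCardEq hcard').symm i : Localization.AtPrime p))
        = (s : Set (Localization.AtPrime p)) := by
      show Set.range (Subtype.val ∘ (s.equivFinOfCardEq hcard').symm) = _
      rw [(s.equivFinOfCardEq hcard').symm.surjective.range_comp, Subtype.range_coe_subtype]; rfl
    rw [this]
    exact hspan
  · have : Set.range (fun i : Fin t => D k p.ResidueField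
        (residue (Localization.AtPrime p) (g (Fin.cast hfin.symm i)))) = Set.range f := by
      simp only [hg]
      exact (finCongr hfin.symm).surjective.range_comp f
    rw [this, hfspan, span_range_derivation]

include hr ht in
/-- Adapted parameters are the same as a basis of differentials of a smooth local ring. -/
theorem adapted_iff_smooth_and_bijective
    (hg : ∀ i, g₁ i ∈ maximalIdeal (Localization.AtPrime p)) :
    Adapted (k := k) p g₁ g₂ ↔ Algebra.IsSmoothAt k p ∧
      Function.Bijective (Fintype.linearCombination (Localization.AtPrime p)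
        fun i => D k (Localization.AtPrime p) (Sum.elim g₁ g₂ i)) := by
  classical
  let R := Localization.AtPrime p
  let κ := p.ResidueField
  have : IsNoetherianRing A := Algebra.FiniteType.isNoetherianRing k A
  have : IsNoetherianRing R := IsLocalization.isNoetherianRing p.primeCompl _ inferInstance
  have := essFiniteType_residueField (k := k) p
  have : Algebra.EssFiniteType A R := Algebra.EssFiniteType.of_isLocalization _ p.primeCompl
  have : Algebra.EssFiniteType k R := .comp k A _
  let v : Fin r ⊕ Fin t → κ ⊗[R] Ω[R⁄k] := fun i => (1 : κ) ⊗ₜ D k R (Sum.elim g₁ g₂ i)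
  let l := Fintype.linearCombination R fun i => D k R (Sum.elim g₁ g₂ i)
  let π := mapBaseChange k R κ
  have hπ : ∀ a : R, π ((1 : κ) ⊗ₜ D k R a) = D k κ (residue R a) := fun a => by
    rw [mapBaseChange_tmul, one_smul, map_D]; rfl
  have hres : ∀ i, residue R (g₁ i) = 0 := fun i => Ideal.Quotient.eq_zero_iff_mem.mpr (hg i)
  have hker : RingHom.ker (algebraMap R κ) = maximalIdeal R := Ideal.mk_ker
  have hπ1 : ∀ i, π (v (Sum.inl i)) = 0 := fun i => (hπ (g₁ i)).trans (by rw [hres, map_zero])
  have hπ2 : ∀ j, π (v (Sum.inr j)) = D k κ (residue R (g₂ j)) := fun j => hπ (g₂ j)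
  have hπsum : ∀ c : Fin r ⊕ Fin t → κ,
      π (∑ i, c i • v i) = ∑ j, c (Sum.inr j) • D k κ (residue R (g₂ j)) := by
    intro c
    rw [Fintype.sum_sum_type, map_add, map_sum, map_sum]
    have z1 : ∑ i, π (c (Sum.inl i) • v (Sum.inl i)) = 0 :=
      Finset.sum_eq_zero fun i _ => by rw [π.map_smul, hπ1, smul_zero]
    rw [z1, zero_add]
    exact Finset.sum_congr rfl fun j _ => by rw [π.map_smul, hπ2]
  have hex := exact_kerCotangentToTensor_mapBaseChange k R κ (residue_surjective (R := R))
  have hlt : ∀ c : Fin r ⊕ Fin t → R, l.lTensor κ ((1 : κ) ⊗ₜ[R] c) = ∑ i, residue R (c i) • v i := by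
    intro c
    rw [LinearMap.lTensor_tmul]
    simp only [l, Fintype.linearCombination_apply, TensorProduct.tmul_sum, TensorProduct.tmul_smul, v]
    exact Finset.sum_congr rfl fun i _ => (algebraMap_smul κ (c i) _).symm
  have hsum : ∀ (a : Fin r → R) (h : ∑ i, a i * g₁ i ∈ RingHom.ker (algebraMap R κ)),
      kerCotangentToTensor k R κ ((RingHom.ker (algebraMap R κ)).toCotangent ⟨_, h⟩) =
        ∑ i, residue R (a i) • v (Sum.inl i) := by
    intro a h
    rw [kerCotangentToTensor_toCotangent]
    simp only [map_sum, TensorProduct.tmul_sum, v, Sum.elim_inl]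
    refine Finset.sum_congr rfl fun i _ => ?_
    rw [Derivation.leibniz, TensorProduct.tmul_add, TensorProduct.tmul_smul, TensorProduct.tmul_smul,
      ← algebraMap_smul κ (g₁ i), show algebraMap R κ (g₁ i) = 0 from hres i, zero_smul, add_zero,
      ← algebraMap_smul κ (a i)]
    rfl
  constructor
  · intro h
    obtain ⟨hreg, hsep⟩ := regular_and_separable_of_adapted p hr ht g₁ g₂ h
    have hsm : Algebra.IsSmoothAt k p := (S9442.result k A p).mpr hreg
    have : Algebra.FormallySmooth k R := hsm
    have : Module.Free R Ω[R⁄k] := Module.free_of_flat_of_isLocalRing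
    have : Algebra.FormallySmooth k κ := Sep12.formallySmooth_iff_isGeometricallyReduced.mpr hsep
    have hinj := S9415.injective_of_formallySmooth (k := k) (P := R) (S := κ) residue_surjective
    refine ⟨hsm, ?_⟩
    have hvli : LinearIndependent κ v := by
      rw [Fintype.linearIndependent_iff]
      intro c hc
      have hπc : ∑ j, c (Sum.inr j) • D k κ (residue R (g₂ j)) = 0 := by
        rw [← hπsum c, hc, map_zero]
      have hli₂ : LinearIndependent κ fun j => D k κ (residue R (g₂ j)) := by
        refine linearIndependent_of_top_le_span_of_card_eq_finrank h.2.ge ?_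
        rw [finrank_kaehler_eq_of_isGeometricallyReduced, Fintype.card_fin]; exact ht.symm
      have hc2 := Fintype.linearIndependent_iff.mp hli₂ _ hπc
      choose a ha using fun i => residue_surjective (R := R) (c (Sum.inl i))
      have hmem : ∑ i, a i * g₁ i ∈ RingHom.ker (algebraMap R κ) := by
        rw [hker]; exact Ideal.sum_mem _ fun i _ => Ideal.mul_mem_left _ _ (hg i)
      have h0 : kerCotangentToTensor k R κ ((RingHom.ker (algebraMap R κ)).toCotangent ⟨_, hmem⟩) = 0 := by
        rw [hsum a hmem, ← hc, Fintype.sum_sum_type]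
        simp [ha, hc2]
      have hsq : ∑ i, a i * g₁ i ∈ RingHom.ker (algebraMap R κ) ^ 2 :=
        ((RingHom.ker (algebraMap R κ)).toCotangent_eq_zero _).mp (hinj (h0.trans (map_zero _).symm))
      rw [hker] at hsq
      have hli₁ : LinearIndependent (ResidueField R)
          (fun i => (maximalIdeal R).toCotangent ⟨g₁ i, hg i⟩) := by
        refine linearIndependent_of_top_le_span_of_card_eq_finrank ?_ ?_
        · have := (EGA4Alg4.span_eq_maximalIdeal_iff (A := R)
            (Set.range fun i => (⟨g₁ i, hg i⟩ : maximalIdeal R))).mp (by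
              rw [← Set.range_comp]; exact h.1)
          rw [← Set.range_comp] at this
          exact this.ge
        · rw [Fintype.card_fin]
          refine Eq.trans ?_ (IsLocalRing.spanFinrank_maximalIdeal_eq_finrank_cotangentSpace R)
          have h' := IsRegularLocalRing.spanFinrank_maximalIdeal (R := R)
          rw [hr] at h'
          exact_mod_cast h'.symm
      rintro (i | j)
      · rw [← ha i]
        have hmem' : ∑ i, a i * g₁ i ∈ maximalIdeal R := hker ▸ hmem
        have hz : ∑ i, residue R (a i) • (maximalIdeal R).toCotangent ⟨g₁ i, hg i⟩ = 0 := by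
          rw [← ((maximalIdeal R).toCotangent_eq_zero ⟨_, hmem'⟩).mpr hsq]
          have : (⟨_, hmem'⟩ : maximalIdeal R) = ∑ i, a i • ⟨g₁ i, hg i⟩ := Subtype.ext (by simp)
          rw [this, map_sum]
          exact Finset.sum_congr rfl fun i _ => by rw [map_smul]; rfl
        exact Fintype.linearIndependent_iff.mp hli₁ _ hz i
      · exact hc2 j
    have hvspan : ⊤ ≤ Submodule.span κ (Set.range v) := by
      rintro z -
      obtain ⟨c, hc⟩ := (Submodule.mem_span_range_iff_exists_fun _).mp
        (h.2.ge (Submodule.mem_top : π z ∈ ⊤))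
      have hz0 : π (z - ∑ j, c j • v (Sum.inr j)) = 0 := by
        rw [map_sub, ← hc, map_sum, sub_eq_zero]
        exact Finset.sum_congr rfl fun j _ => by rw [π.map_smul, hπ2]
      obtain ⟨w, hw⟩ := (hex _).mp hz0
      obtain ⟨⟨a, ha⟩, rfl⟩ := Ideal.toCotangent_surjective _ w
      obtain ⟨b, hb⟩ := Ideal.mem_span_range_iff_exists_fun.mp
        (h.1.ge (hker.le ha) : a ∈ Ideal.span (Set.range g₁))
      subst hb
      rw [hsum b ha] at hw
      rw [← sub_add_cancel z (∑ j, c j • v (Sum.inr j)), ← hw]
      exact Submodule.add_mem _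
        (Submodule.sum_mem _ fun i _ => Submodule.smul_mem _ _ (Submodule.subset_span ⟨_, rfl⟩))
        (Submodule.sum_mem _ fun i _ => Submodule.smul_mem _ _ (Submodule.subset_span ⟨_, rfl⟩))
    constructor
    · obtain ⟨l', hl'⟩ := (IsLocalRing.split_injective_iff_lTensor_residueField_injective l).mpr (by
        rw [injective_iff_map_eq_zero]
        intro z hz
        obtain ⟨c, rfl⟩ := TensorProduct.mk_surjective R (Fin r ⊕ Fin t → R) κ residue_surjective z
        rw [TensorProduct.mk_apply, hlt] at hz
        have hc := Fintype.linearIndependent_iff.mp hvli _ hz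
        rw [TensorProduct.mk_apply, pi_eq_sum_univ c, TensorProduct.tmul_sum]
        exact Finset.sum_eq_zero fun i _ => by
          rw [TensorProduct.tmul_smul, TensorProduct.smul_tmul', Algebra.smul_def,
            show algebraMap R κ (c i) = 0 from hc i, zero_mul, TensorProduct.zero_tmul])
      exact Function.LeftInverse.injective fun c => LinearMap.congr_fun hl' c
    · rw [← LinearMap.range_eq_top, Fintype.range_linearCombination]
      exact IsLocalRing.span_eq_top_of_tmul_eq_basis _ (Module.Basis.mk hvli hvspan)
        (fun i => (Module.Basis.mk_apply hvli hvspan i).symm)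
  · rintro ⟨hsm, hbij⟩
    have hreg : IsRegularLocalRing R := CAlg5.regular_of_isSmoothAt k A p
    have hvspan : ⊤ ≤ Submodule.span κ (Set.range v) := by
      rintro z -
      obtain ⟨x, rfl⟩ := TensorProduct.mk_surjective R Ω[R⁄k] κ residue_surjective z
      obtain ⟨c, rfl⟩ := hbij.2 x
      rw [TensorProduct.mk_apply, show (1 : κ) ⊗ₜ[R] Fintype.linearCombination R
        (fun i => D k R (Sum.elim g₁ g₂ i)) c = ∑ i, residue R (c i) • v i from hlt c]
      exact Submodule.sum_mem _ fun i _ => Submodule.smul_mem _ _ (Submodule.subset_span ⟨_, rfl⟩)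
    have hvli : LinearIndependent κ v := by
      rw [Fintype.linearIndependent_iff]
      intro c hc i
      let e := LinearEquiv.ofBijective l hbij
      choose a ha using fun i => residue_surjective (R := R) (c i)
      simp only [← ha] at hc ⊢
      rw [← hlt] at hc
      have := congrArg (e.symm.toLinearMap.lTensor κ) hc
      rw [map_zero, LinearMap.lTensor_tmul, LinearMap.lTensor_tmul] at this
      rw [show e.symm.toLinearMap (l a) = a from e.symm_apply_apply a] at this
      have h2 := congrArg ((LinearMap.proj i : (Fin r ⊕ Fin t → R) →ₗ[R] R).lTensor κ) this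
      rw [map_zero, LinearMap.lTensor_tmul] at h2
      have h3 := congrArg (TensorProduct.rid R κ) h2
      show algebraMap R κ (a i) = 0
      simpa [Algebra.smul_def] using h3
    have hspan₂ : Submodule.span κ (Set.range fun j => D k κ (residue R (g₂ j))) = ⊤ := by
      rw [eq_top_iff]
      rintro y -
      obtain ⟨z, rfl⟩ := mapBaseChange_surjective k R κ residue_surjective y
      obtain ⟨c, rfl⟩ := (Submodule.mem_span_range_iff_exists_fun _).mp (hvspan (Submodule.mem_top : z ∈ ⊤))
      rw [map_sum, Fintype.sum_sum_type]
      refine Submodule.add_mem _ ?_ ?_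
      · refine Submodule.sum_mem _ fun i _ => ?_
        rw [map_smul]
        refine Submodule.smul_mem _ _ ?_
        show π ((1 : κ) ⊗ₜ D k R (g₁ i)) ∈ _
        rw [hπ, hres, map_zero]
        exact Submodule.zero_mem _
      · refine Submodule.sum_mem _ fun j _ => ?_
        rw [map_smul]
        refine Submodule.smul_mem _ _ (Submodule.subset_span ⟨j, ?_⟩)
        exact (hπ _).symm
    refine ⟨?_, hspan₂⟩
    have hsep : Algebra.IsGeometricallyReduced k κ := by
      rw [isGeometricallyReduced_iff_finrank_le, ht]
      exact Var76.KaehlerGen.finrank_le_of_span _ hspan₂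
    have : Algebra.FormallySmooth k κ := Sep12.formallySmooth_iff_isGeometricallyReduced.mpr hsep
    have hinj := S9415.injective_of_formallySmooth (k := k) (P := R) (S := κ) residue_surjective
    have hli₂ : LinearIndependent κ fun j => D k κ (residue R (g₂ j)) := by
      refine linearIndependent_of_top_le_span_of_card_eq_finrank hspan₂.ge ?_
      rw [finrank_kaehler_eq_of_isGeometricallyReduced, Fintype.card_fin]; exact ht.symm
    refine le_antisymm (Ideal.span_le.mpr (by rintro _ ⟨i, rfl⟩; exact hg i)) ?_
    refine Submodule.le_of_le_smul_of_le_jacobson_bot (IsNoetherian.noetherian (maximalIdeal R))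
      (maximalIdeal_le_jacobson _) ?_
    intro x hx
    obtain ⟨c, hc⟩ := (Submodule.mem_span_range_iff_exists_fun _).mp
      (hvspan (Submodule.mem_top : (1 : κ) ⊗ₜ[R] D k R x ∈ ⊤))
    have hπ0 : ∑ j, c (Sum.inr j) • D k κ (residue R (g₂ j)) = 0 := by
      have := congrArg π hc
      rw [hπsum, hπ, show residue R x = 0 from Ideal.Quotient.eq_zero_iff_mem.mpr hx, map_zero] at this
      exact this
    have hc2 := Fintype.linearIndependent_iff.mp hli₂ _ hπ0
    choose a ha using fun i => residue_surjective (R := R) (c (Sum.inl i))
    have hmem : x - ∑ i, a i * g₁ i ∈ RingHom.ker (algebraMap R κ) := by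
      rw [hker]; exact Ideal.sub_mem _ hx (Ideal.sum_mem _ fun i _ => Ideal.mul_mem_left _ _ (hg i))
    have h0 : kerCotangentToTensor k R κ ((RingHom.ker (algebraMap R κ)).toCotangent ⟨_, hmem⟩) = 0 := by
      rw [kerCotangentToTensor_toCotangent, map_sub, TensorProduct.tmul_sub, sub_eq_zero, ← hc]
      have hm : ∑ i, a i * g₁ i ∈ RingHom.ker (algebraMap R κ) := by
        rw [hker]; exact Ideal.sum_mem _ fun i _ => Ideal.mul_mem_left _ _ (hg i)
      refine Eq.trans ?_ ((kerCotangentToTensor_toCotangent k R κ ⟨_, hm⟩).symm.trans (hsum a hm)).symm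
      rw [Fintype.sum_sum_type]
      simp [ha, hc2]
    have hsq : x - ∑ i, a i * g₁ i ∈ RingHom.ker (algebraMap R κ) ^ 2 :=
      ((RingHom.ker (algebraMap R κ)).toCotangent_eq_zero _).mp (hinj (h0.trans (map_zero _).symm))
    rw [hker] at hsq
    rw [← sub_add_cancel x (∑ i, a i * g₁ i), add_comm]
    refine Submodule.add_mem_sup (Ideal.sum_mem _ fun i _ => Ideal.mul_mem_left _ _ (Ideal.subset_span ⟨i, rfl⟩)) ?_
    rwa [smul_eq_mul, ← pow_two]

/-- Etaleness over affine space in terms of differentials. -/
theorem isEtaleAt_mvPolynomial_iff {n : ℕ} [Algebra (MvPolynomial (Fin n) k) A]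
    [IsScalarTower k (MvPolynomial (Fin n) k) A] :
    Algebra.IsEtaleAt (MvPolynomial (Fin n) k) p ↔ Algebra.IsSmoothAt k p ∧
      Function.Bijective (Fintype.linearCombination (Localization.AtPrime p) fun i : Fin n =>
        D k (Localization.AtPrime p) (algebraMap A (Localization.AtPrime p)
          (algebraMap (MvPolynomial (Fin n) k) A (MvPolynomial.X i)))) := by
  classical
  let B := MvPolynomial (Fin n) k
  let R := Localization.AtPrime p
  have : Algebra.FinitePresentation k A := Algebra.FinitePresentation.of_finiteType.mp ‹_›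
  have h := S2789.result k B A p
  have hs : Algebra.IsEtaleAt B p → Algebra.IsSmoothAt k p := fun he => by
    have : Algebra.FormallyEtale B R := he
    exact Algebra.FormallySmooth.comp k B R
  rw [and_iff_left_of_imp hs] at h
  rw [h]
  refine and_congr_right fun _ => ?_
  let b := (mvPolynomialBasis k (Fin n)).baseChange R
  let v : Fin n → Ω[R⁄k] := fun i => D k R (algebraMap A R (algebraMap B A (MvPolynomial.X i)))
  have hb : ∀ i, mapBaseChange k B R (b i) = v i := by
    intro i
    simp only [b, v, Module.Basis.baseChange_apply, mvPolynomialBasis_apply,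
      ← IsScalarTower.algebraMap_apply]
    exact (mapBaseChange_tmul k B R _ _).trans (by rw [one_smul, map_D])
  have hf : mapBaseChange k B R = (Fintype.linearCombination R v) ∘ₗ b.equivFun.toLinearMap := by
    refine b.ext fun i => ?_
    rw [hb]
    simp [Fintype.linearCombination_apply, Finsupp.single_apply, ite_smul]
  rw [hf, LinearMap.coe_comp, LinearEquiv.coe_coe, Function.Bijective.of_comp_iff _ b.equivFun.bijective]

theorem bijective_linearCombination_comp_equiv {R M ι ι' : Type*} [CommRing R] [AddCommGroup M]
    [Module R M] [Fintype ι] [Fintype ι'] (e : ι ≃ ι') (v : ι' → M) :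
    Function.Bijective (Fintype.linearCombination R (v ∘ e)) ↔
      Function.Bijective (Fintype.linearCombination R v) := by
  have : (Fintype.linearCombination R (v ∘ e) : (ι → R) → M) =
      Fintype.linearCombination R v ∘ fun c => c ∘ e.symm := by
    funext c
    simp only [Fintype.linearCombination_apply, Function.comp_apply]
    exact Fintype.sum_equiv e _ _ fun i => by simp
  rw [this]
  exact Function.Bijective.of_comp_iff _ (Equiv.arrowCongr e (Equiv.refl R)).bijective

theorem setOf_lt_eq_range_castAdd {r t : ℕ} :
    {i : Fin (r + t) | (i : ℕ) < r} = Set.range (Fin.castAdd t) := by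
  ext i
  exact ⟨fun hi => ⟨⟨i, hi⟩, rfl⟩, by rintro ⟨j, rfl⟩; exact j.2⟩

theorem setOf_le_eq_range_natAdd {r t : ℕ} :
    {i : Fin (r + t) | r ≤ (i : ℕ)} = Set.range (Fin.natAdd r) := by
  ext i
  refine ⟨fun (hi : r ≤ (i : ℕ)) => ⟨⟨i - r, ?_⟩, ?_⟩, by rintro ⟨j, rfl⟩; exact Nat.le_add_right r j⟩
  · have := i.2; omega
  · ext; simp; omega

theorem adapted_iff_image {r t : ℕ} (g : Fin (r + t) → Localization.AtPrime p) :
    Adapted (k := k) p (g ∘ Fin.castAdd t) (g ∘ Fin.natAdd r) ↔
      Ideal.span (g '' {i | (i : ℕ) < r}) = maximalIdeal (Localization.AtPrime p) ∧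
        Submodule.span p.ResidueField
          ((fun i => D k p.ResidueField (residue (Localization.AtPrime p) (g i))) ''
            {i : Fin (r + t) | r ≤ (i : ℕ)}) = ⊤ := by
  rw [setOf_lt_eq_range_castAdd, setOf_le_eq_range_natAdd, ← Set.range_comp, ← Set.range_comp]
  rfl

end Groth.Agent.SchBasics
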