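import Groth.Agent.SchBasics.LocalLift
import Groth.Agent.SchBasics.ValLift
import Mathlib.AlgebraicGeometry.Morphisms.Smooth
import Mathlib.RingTheory.Smooth.Basic

set_option autoImplicit false
universe u
open AlgebraicGeometry CategoryTheory IsLocalRing

namespace Groth.Agent.SchBasics

/-- Formal smoothness from lifting, given a formally smooth local presentation. -/
lemma formallySmooth_of_lift {X Y : Scheme.{u}} (f : X ⟶ Y) (x : X)
    [Algebra (Y.presheaf.stalk (f x)) (X.presheaf.stalk x)]
    (H : ∀ (B B' : Type u) [CommRing B] [CommRing B'] [IsLocalRing B] [IsLocalRing B'] (φ : B' →+* B),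
      Function.Surjective φ → RingHom.ker φ ^ 2 = ⊥ →
      ∀ (α : Spec (CommRingCat.of B) ⟶ X) (β : Spec (CommRingCat.of B') ⟶ Y),
        α.base (closedPoint B) = x → Spec.map (CommRingCat.ofHom φ) ≫ β = α ≫ f →
        ∃ γ : Spec (CommRingCat.of B') ⟶ X, Spec.map (CommRingCat.ofHom φ) ≫ γ = α ∧ γ ≫ f = β)
    (L : Type u) [CommRing L] [IsLocalRing L] [Algebra (Y.presheaf.stalk (f x)) L]
    [Algebra.FormallySmooth (Y.presheaf.stalk (f x)) L]
    (f' : L →ₐ[Y.presheaf.stalk (f x)] X.presheaf.stalk x) (hf' : Function.Surjective f')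
    (halg : CommRingCat.ofHom (algebraMap (Y.presheaf.stalk (f x)) (X.presheaf.stalk x)) = f.stalkMap x) :
    Algebra.FormallySmooth (Y.presheaf.stalk (f x)) (X.presheaf.stalk x) := by
  let I : Ideal L := RingHom.ker f'.toRingHom ^ 2
  let φ : L ⧸ I →+* X.presheaf.stalk x := f'.kerSquareLift.toRingHom
  have hφ : Function.Surjective φ := fun b => by
    obtain ⟨l, hl⟩ := hf' b
    exact ⟨Ideal.Quotient.mk I l, hl⟩
  have : Nontrivial (L ⧸ I) := φ.domain_nontrivial
  have : IsLocalRing (L ⧸ I) := .of_surjective' _ Ideal.Quotient.mk_surjective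
  have hker : RingHom.ker φ ^ 2 = ⊥ := by
    have hk : RingHom.ker φ = (RingHom.ker f'.toRingHom).map (Ideal.Quotient.mk I) :=
      Ideal.ker_quotient_lift _ _
    rw [hk]
    exact (Ideal.map_pow _ _ 2).symm.trans (Ideal.map_quotient_self I)
  have : IsLocalHom φ := .of_surjective φ hφ
  have e1 : CommRingCat.ofHom (algebraMap (Y.presheaf.stalk (f x)) (L ⧸ I)) ≫ CommRingCat.ofHom φ = f.stalkMap x := by
    refine CommRingCat.hom_ext (RingHom.ext fun a => ?_)
    exact (f'.kerSquareLift.commutes a).trans (congrArg (fun m => m a) halg)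
  obtain ⟨γ, hγ1, hγ2⟩ := H (X.presheaf.stalk x) (L ⧸ I) φ hφ hker (X.fromSpecStalk x)
    (Spec.map (CommRingCat.ofHom (algebraMap (Y.presheaf.stalk (f x)) (L ⧸ I))) ≫ Y.fromSpecStalk (f x))
    Scheme.fromSpecStalk_closedPoint
    ((Category.assoc _ _ _).symm.trans ((congrArg (· ≫ Y.fromSpecStalk (f x))
      ((Spec.map_comp _ _).symm.trans (congrArg Spec.map e1))).trans
      (Scheme.SpecMap_stalkMap_fromSpecStalk f)))
  have hpt : γ (closedPoint (L ⧸ I)) = x := by
    rw [← comp_apply_closedPoint φ γ, hγ1]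
    exact Scheme.fromSpecStalk_closedPoint
  obtain ⟨ψ, hψ⟩ := exists_stalk_factor γ hpt
  have e2 : ψ ≫ CommRingCat.ofHom φ = 𝟙 (X.presheaf.stalk x) := by
    refine stalk_factor_unique ?_
    rw [Spec.map_comp, Category.assoc, hψ, hγ1, Spec.map_id]
    exact (Category.id_comp _).symm
  have e3 : f.stalkMap x ≫ ψ = CommRingCat.ofHom (algebraMap (Y.presheaf.stalk (f x)) (L ⧸ I)) := by
    refine stalk_factor_unique ?_
    rw [← stalk_factor_comp, hψ, hγ2]
  refine Algebra.FormallySmooth.of_split f' ⟨ψ.hom, fun a => (congrArg ψ.hom (congrArg (fun m => m a) halg)).trans (congrArg (fun m => m a) e3)⟩ ?_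
  exact AlgHom.ext fun b => congrArg (fun m => m b) e2

/-- Existence of lifts of maps of local schemes is formal smoothness of the stalk map. -/
lemma formallySmooth_stalkMap_iff_lift {X Y : Scheme.{u}} (f : X ⟶ Y) (x : X) :
    (f.stalkMap x).hom.FormallySmooth ↔
      ∀ (B B' : Type u) [CommRing B] [CommRing B'] [IsLocalRing B] [IsLocalRing B'] (φ : B' →+* B),
      Function.Surjective φ → RingHom.ker φ ^ 2 = ⊥ →
      ∀ (α : Spec (CommRingCat.of B) ⟶ X) (β : Spec (CommRingCat.of B') ⟶ Y),
        α.base (closedPoint B) = x → Spec.map (CommRingCat.ofHom φ) ≫ β = α ≫ f →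
        ∃ γ : Spec (CommRingCat.of B') ⟶ X, Spec.map (CommRingCat.ofHom φ) ≫ γ = α ∧ γ ≫ f = β := by
  constructor
  · intro hFS B B' _ _ _ _ φ hφ hker α β hα hαβ
    obtain ⟨a, rfl⟩ := exists_stalk_factor α hα
    have : IsLocalHom φ := .of_surjective φ hφ
    have hβ : β (closedPoint B') = f x := by
      have e : (Spec.map (CommRingCat.ofHom φ) ≫ β) (closedPoint B) =
          ((Spec.map a ≫ X.fromSpecStalk x) ≫ f) (closedPoint B) := by rw [hαβ]
      rw [comp_apply_closedPoint φ β] at e
      exact e.trans ((Scheme.Hom.comp_apply _ f _).trans (congrArg f hα))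
    obtain ⟨b, rfl⟩ := exists_stalk_factor β hβ
    have hab : f.stalkMap x ≫ a = b ≫ CommRingCat.ofHom φ := by
      refine stalk_factor_unique ?_
      rw [← stalk_factor_comp, ← hαβ, Spec.map_comp, Category.assoc]
    let := (f.stalkMap x).hom.toAlgebra
    have : Algebra.FormallySmooth (Y.presheaf.stalk (f x)) (X.presheaf.stalk x) := hFS
    let := b.hom.toAlgebra
    let := (φ.comp b.hom).toAlgebra
    let g : B' →ₐ[Y.presheaf.stalk (f x)] B := ⟨φ, fun _ => rfl⟩
    let a' : X.presheaf.stalk x →ₐ[Y.presheaf.stalk (f x)] B :=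
      ⟨a.hom, fun r => congrArg (fun m => m r) hab⟩
    let ψ := Algebra.FormallySmooth.liftOfSurjective a' g hφ ⟨2, hker⟩
    refine ⟨Spec.map (CommRingCat.ofHom ψ.toRingHom) ≫ X.fromSpecStalk x, ?_, ?_⟩
    · rw [← Category.assoc, ← Spec.map_comp]
      congr 2
      ext s
      exact Algebra.FormallySmooth.liftOfSurjective_apply a' g hφ ⟨2, hker⟩ s
    · rw [stalk_factor_comp]
      congr 2
      ext r
      exact ψ.commutes r
  · intro H
    set A := Y.presheaf.stalk (f x)
    set B := X.presheaf.stalk x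
    let : Algebra A B := (f.stalkMap x).hom.toAlgebra
    let P := MvPolynomial B A
    let e : P →ₐ[A] B := MvPolynomial.aeval id
    let q : Ideal P := (maximalIdeal B).comap e.toRingHom
    let L := Localization.AtPrime q
    let f' : L →ₐ[A] B := IsLocalization.liftAlgHom (M := q.primeCompl) (f := e)
      fun s => not_not.mp fun h => s.2 h
    have hf' : Function.Surjective f' := fun b => ⟨algebraMap P L (MvPolynomial.X b), by
      simp [f', e]
      exact MvPolynomial.aeval_X _ b⟩
    have : Algebra.FormallySmooth P L := Algebra.FormallySmooth.of_isLocalization q.primeCompl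
    have : Algebra.FormallySmooth A L := Algebra.FormallySmooth.comp A P L
    change Algebra.FormallySmooth A B
    exact formallySmooth_of_lift f x H L f' hf' rfl

end Groth.Agent.SchBasics
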