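import Groth.Agent.SchBasics.UnramAt
import Mathlib.RingTheory.Kaehler.Basic
import Mathlib.Algebra.TrivSqZeroExt.Basic

set_option autoImplicit false
universe u
open AlgebraicGeometry CategoryTheory IsLocalRing

namespace Groth.Agent.SchBasics

lemma exists_stalk_factor {X : Scheme.{u}} {R : Type u} [CommRing R] [IsLocalRing R]
    (γ : Spec (.of R) ⟶ X) {x : X} (hx : γ (closedPoint R) = x) :
    ∃ ψ : X.presheaf.stalk x ⟶ CommRingCat.of R, Spec.map ψ ≫ X.fromSpecStalk x = γ := by
  subst hx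
  exact ⟨Scheme.stalkClosedPointTo γ, Scheme.Spec_stalkClosedPointTo_fromSpecStalk γ⟩

lemma stalk_factor_unique {X : Scheme.{u}} {R : CommRingCat.{u}} {x : X}
    {ψ ψ' : X.presheaf.stalk x ⟶ R}
    (h : Spec.map ψ ≫ X.fromSpecStalk x = Spec.map ψ' ≫ X.fromSpecStalk x) : ψ = ψ' :=
  Spec.map_injective ((cancel_mono (X.fromSpecStalk x)).mp h)

lemma stalk_factor_comp {X Y : Scheme.{u}} (f : X ⟶ Y) {R : CommRingCat.{u}} {x : X}
    (ψ : X.presheaf.stalk x ⟶ R) :
    (Spec.map ψ ≫ X.fromSpecStalk x) ≫ f = Spec.map (f.stalkMap x ≫ ψ) ≫ Y.fromSpecStalk (f x) := by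
  rw [Category.assoc, ← Scheme.SpecMap_stalkMap_fromSpecStalk, Spec.map_comp, Category.assoc]

/-- Uniqueness of lifts of maps of local schemes is formal unramifiedness of the stalk map. -/
lemma formallyUnramified_stalkMap_iff_lift {X Y : Scheme.{u}} (f : X ⟶ Y) (x : X) :
    (f.stalkMap x).hom.FormallyUnramified ↔
      ∀ (B B' : Type u) [CommRing B] [CommRing B'] [IsLocalRing B] [IsLocalRing B'] (φ : B' →+* B),
      Function.Surjective φ → RingHom.ker φ ^ 2 = ⊥ →
      ∀ (α : Spec (CommRingCat.of B) ⟶ X) (β : Spec (CommRingCat.of B') ⟶ Y),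
        α.base (closedPoint B) = x → Spec.map (CommRingCat.ofHom φ) ≫ β = α ≫ f →
        ∀ γ₁ γ₂ : Spec (CommRingCat.of B') ⟶ X,
          Spec.map (CommRingCat.ofHom φ) ≫ γ₁ = α → γ₁ ≫ f = β →
          Spec.map (CommRingCat.ofHom φ) ≫ γ₂ = α → γ₂ ≫ f = β → γ₁ = γ₂ := by
  constructor
  · intro hFU B B' _ _ _ _ φ hφ hker α β hα _ γ₁ γ₂ h₁ h₁' h₂ h₂'
    have : IsLocalHom φ := .of_surjective φ hφ
    have hpt : ∀ γ : Spec (CommRingCat.of B') ⟶ X, Spec.map (CommRingCat.ofHom φ) ≫ γ = α →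
        γ (closedPoint B') = x := fun γ h => by
      rw [← hα, ← h, Scheme.Hom.comp_apply]
      exact (congrArg γ (comap_closedPoint φ)).symm
    obtain ⟨ψ₁, rfl⟩ := exists_stalk_factor γ₁ (hpt _ h₁)
    obtain ⟨ψ₂, rfl⟩ := exists_stalk_factor γ₂ (hpt _ h₂)
    have hY : f.stalkMap x ≫ ψ₁ = f.stalkMap x ≫ ψ₂ := by
      refine stalk_factor_unique ?_
      rw [← stalk_factor_comp, ← stalk_factor_comp, h₁', h₂']
    have hB : ψ₁ ≫ CommRingCat.ofHom φ = ψ₂ ≫ CommRingCat.ofHom φ := by
      refine stalk_factor_unique ?_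
      rw [Spec.map_comp, Spec.map_comp, Category.assoc, Category.assoc, h₁, h₂]
    let := (f.stalkMap x).hom.toAlgebra
    have : Algebra.FormallyUnramified (Y.presheaf.stalk (f x)) (X.presheaf.stalk x) := hFU
    let := (f.stalkMap x ≫ ψ₁).hom.toAlgebra
    let a₁ : X.presheaf.stalk x →ₐ[Y.presheaf.stalk (f x)] B' := ⟨ψ₁.hom, fun _ => rfl⟩
    let a₂ : X.presheaf.stalk x →ₐ[Y.presheaf.stalk (f x)] B' :=
      ⟨ψ₂.hom, fun r => (congrArg (fun m => m r) hY).symm⟩
    have : a₁ = a₂ := Algebra.FormallyUnramified.ext (RingHom.ker φ) ⟨2, hker⟩ fun a => by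
      rw [Ideal.Quotient.eq, RingHom.mem_ker, map_sub, sub_eq_zero]
      exact congrArg (fun m => m a) hB
    have e : ψ₁ = ψ₂ := CommRingCat.hom_ext (congrArg AlgHom.toRingHom this)
    rw [e]
  · intro H
    set A := Y.presheaf.stalk (f x)
    set B := X.presheaf.stalk x
    let : Algebra A B := (f.stalkMap x).hom.toAlgebra
    let M := KaehlerDifferential A B
    let : Module Bᵐᵒᵖ M := Module.compHom M ((RingHom.id B).fromOpposite fun _ _ => mul_comm _ _)
    have : IsCentralScalar B M := ⟨fun _ _ => rfl⟩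
    let φ : TrivSqZeroExt B M →+* B := (TrivSqZeroExt.fstHom B B M).toRingHom
    have hφ : Function.Surjective φ := fun b => ⟨TrivSqZeroExt.inl b, rfl⟩
    have : IsLocalRing (TrivSqZeroExt B M) := by
      refine IsLocalRing.of_nonunits_add fun a b ha hb h => ?_
      rw [mem_nonunits_iff, TrivSqZeroExt.isUnit_iff_isUnit_fst] at ha hb
      rw [TrivSqZeroExt.isUnit_iff_isUnit_fst] at h
      exact IsLocalRing.nonunits_add ha hb h
    let d := KaehlerDifferential.D A B
    let ψ₁ : B →+* TrivSqZeroExt B M := TrivSqZeroExt.inlHom B M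
    let ψ₂ : B →+* TrivSqZeroExt B M :=
      { toFun := fun b => TrivSqZeroExt.inl b + TrivSqZeroExt.inr (d b)
        map_one' := by simp
        map_zero' := by simp
        map_mul' := fun a b => by
          ext
          · simp
          · simp [d, op_smul_eq_smul]
        map_add' := fun a b => by
          ext <;> simp }
    have e₁ : CommRingCat.ofHom ψ₁ ≫ CommRingCat.ofHom φ = 𝟙 B := rfl
    have e₂ : CommRingCat.ofHom ψ₂ ≫ CommRingCat.ofHom φ = 𝟙 B := by
      ext b
      change (TrivSqZeroExt.inl b + TrivSqZeroExt.inr (d b)).fst = b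
      simp
    have hA : f.stalkMap x ≫ CommRingCat.ofHom ψ₂ = f.stalkMap x ≫ CommRingCat.ofHom ψ₁ := by
      refine CommRingCat.hom_ext (RingHom.ext fun a => ?_)
      change ψ₂ (algebraMap A B a) = ψ₁ (algebraMap A B a)
      simp [ψ₁, ψ₂]
    have hker : RingHom.ker φ ^ 2 = ⊥ := by
      rw [pow_two, eq_bot_iff, Ideal.mul_le]
      intro a ha b hb
      rw [Ideal.mem_bot]
      have ha' : a.fst = 0 := ha
      have hb' : b.fst = 0 := hb
      ext <;> simp [ha', hb']
    have s₁ : Spec.map (CommRingCat.ofHom φ) ≫ Spec.map (CommRingCat.ofHom ψ₁) ≫ X.fromSpecStalk x =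
        X.fromSpecStalk x :=
      (Category.assoc _ _ _).symm.trans ((congrArg (· ≫ X.fromSpecStalk x)
        ((Spec.map_comp _ _).symm.trans ((congrArg Spec.map e₁).trans (Spec.map_id _)))).trans
          (Category.id_comp _))
    have s₂ : Spec.map (CommRingCat.ofHom φ) ≫ Spec.map (CommRingCat.ofHom ψ₂) ≫ X.fromSpecStalk x =
        X.fromSpecStalk x :=
      (Category.assoc _ _ _).symm.trans ((congrArg (· ≫ X.fromSpecStalk x)
        ((Spec.map_comp _ _).symm.trans ((congrArg Spec.map e₂).trans (Spec.map_id _)))).trans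
          (Category.id_comp _))
    have key := H B (TrivSqZeroExt B M) φ hφ hker (X.fromSpecStalk x)
      ((Spec.map (CommRingCat.ofHom ψ₁) ≫ X.fromSpecStalk x) ≫ f)
      Scheme.fromSpecStalk_closedPoint
      ((Category.assoc _ _ _).symm.trans (congrArg (· ≫ f) s₁))
      (Spec.map (CommRingCat.ofHom ψ₁) ≫ X.fromSpecStalk x)
      (Spec.map (CommRingCat.ofHom ψ₂) ≫ X.fromSpecStalk x)
      s₁ rfl s₂
      ((stalk_factor_comp f _).trans ((congrArg (Spec.map · ≫ Y.fromSpecStalk (f x)) hA).trans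
        (stalk_factor_comp f _).symm))
    have hψ := stalk_factor_unique key
    change Algebra.FormallyUnramified A B
    refine ⟨subsingleton_of_forall_eq 0 fun m => ?_⟩
    have hd : ∀ b, d b = 0 := fun b => by
      have := congrArg TrivSqZeroExt.snd (congrArg (fun g => g b) hψ)
      have h' : (0 : M) = (TrivSqZeroExt.inl b + TrivSqZeroExt.inr (d b)).snd := this
      simpa using h'.symm
    have hm : m ∈ Submodule.span B (Set.range d) := by
      rw [KaehlerDifferential.span_range_derivation]; trivial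
    induction hm using Submodule.span_induction with
    | mem y hy => obtain ⟨b, rfl⟩ := hy; exact hd b
    | zero => rfl
    | add y z _ _ hy hz => rw [hy, hz, add_zero]
    | smul c y _ hy => rw [hy, smul_zero]

end Groth.Agent.SchBasics
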