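import Groth.Agent.SchBasics.UnramAt
import Mathlib.AlgebraicGeometry.Morphisms.Etale

set_option autoImplicit false
universe u
open AlgebraicGeometry CategoryTheory IsLocalRing

namespace Groth.Agent.SchBasics

/-- For a local homomorphism essentially of finite type, unramified means that the quotient by the
extended maximal ideal is a finite separable field extension. -/
lemma formallyUnramified_iff_quotient {A B : Type u} [CommRing A] [CommRing B] [IsLocalRing A]
    [IsLocalRing B] (φ : A →+* B) [IsLocalHom φ] (hφ : φ.EssFiniteType) :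
    φ.FormallyUnramified ↔
      letI 𝔪 := maximalIdeal A
      letI := (Ideal.quotientMap (𝔪.map φ) φ Ideal.le_comap_map).toAlgebra
      IsField (B ⧸ 𝔪.map φ) ∧ Module.Finite (A ⧸ 𝔪) (B ⧸ 𝔪.map φ) ∧
        Algebra.IsSeparable (A ⧸ 𝔪) (B ⧸ 𝔪.map φ) := by
  let := φ.toAlgebra
  have : Algebra.EssFiniteType A B := hφ
  have : IsLocalHom (algebraMap A B) := ‹IsLocalHom φ›
  change Algebra.FormallyUnramified A B ↔ _
  constructor
  · intro _
    have h := Algebra.FormallyUnramified.map_maximalIdeal (R := A) (S := B)
    have hF : IsField (B ⧸ (maximalIdeal A).map φ) :=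
      Algebra.FormallyUnramified.isField_quotient_map_maximalIdeal (R := A) (S := B)
    let := (Ideal.quotientMap ((maximalIdeal A).map φ) φ Ideal.le_comap_map).toAlgebra
    let e : B ⧸ (maximalIdeal A).map φ ≃+* ResidueField B := Ideal.quotEquivOfEq h
    let : Algebra (A ⧸ maximalIdeal A) (ResidueField B) :=
      inferInstanceAs (Algebra (ResidueField A) (ResidueField B))
    let eL : (B ⧸ (maximalIdeal A).map φ) ≃ₐ[A ⧸ maximalIdeal A] ResidueField B :=
      AlgEquiv.ofRingEquiv (f := e) fun r => by
        obtain ⟨r, rfl⟩ := Ideal.Quotient.mk_surjective r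
        rfl
    refine ⟨hF, ?_, ?_⟩
    · have : Module.Finite (A ⧸ maximalIdeal A) (ResidueField B) :=
        inferInstanceAs (Module.Finite (ResidueField A) (ResidueField B))
      exact Module.Finite.equiv eL.symm.toLinearEquiv
    · have : Algebra.IsSeparable (A ⧸ maximalIdeal A) (ResidueField B) :=
        inferInstanceAs (Algebra.IsSeparable (ResidueField A) (ResidueField B))
      exact AlgEquiv.Algebra.isSeparable eL.symm
  · rintro ⟨hF, -, hsep⟩
    let := (Ideal.quotientMap ((maximalIdeal A).map φ) φ Ideal.le_comap_map).toAlgebra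
    have h : (maximalIdeal A).map φ = maximalIdeal B :=
      eq_maximalIdeal ((Ideal.Quotient.maximal_ideal_iff_isField_quotient _).mpr hF)
    rw [Algebra.FormallyUnramified.iff_map_maximalIdeal_eq]
    refine ⟨?_, h⟩
    let e : B ⧸ (maximalIdeal A).map φ ≃+* ResidueField B := Ideal.quotEquivOfEq h
    let : Algebra (A ⧸ maximalIdeal A) (ResidueField B) :=
      inferInstanceAs (Algebra (ResidueField A) (ResidueField B))
    let eL : (B ⧸ (maximalIdeal A).map φ) ≃ₐ[A ⧸ maximalIdeal A] ResidueField B :=
      AlgEquiv.ofRingEquiv (f := e) fun r => by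
        obtain ⟨r, rfl⟩ := Ideal.Quotient.mk_surjective r
        rfl
    have hB : Algebra.IsSeparable (A ⧸ maximalIdeal A) (ResidueField B) := AlgEquiv.Algebra.isSeparable eL
    exact hB

lemma formallyUnramified_iff_forall_stalkMap {X Y : Scheme.{u}} (f : X ⟶ Y) [LocallyOfFiniteType f] :
    FormallyUnramified f ↔ ∀ x, (f.stalkMap x).hom.FormallyUnramified := by
  refine ⟨fun _ x => FormallyUnramified.stalkMap _ x, fun H => ?_⟩
  choose U hx hU using fun x => (exists_formallyUnramified_iff_stalkMap f x).mpr (H x)
  rw [IsZariskiLocalAtSource.iff_of_iSup_eq_top (P := @FormallyUnramified) U]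
  · exact hU
  · exact eq_top_iff.mpr fun x _ => TopologicalSpace.Opens.mem_iSup.mpr ⟨x, hx x⟩

end Groth.Agent.SchBasics
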