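import Groth.Prelude.Def_EGA43
import Groth.Agent.Cohen12.GeomRegular
import Groth.Agent.Cohen12.CohenFS
import Groth.Agent.E4O.OpenMapDims
import Groth.Agent.SchBasics.DiffSmoothLimit

/-!
A morphism smooth near a point is universally open there and has geometrically regular fibre.
-/

set_option autoImplicit false
set_option linter.style.haveILetI false
set_option backward.isDefEq.respectTransparency.types false

universe u

open CategoryTheory CategoryTheory.Limits AlgebraicGeometry TopologicalSpace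

namespace Groth.Agent.SchBasics.OpenSmooth

theorem isUnivOpenAt_of_smooth_nhd {X Y : Scheme.{u}} (f : X ⟶ Y) (U : X.Opens) [Smooth (U.ι ≫ f)]
    (x : X) (hx : x ∈ U) : EGA43.IsUnivOpenAt f x := by
  intro Y' g x' hx'
  let p := pullback.fst f g
  have hsq : IsPullback (p ∣_ U) ((p ⁻¹ᵁ U).ι ≫ pullback.snd f g) (U.ι ≫ f) g :=
    (isPullback_morphismRestrict p U).paste_vert (IsPullback.of_hasPullback f g)
  have : UniversallyOpen (U.ι ≫ f) := inferInstance
  have hopen : UniversallyOpen ((p ⁻¹ᵁ U).ι ≫ pullback.snd f g) :=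
    MorphismProperty.of_isPullback hsq inferInstance
  intro W hW
  obtain ⟨W₀, hW₀W, hW₀o, hxW₀⟩ := mem_nhds_iff.1 hW
  have hxU' : x' ∈ p ⁻¹ᵁ U := by
    show p.base x' ∈ U
    rw [hx']
    exact hx
  have h1 : IsOpen (((p ⁻¹ᵁ U).ι ≫ pullback.snd f g).base '' ((p ⁻¹ᵁ U).ι ⁻¹' W₀)) :=
    ((p ⁻¹ᵁ U).ι ≫ pullback.snd f g).isOpenMap _ (hW₀o.preimage (p ⁻¹ᵁ U).ι.continuous)
  refine Filter.mem_of_superset (h1.mem_nhds ⟨⟨x', hxU'⟩, hxW₀, rfl⟩) ?_
  rintro _ ⟨z, hz, rfl⟩
  exact ⟨(p ⁻¹ᵁ U).ι z, hW₀W hz, rfl⟩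

theorem isGeometricallyRegular_quotient_of_formallySmooth (R O : Type u) [CommRing R] [CommRing O]
    [IsLocalRing R] [IsLocalRing O] [IsNoetherianRing O] [Algebra R O] [IsLocalHom (algebraMap R O)]
    [Algebra.FormallySmooth R O] :
    letI J := (IsLocalRing.maximalIdeal R).map (algebraMap R O)
    letI : Algebra (IsLocalRing.ResidueField R) (O ⧸ J) :=
      (Ideal.quotientMap J (algebraMap R O) Ideal.le_comap_map).toAlgebra
    CAlg.IsGeometricallyRegular (IsLocalRing.ResidueField R) (O ⧸ J) := by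
  let J : Ideal O := (IsLocalRing.maximalIdeal R).map (algebraMap R O)
  let : Algebra (IsLocalRing.ResidueField R) (O ⧸ J) :=
    (Ideal.quotientMap J (algebraMap R O) Ideal.le_comap_map).toAlgebra
  have : IsScalarTower R (IsLocalRing.ResidueField R) (O ⧸ J) := IsScalarTower.of_algebraMap_eq fun _ => rfl
  have hJmax : J ≤ IsLocalRing.maximalIdeal O :=
    Ideal.map_le_iff_le_comap.2 fun r hr h => hr (IsLocalHom.map_nonunit r h)
  have : Nontrivial (O ⧸ J) :=
    Ideal.Quotient.nontrivial_iff.2 (ne_top_of_le_ne_top (IsLocalRing.maximalIdeal.isMaximal O).ne_top hJmax)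
  have : IsLocalRing (O ⧸ J) :=
    IsLocalRing.of_surjective' (Ideal.Quotient.mk J) Ideal.Quotient.mk_surjective
  let k := IsLocalRing.ResidueField R
  let ψ : TensorProduct R k O →ₐ[k] O ⧸ J :=
    Algebra.TensorProduct.lift (Algebra.ofId k (O ⧸ J)) (Ideal.Quotient.mkₐ R J)
      (fun _ _ => Commute.all _ _)
  have hψ : ∀ x, ψ x = (Algebra.TensorProduct.quotIdealMapEquivQuotTensor O
      (IsLocalRing.maximalIdeal R)).symm x := fun x => by
    induction x with
    | zero => exact (map_zero ψ).trans (map_zero _).symm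
    | tmul a b =>
      obtain ⟨r, rfl⟩ := Ideal.Quotient.mk_surjective a
      show algebraMap k (O ⧸ J) (Ideal.Quotient.mk _ r) * Ideal.Quotient.mk J b = _
      rw [AlgEquiv.eq_symm_apply]
      show Algebra.TensorProduct.quotIdealMapEquivQuotTensor O (IsLocalRing.maximalIdeal R)
        (Ideal.Quotient.mk J (algebraMap R O r * b)) = _
      erw [Algebra.TensorProduct.quotIdealMapEquivQuotTensor_mk]
      rw [← Algebra.smul_def, ← TensorProduct.smul_tmul, Algebra.smul_def, mul_one]
      rfl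
    | add x y hx hy => exact (map_add ψ x y).trans ((congrArg₂ (· + ·) hx hy).trans (map_add _ x y).symm)
  have hbij : Function.Bijective ψ := by
    rw [show (ψ : TensorProduct R k O → O ⧸ J) = _ from funext hψ]
    exact (Algebra.TensorProduct.quotIdealMapEquivQuotTensor O (IsLocalRing.maximalIdeal R)).symm.bijective
  have : Algebra.FormallySmooth k (O ⧸ J) := Algebra.FormallySmooth.of_equiv (AlgEquiv.ofBijective ψ hbij)
  exact Cohen12.isGeometricallyRegular_of_formallySmooth
    (Cohen12.isAdicFormallySmooth_of_formallySmooth _)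

theorem isGeometricallyRegular_fibre {X Y : Scheme.{u}} (f : X ⟶ Y) [IsLocallyNoetherian Y]
    [LocallyOfFiniteType f] (x : X) (U : X.Opens) [Smooth (U.ι ≫ f)] (hx : x ∈ U) :
    letI φ := (f.stalkMap x).hom
    letI 𝔪 := IsLocalRing.maximalIdeal ↑(Y.presheaf.stalk (f.base x))
    letI : Algebra (IsLocalRing.ResidueField ↑(Y.presheaf.stalk (f.base x))) (↑(X.presheaf.stalk x) ⧸ 𝔪.map φ) :=
      (Ideal.quotientMap (𝔪.map φ) φ Ideal.le_comap_map).toAlgebra
    CAlg.IsGeometricallyRegular (IsLocalRing.ResidueField ↑(Y.presheaf.stalk (f.base x)))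
      (↑(X.presheaf.stalk x) ⧸ 𝔪.map φ) := by
  have : LocallyOfFinitePresentation f := E4O.locallyOfFinitePresentation_of_isLocallyNoetherian f
  have : IsLocallyNoetherian X := LocallyOfFiniteType.isLocallyNoetherian f
  exact @isGeometricallyRegular_quotient_of_formallySmooth (Y.presheaf.stalk (f x)) (X.presheaf.stalk x)
    _ _ _ _ inferInstance (f.stalkMap x).hom.toAlgebra (f.toLRSHom.prop x)
    (mem_smoothLocus_of_smooth_restrict f U hx)

end Groth.Agent.SchBasics.OpenSmooth
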