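import Groth.Prelude.Def_EGA43
import Groth.Agent.RedPts82.SmoothDim
import Groth.Agent.E4O.FibreSets

/-!
A smooth morphism is equidimensional.
-/

set_option autoImplicit false
set_option linter.style.haveILetI false
set_option backward.isDefEq.respectTransparency.types false

universe u

open CategoryTheory CategoryTheory.Limits AlgebraicGeometry TopologicalSpace

namespace Groth.Agent.SchBasics.OpenSmooth

theorem isEquidimAt_of_smooth_nhd {X Y : Scheme.{u}} (f : X ⟶ Y) [IsLocallyNoetherian Y]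
    [LocallyOfFiniteType f] (x : X) (U₁ : X.Opens) [Smooth (U₁.ι ≫ f)] (hx : x ∈ U₁) :
    EGA43.IsEquidimAt f x := by
  have : IsLocallyNoetherian X := LocallyOfFiniteType.isLocallyNoetherian f
  obtain ⟨n, V, -, hxV, hVn, -⟩ := RedPts82.exists_ι_relDim (U₁.ι ≫ f) ⟨x, hx⟩
  let U₂ : X.Opens := U₁.ι ''ᵁ V
  have hU₂ : SmoothOfRelativeDimension n (U₂.ι ≫ f) := by
    have : U₂.ι ≫ f = (U₁.ι.isoImage V).inv ≫ (V.ι ≫ U₁.ι ≫ f) := by
      rw [Scheme.Hom.isoImage_inv_ι_assoc]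
    rw [this]
    have h2 : SmoothOfRelativeDimension (0 + n) ((U₁.ι.isoImage V).inv ≫ (V.ι ≫ U₁.ι ≫ f)) := inferInstance
    rwa [zero_add] at h2
  have hxU₂ : x ∈ U₂ := ⟨⟨x, hx⟩, hxV, rfl⟩
  obtain ⟨U₀, hU₀, hxU₀, hU₀le⟩ := exists_isAffineOpen_mem_and_subset (X := X) (U := U₂) hxU₂
  have : IsNoetherian U₀ := by
    have : IsAffine U₀ := hU₀
    have : IsLocallyNoetherian U₀.toScheme := isLocallyNoetherian_of_isOpenImmersion U₀.ι
    exact { }
  -- drop the components missing `x`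
  let bad : Set (Set U₀.toScheme) :=
    {Z | Z ∈ irreducibleComponents U₀.toScheme ∧ (⟨x, hxU₀⟩ : U₀.toScheme) ∉ Z}
  have hbad : bad.Finite :=
    (NoetherianSpace.finite_irreducibleComponents (α := U₀.toScheme)).subset fun Z hZ => hZ.1
  let B : U₀.toScheme.Opens := ⟨(⋃₀ bad)ᶜ, by
    rw [Set.sUnion_eq_biUnion]
    exact (hbad.isClosed_biUnion fun Z hZ => isClosed_of_mem_irreducibleComponents Z hZ.1).isOpen_compl⟩
  have hxB : (⟨x, hxU₀⟩ : U₀.toScheme) ∈ B := fun ⟨Z, hZ, hxZ⟩ => hZ.2 hxZ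
  let U : X.Opens := U₀.ι ''ᵁ B
  have hUle : U ≤ U₂ := (U₀.ι_image_le B).trans hU₀le
  have hUn : SmoothOfRelativeDimension n (U.ι ≫ f) := by
    rw [← Scheme.homOfLE_ι X hUle, Category.assoc]
    have h2 : SmoothOfRelativeDimension (0 + n) (X.homOfLE hUle ≫ U₂.ι ≫ f) := inferInstance
    rwa [zero_add] at h2
  have : Smooth (U.ι ≫ f) := SmoothOfRelativeDimension.smooth n _
  refine ⟨n, U, ⟨⟨x, hxU₀⟩, hxB, rfl⟩, fun Z hZ => ?_, fun x' Z hZ => ?_⟩
  · have : QuasiSober (↥U : Type u) := U.2.isOpenEmbedding_subtypeVal.quasiSober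
    obtain ⟨ξ, hξ⟩ := QuasiSober.sober hZ.1 (isClosed_of_mem_irreducibleComponents Z hZ)
    have hξmax : ∀ w : U, w ⤳ ξ → w = ξ := fun w hw => by
      have h1 : Z ⊆ closure {w} := by
        rw [← hξ]
        exact closure_minimal (Set.singleton_subset_iff.2 (specializes_iff_mem_closure.1 hw)) isClosed_closure
      exact ((show IsGenericPoint w Z from le_antisymm (hZ.2 isIrreducible_singleton.closure h1) h1).eq hξ)
    obtain ⟨ξ', hξ'B, hξ'⟩ : ∃ ξ' : U₀.toScheme, ξ' ∈ B ∧ U₀.ι ξ' = (ξ : X) := ξ.2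
    have hξ'max : ∀ w : U₀.toScheme, w ⤳ ξ' → w = ξ' := fun w hw => by
      have hwB : w ∈ B := hw.mem_open B.2 hξ'B
      have h1 : (⟨U₀.ι w, w, hwB, rfl⟩ : U) ⤳ ξ := by
        rw [subtype_specializes_iff, ← hξ']
        exact hw.map U₀.ι.continuous
      refine U₀.ι.isOpenEmbedding.injective ?_
      rw [hξ', ← hξmax _ h1]
    have hcomp : closure {ξ'} ∈ irreducibleComponents U₀.toScheme :=
      E4O.closure_mem_irreducibleComponents fun w hw => hξ'max w hw
    have hxmem : (⟨x, hxU₀⟩ : U₀.toScheme) ∈ closure {ξ'} := by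
      by_contra h
      exact hξ'B ⟨_, ⟨hcomp, h⟩, subset_closure rfl⟩
    have hspec : (U.ι ≫ f) (ξ : U.toScheme) ⤳ f x := by
      rw [Scheme.Hom.comp_apply, show U.ι (ξ : U.toScheme) = U₀.ι ξ' from hξ'.symm]
      exact ((specializes_iff_mem_closure.2 hxmem).map U₀.ι.continuous).map f.continuous
    have hmax : ∀ w : Y, w ⤳ (U.ι ≫ f) (ξ : U.toScheme) → w = (U.ι ≫ f) (ξ : U.toScheme) := fun w hw => by
      obtain ⟨v, hv, rfl⟩ := Flat.generalizingMap (U.ι ≫ f) hw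
      rw [hξmax v hv]
    refine ⟨_, E4O.closure_mem_irreducibleComponents hmax, specializes_iff_mem_closure.1 hspec, ?_⟩
    rw [← hξ]
    exact E4O.closure_image_closure_singleton (U.ι ≫ f) (ξ : U.toScheme)
  · have := smoothOfRelativeDimension_isStableUnderBaseChange.{u} n
    have : SmoothOfRelativeDimension n ((U.ι ≫ f).fiberToSpecResidueField ((U.ι ≫ f) x')) :=
      MorphismProperty.pullback_snd _ _ hUn
    exact @Var76.SmoothFibre.dim_component _ _ _ ((U.ι ≫ f).fiberToSpecResidueField ((U.ι ≫ f) x')) n this Z hZ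

end Groth.Agent.SchBasics.OpenSmooth
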