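import Groth.Agent.SchBasics.SmoothOmega

/-! Kähler differentials of affine charts near a point where a morphism is smooth. -/

universe u

open CategoryTheory CategoryTheory.Limits AlgebraicGeometry TopologicalSpace TensorProduct

set_option backward.isDefEq.respectTransparency false

noncomputable section

namespace Groth.Agent.SchBasics

open Groth.Agent

variable {X Y : Scheme.{u}}

/-- Free differentials on all small affine charts at a point where a morphism is smooth. -/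
theorem exists_kaehler_free_nhd (g : X ⟶ Y) [LocallyOfFinitePresentation g] (x : X)
    (H : (g.stalkMap x).hom.FormallySmooth) {V₀ : Y.Opens} (hV₀ : IsAffineOpen V₀) (hx : g x ∈ V₀) :
    ∃ (T : X.Opens) (n : ℕ), x ∈ T ∧ FlatMor.fibreDimAt g x = (n : WithBot ℕ∞) ∧
      ∀ (V : X.Opens), IsAffineOpen V → V ≤ T → ∀ e : V ≤ g ⁻¹ᵁ V₀,
        letI := (g.appLE V₀ V e).hom.toAlgebra
        Nonempty (Ω[Γ(X, V)⁄Γ(Y, V₀)] ≃ₗ[Γ(X, V)] (Fin n → Γ(X, V))) := by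
  obtain ⟨O, hO, hxO, hle⟩ := exists_isAffineOpen_mem_and_subset (show x ∈ g ⁻¹ᵁ V₀ from hx)
  haveI := quasiSeparated_ι_comp O hO g
  let y : (O : Scheme) := ⟨x, hxO⟩
  have H' : ((O.ι ≫ g).stalkMap y).hom.FormallySmooth := by
    haveI : IsIso (O.ι.stalkMap y) := inferInstance
    rw [Scheme.Hom.stalkMap_comp]
    exact (RingHom.FormallySmooth.respectsIso.cancel_right_isIso _ _).2 H
  obtain ⟨U2, n, hy, ⟨i⟩, hdim⟩ := exists_free_nhd_of_formallySmooth_stalk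
    (Var76.OmegaUniv.isUniversal (O.ι ≫ g)) y H'
  refine ⟨O.ι ''ᵁ U2, n, ⟨y, hy, rfl⟩, ?_, fun V hV hVT e => ?_⟩
  · have h1 : FlatMor.fibreDimAt g (O.ι y) = FlatMor.fibreDimAt (O.ι ≫ g) y :=
      Desc59.EtaleDim.fibreDimAt_eq g (O.ι ≫ g) O.ι (𝟙 Y) (by rw [Category.comp_id]) y
    exact h1.trans hdim
  have hVO : V ≤ O.ι.opensRange := hVT.trans (Scheme.Hom.image_le_opensRange _ _)
  let V' := O.ι ⁻¹ᵁ V
  have hI : O.ι ''ᵁ V' = V := by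
    rw [Scheme.Hom.image_preimage_eq_opensRange_inf, inf_eq_right.2 hVO]
  have hV' : IsAffineOpen V' := hV.preimage_of_isOpenImmersion O.ι hVO
  have hV'U : V' ≤ U2 := fun z hz => by
    obtain ⟨z', hz', hzz⟩ := hVT hz
    rwa [← O.ι.isOpenEmbedding.injective hzz]
  have e' : V' ≤ (O.ι ≫ g) ⁻¹ᵁ V₀ := fun z hz => e hz
  obtain ⟨c⟩ := Var76.OmegaRegular.sections_free i hV'U
  obtain ⟨eΩ, -⟩ := exists_chartEquiv (Var76.OmegaUniv.isUniversal (O.ι ≫ g)) hV' hV₀ e'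
  have hle' : O.ι ''ᵁ V' ≤ g ⁻¹ᵁ V₀ := hI.le.trans e
  have hφ : (O.ι ≫ g).appLE V₀ V' e' = g.appLE V₀ (O.ι ''ᵁ V') hle' := by
    rw [Scheme.Hom.comp_appLE, Scheme.Opens.ι_appLE, Scheme.Hom.appLE]
  have h0 : letI := ((O.ι ≫ g).appLE V₀ V' e').hom.toAlgebra
      Nonempty (Ω[Γ(O, V')⁄Γ(Y, V₀)] ≃ₗ[Γ(O, V')] (Fin n → Γ(O, V'))) := by
    letI := ((O.ι ≫ g).appLE V₀ V' e').hom.toAlgebra
    exact ⟨eΩ ≪≫ₗ c.symm⟩
  have key : ∀ (φ : Γ(Y, V₀) ⟶ Γ(X, O.ι ''ᵁ V')), φ = g.appLE V₀ (O.ι ''ᵁ V') hle' →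
      (letI := φ.hom.toAlgebra
       Nonempty (Ω[Γ(X, O.ι ''ᵁ V')⁄Γ(Y, V₀)] ≃ₗ[Γ(X, O.ι ''ᵁ V')] (Fin n → Γ(X, O.ι ''ᵁ V')))) →
      (letI := (g.appLE V₀ (O.ι ''ᵁ V') hle').hom.toAlgebra
       Nonempty (Ω[Γ(X, O.ι ''ᵁ V')⁄Γ(Y, V₀)] ≃ₗ[Γ(X, O.ι ''ᵁ V')] (Fin n → Γ(X, O.ι ''ᵁ V')))) := by
    rintro φ rfl hh
    exact hh
  have h1 := key _ hφ h0
  have key2 : ∀ (V1 : X.Opens) (e1 : V1 ≤ g ⁻¹ᵁ V₀), V1 = V →
      (letI := (g.appLE V₀ V1 e1).hom.toAlgebra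
       Nonempty (Ω[Γ(X, V1)⁄Γ(Y, V₀)] ≃ₗ[Γ(X, V1)] (Fin n → Γ(X, V1)))) →
      (letI := (g.appLE V₀ V e).hom.toAlgebra
       Nonempty (Ω[Γ(X, V)⁄Γ(Y, V₀)] ≃ₗ[Γ(X, V)] (Fin n → Γ(X, V)))) := by
    rintro V1 e1 rfl hh
    exact hh
  exact key2 _ hle' hI h1

end Groth.Agent.SchBasics
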