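import Groth.Agent.SchBasics.SmoothTransfer
import Mathlib.AlgebraicGeometry.Morphisms.Smooth
import Mathlib.AlgebraicGeometry.Noetherian

/-! A smooth affine chart around a point near which a morphism is smooth. -/

set_option autoImplicit false
universe u

open AlgebraicGeometry CategoryTheory

namespace Groth.Agent.SchBasics

theorem exists_smooth_chart {X Y : Scheme.{u}} (f : X ⟶ Y) [IsLocallyNoetherian Y] (x : X)
    (hx : ∃ U : X.Opens, x ∈ U ∧ Smooth (U.ι ≫ f)) :
    ∃ (A B : Type u) (_ : CommRing A) (_ : CommRing B) (_ : IsNoetherianRing A) (_ : IsNoetherianRing B)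
      (_ : Algebra A B) (_ : Algebra.Smooth A B) (q : Ideal B) (_ : q.IsPrime),
      Nonempty ((X.presheaf.stalk x : Type u) ≃+* Localization.AtPrime q) ∧
      Nonempty ((Y.presheaf.stalk (f.base x) : Type u) ≃+* Localization.AtPrime (q.under A)) := by
  obtain ⟨U, hxU, hU⟩ := hx
  obtain ⟨V, hV, hxV, -⟩ :=
    exists_isAffineOpen_mem_and_subset (TopologicalSpace.Opens.mem_top (f.base x))
  let g := U.ι ≫ f
  have hy : (⟨x, hxU⟩ : U) ∈ g ⁻¹ᵁ V := hxV
  obtain ⟨W, hW, hyW, hWV⟩ := exists_isAffineOpen_mem_and_subset hy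
  have hs := g.smooth_appLE hV hW hWV
  algebraize [(g.appLE V W hWV).hom]
  let q := (hW.primeIdealOf ⟨⟨x, hxU⟩, hyW⟩).asIdeal
  have : IsNoetherianRing Γ(Y, V) := IsLocallyNoetherian.component_noetherian ⟨V, hV⟩
  have : IsNoetherianRing Γ(U, W) := Algebra.FiniteType.isNoetherianRing Γ(Y, V) _
  refine ⟨Γ(Y, V), Γ(U, W), inferInstance, inferInstance, inferInstance, inferInstance,
    inferInstance, inferInstance, q, inferInstance, ?_, ?_⟩
  · let := TopCat.Presheaf.algebra_section_stalk U.toScheme.presheaf (⟨⟨x, hxU⟩, hyW⟩ : W)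
    have := hW.isLocalization_stalk ⟨⟨x, hxU⟩, hyW⟩
    exact ⟨((U.stalkIso ⟨x, hxU⟩).symm.commRingCatIsoToRingEquiv).trans
      (IsLocalization.algEquiv q.primeCompl _ (Localization.AtPrime q)).toRingEquiv⟩
  · have hVy : g ⟨x, hxU⟩ ∈ V := hWV hyW
    let p := (hV.primeIdealOf ⟨g ⟨x, hxU⟩, hVy⟩).asIdeal
    have hp : q.under Γ(Y, V) = p :=
      congrArg PrimeSpectrum.asIdeal (IsAffineOpen.comap_primeIdealOf_appLE V hV W hW hWV hyW)
    let := TopCat.Presheaf.algebra_section_stalk Y.presheaf (⟨g ⟨x, hxU⟩, hVy⟩ : V)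
    have := hV.isLocalization_stalk ⟨g ⟨x, hxU⟩, hVy⟩
    have key : ∀ (I : Ideal Γ(Y, V)) (_ : I.IsPrime), I = p →
        Nonempty ((Y.presheaf.stalk (g ⟨x, hxU⟩) : Type u) ≃+* Localization.AtPrime I) := by
      intro I _ hI
      subst hI
      exact ⟨(IsLocalization.algEquiv p.primeCompl _ (Localization.AtPrime p)).toRingEquiv⟩
    exact key _ inferInstance hp

end Groth.Agent.SchBasics
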