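import Groth.Agent.SchBasics.StageLocal
import Groth.Agent.LimTop61.FgSubalgLimit
import Groth.Agent.S0591

/-! Models over finitely generated subrings of morphisms of finite presentation. -/

set_option autoImplicit false
set_option backward.isDefEq.respectTransparency false
set_option backward.defeqAttrib.useBackward true
universe u

open CategoryTheory CategoryTheory.Limits AlgebraicGeometry

namespace Groth.Agent.SchBasics

variable {P : MorphismProperty Scheme.{u}} [P.IsStableUnderBaseChange] [IsZariskiLocalAtSource P]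

theorem exists_fg_model (hd : LimDesc62.DescProp @LocallyOfFinitePresentation P)
    (hι : ∀ {A B C : Scheme.{u}} (h : A ⟶ B) (m : B ⟶ C) [IsOpenImmersion m], P h → P (h ≫ m))
    (A : Type u) [CommRing A] {X : Scheme.{u}} (f : X ⟶ Spec (CommRingCat.of A))
    [LocallyOfFinitePresentation f] [QuasiCompact f] [QuasiSeparated f] (hf : P f) :
    ∃ A₀ : Subalgebra ℤ A, A₀.FG ∧
      ∃ (X₀ : Scheme.{u}) (f₀ : X₀ ⟶ Spec (CommRingCat.of ↥A₀)) (g : X ⟶ X₀),
        P f₀ ∧ LocallyOfFinitePresentation f₀ ∧ QuasiCompact f₀ ∧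
          IsPullback g f f₀ (Spec.map (CommRingCat.ofHom (algebraMap (↥A₀) A))) := by
  let R : CommRingCat.{u} := CommRingCat.of A
  let Z : CommRingCat.{u} := CommRingCat.of (ULift.{u} ℤ)
  let : Algebra (ULift.{u} ℤ) A := ((algebraMap ℤ A).comp ULift.ringEquiv.toRingHom).toAlgebra
  let : Algebra Z R := ‹Algebra (ULift.{u} ℤ) A›
  let D := LimTop61.subalgSpec Z R
  let c := LimTop61.subalgCone Z R
  have hc : IsLimit c := LimTop61.isLimitSubalgCone Z R
  let f' : X ⟶ c.pt := f
  have : IsDirectedOrder (LimTop61.FgSubalg Z R) :=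
    ⟨fun S T => ⟨⟨S.1 ⊔ T.1, S.2.sup T.2⟩, le_sup_left (a := S.1), le_sup_right (a := S.1)⟩⟩
  have : Nonempty (LimTop61.FgSubalg Z R) := ⟨⟨⊥, Subalgebra.fg_bot⟩⟩
  have : IsFiltered (LimTop61.FgSubalg Z R) := isFiltered_of_directed_le_nonempty _
  have : IsCofiltered (LimTop61.FgSubalg Z R)ᵒᵖ := isCofiltered_op_of_isFiltered _
  have : LocallyOfFinitePresentation f' := ‹LocallyOfFinitePresentation f›
  have : QuasiCompact f' := ‹QuasiCompact f›
  have : QuasiSeparated f' := ‹QuasiSeparated f›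
  obtain ⟨i, Xi, fi, q, h1, h2, h3, hpb⟩ := S0591.result D c hc X f'
  have hid : IsPullback (c.π.app i) (𝟙 c.pt) (𝟙 (D.obj i)) (c.π.app i) :=
    IsPullback.id_vert _
  have : LocallyOfFinitePresentation (fi ≫ 𝟙 (D.obj i)) := by rw [Category.comp_id]; exact h1
  have : CompactSpace Xi := QuasiCompact.compactSpace_of_compactSpace fi
  obtain ⟨j, φ, Xj, Yj, fj, gj, pY, pX, hYj, hXj, hP⟩ :=
    exists_stage_of_compact (P := P) (g₀ := 𝟙 (D.obj i)) D c hd hι hc hid hpb hf
  have : IsIso gj := hYj.isIso_snd_of_isIso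
  let u : c.pt ⟶ Yj := hYj.lift (c.π.app i) (c.π.app j) (by rw [Category.comp_id, c.w φ])
  let v : X ⟶ Xj := hXj.lift q (f' ≫ u) (by rw [hpb.w, Category.assoc, hYj.lift_fst])
  obtain ⟨u', -, hY', hX'⟩ := isPullback_to_stage D c hid hpb hYj hXj v (hXj.lift_fst _ _ _)
    (by rw [← Category.assoc, hXj.lift_snd, Category.assoc, hYj.lift_snd]; exact congrArg (f' ≫ ·) (Category.id_comp (c.π.app j)).symm)
  have hsq : IsPullback v (f' ≫ 𝟙 c.pt) (fj ≫ gj) (c.π.app j) := hX'.paste_vert hY'
  let S : Subalgebra Z R := j.unop.1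
  let A₀ : Subalgebra ℤ A := subalgebraOfSubring S.toSubring
  have hFG : A₀.FG := by
    classical
    obtain ⟨s, hs⟩ := j.unop.2
    refine ⟨s, le_antisymm (Algebra.adjoin_le fun x hx => ?_) fun x hx => ?_⟩
    · show x ∈ S
      exact hs.le (Algebra.subset_adjoin hx)
    · have hx' : x ∈ Algebra.adjoin Z (s : Set R) := hs.ge (hx : x ∈ S)
      clear hx
      induction hx' using Algebra.adjoin_induction with
      | mem y hy => exact Algebra.subset_adjoin hy
      | algebraMap r => exact Subalgebra.algebraMap_mem (R := ℤ) (A := A) _ r.down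
      | add y z _ _ hy hz => exact Subalgebra.add_mem _ hy hz
      | mul y z _ _ hy hz => exact Subalgebra.mul_mem _ hy hz
  let e : D.obj j ⟶ Spec (CommRingCat.of ↥A₀) :=
    Spec.map (CommRingCat.ofHom ((RingHom.id A).restrict A₀.toSubring S.toSubring fun x hx => hx))
  have : IsIso e := by
    have : IsIso (CommRingCat.ofHom ((RingHom.id A).restrict A₀.toSubring S.toSubring fun x hx => hx) :
        CommRingCat.of ↥A₀ ⟶ CommRingCat.of ↥S) :=
      (ConcreteCategory.isIso_iff_bijective _).mpr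
        ⟨fun a b h => Subtype.ext (congrArg (fun z : ↥S => z.1) h), fun a => ⟨⟨a.1, a.2⟩, rfl⟩⟩
    exact inferInstanceAs (IsIso (Spec.map _))
  have he : c.π.app j ≫ e = Spec.map (CommRingCat.ofHom (algebraMap (↥A₀) A)) := by
    show Spec.map _ ≫ Spec.map _ = _
    rw [← Spec.map_comp]
    rfl
  have : QuasiCompact fj := MorphismProperty.of_isPullback hXj h2
  have : LocallyOfFinitePresentation fj := by
    have := LimDesc62.isStableUnderBaseChange_lfp.{u}
    exact MorphismProperty.of_isPullback hXj h1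
  refine ⟨A₀, hFG, Xj, fj ≫ gj ≫ e, v, ?_, inferInstance, inferInstance, ?_⟩
  · exact hι fj (gj ≫ e) hP
  · rw [← he, ← Category.assoc]
    exact hsq.of_iso (Iso.refl _) (Iso.refl _) (Iso.refl _) (asIso e) (by simp)
      (by simp [f']) (by simp) (by simp)

end Groth.Agent.SchBasics
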