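import Mathlib.AlgebraicGeometry.Morphisms.QuasiFinite
import Mathlib.AlgebraicGeometry.Morphisms.ClosedImmersion
import Mathlib.AlgebraicGeometry.Noetherian
import Mathlib.AlgebraicGeometry.Morphisms.UniversallyOpen
import Mathlib.RingTheory.Algebraic.Basic
import Groth.Agent.SchBasics.Closure

set_option autoImplicit false
universe u
open AlgebraicGeometry CategoryTheory IsLocalRing

namespace Groth.Agent.SchBasics

variable {X S : Scheme.{u}} (f : X ⟶ S)

/-- A point with algebraic residue extension has no proper specialization in its fibre. -/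
lemma eq_of_specializes_of_isAlgebraic {x y : X}
    (halg : @Algebra.IsAlgebraic (S.residueField (f x)) (X.residueField x) _ _ (f.residueFieldMap x).hom.toAlgebra)
    (hxy : x ⤳ y) (hf : f y = f x) : y = x := by
  let α : X.presheaf.stalk y ⟶ X.residueField x := X.presheaf.stalkSpecializes hxy ≫ X.residue x
  let σ : S.presheaf.stalk (f y) ⟶ S.presheaf.stalk (f x) :=
    S.presheaf.stalkSpecializes (specializes_of_eq hf.symm)
  have hsq : f.stalkMap y ≫ α = σ ≫ S.residue (f x) ≫ f.residueFieldMap x := by
    simp only [α, σ, Scheme.residue_residueFieldMap]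
    rw [← Scheme.Hom.stalkSpecializes_stalkMap_assoc f x y hxy]
  have hσ : Function.Surjective σ := by
    have : IsIso σ := by
      refine ⟨S.presheaf.stalkSpecializes (specializes_of_eq hf), ?_, ?_⟩ <;>
        simp [σ, TopCat.Presheaf.stalkSpecializes_comp, TopCat.Presheaf.stalkSpecializes_refl]
    exact (ConcreteCategory.bijective_of_isIso σ).surjective
  have hloc : IsLocalHom α.hom := by
    refine ⟨fun a ha => ?_⟩
    by_contra hu
    let := (f.residueFieldMap x).hom.toAlgebra
    obtain ⟨p, hp0, hp⟩ : ∃ p : Polynomial (S.residueField (f x)), p.coeff 0 ≠ 0 ∧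
        Polynomial.aeval (α a) p = 0 := by
      obtain ⟨p, hp0, hp⟩ := halg.isAlgebraic (α a)
      obtain ⟨q, hq, hqn⟩ := Polynomial.exists_eq_pow_rootMultiplicity_mul_and_not_dvd p hp0 0
      refine ⟨q, fun h => hqn (by rwa [map_zero, sub_zero, Polynomial.X_dvd_iff]), ?_⟩
      rw [hq, map_mul, map_pow, map_sub, Polynomial.aeval_X, map_zero, map_zero, sub_zero] at hp
      exact (mul_eq_zero.mp hp).resolve_left (pow_ne_zero _ ha.ne_zero)
    have hsurj : Function.Surjective (σ ≫ S.residue (f x)).hom :=
      (IsLocalRing.residue_surjective).comp hσ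
    obtain ⟨P, hP⟩ := Polynomial.map_surjective _ hsurj p
    have hev : α (Polynomial.eval₂ (f.stalkMap y).hom a P) = 0 := by
      rw [← hp, ← hP, Polynomial.aeval_def, Polynomial.eval₂_map]
      refine (Polynomial.hom_eval₂ P (f.stalkMap y).hom α.hom a).trans ?_
      rw [show α.hom.comp (f.stalkMap y).hom = (f.stalkMap y ≫ α).hom from rfl, hsq]
      rfl
    have hnu : ¬ IsUnit (Polynomial.eval₂ (f.stalkMap y).hom a P) := fun h => (h.map α.hom).ne_zero hev
    have hsum : Polynomial.eval₂ (f.stalkMap y).hom a P - f.stalkMap y (P.coeff 0) ∈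
        maximalIdeal (X.presheaf.stalk y) := by
      conv => enter [2]; rw [← Polynomial.X_mul_divX_add P]
      simp only [Polynomial.eval₂_add, Polynomial.eval₂_mul, Polynomial.eval₂_X, Polynomial.eval₂_C,
        Polynomial.coeff_add, Polynomial.mul_coeff_zero, Polynomial.coeff_X_zero, zero_mul,
        Polynomial.coeff_C_zero, zero_add, add_sub_cancel_right]
      exact Ideal.mul_mem_right _ _ hu
    have h0 : ¬ IsUnit (P.coeff 0) := fun h => by
      have := Ideal.sub_mem _ (show Polynomial.eval₂ (f.stalkMap y).hom a P ∈
        maximalIdeal (X.presheaf.stalk y) from hnu) hsum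
      rw [sub_sub_cancel] at this
      exact this (h.map _)
    refine hp0 ?_
    rw [← hP, Polynomial.coeff_map]
    change S.residue (f x) (σ (P.coeff 0)) = 0
    exact (residue_eq_zero_iff _).mpr fun h => h0 (by
      have : IsLocalHom σ.hom := by
        have : IsIso σ := by
          rw [ConcreteCategory.isIso_iff_bijective]
          exact ⟨fun u v huv => by
            have := congrArg (S.presheaf.stalkSpecializes (specializes_of_eq hf)) huv
            simpa [σ, ← CommRingCat.comp_apply, TopCat.Presheaf.stalkSpecializes_comp,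
              TopCat.Presheaf.stalkSpecializes_refl] using this, hσ⟩
        exact isLocalHom_of_isIso σ
      exact (isUnit_map_iff σ.hom _).mp h)
  have h1 : X.fromSpecResidueField x = Spec.map α ≫ X.fromSpecStalk y := by
    rw [Scheme.fromSpecResidueField, Spec.map_comp, Category.assoc,
      Scheme.SpecMap_stalkSpecializes_fromSpecStalk]
  have h2 := congrArg (fun φ => φ (closedPoint (X.residueField x))) h1
  simp only [Scheme.fromSpecResidueField_apply, Scheme.Hom.comp_apply] at h2
  have h3 : Spec.map α (closedPoint (X.residueField x)) = closedPoint (X.presheaf.stalk y) :=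
    comap_closedPoint α.hom
  rw [h3, Scheme.fromSpecStalk_closedPoint] at h2
  exact h2.symm

lemma isClosed_singleton_asFiber (x : X)
    (halg : @Algebra.IsAlgebraic (S.residueField (f x)) (X.residueField x) _ _ (f.residueFieldMap x).hom.toAlgebra) :
    IsClosed ({f.asFiber x} : Set (f.fiber (f x))) ∧ (IsClosed ({f x} : Set S) → IsClosed ({x} : Set X)) := by
  refine ⟨?_, fun hs => ?_⟩
  · rw [← closure_subset_iff_isClosed]
    intro p hp
    have h1 : x ⤳ f.fiberι _ p := by
      have h := (specializes_iff_mem_closure.mpr hp).map (f.fiberι (f x)).continuous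
      rwa [f.fiberι_asFiber x] at h
    have h2 : f (f.fiberι _ p) = f x := by
      have : f.fiberι _ p ∈ Set.range (f.fiberι (f x)) := ⟨p, rfl⟩
      rwa [Scheme.Hom.range_fiberι] at this
    exact (f.fiberι (f x)).isEmbedding.injective
      ((eq_of_specializes_of_isAlgebraic f halg h1 h2).trans (f.fiberι_asFiber x).symm)
  · rw [← closure_subset_iff_isClosed]
    intro y hy
    have h1 : x ⤳ y := specializes_iff_mem_closure.mpr hy
    have h2 : f y = f x := hs.closure_subset (specializes_iff_mem_closure.mp (h1.map f.continuous))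
    exact eq_of_specializes_of_isAlgebraic f halg h1 h2

lemma isClosed_singleton_asFiber_iff [LocallyOfFiniteType f] (x : X) :
    IsClosed ({f.asFiber x} : Set (f.fiber (f x))) ↔ (f.residueFieldMap x).hom.Finite := by
  constructor
  · intro h
    have : IsClosedImmersion (f.asFiberHom x) := .of_isPreimmersion _ (by rwa [Scheme.Hom.range_asFiberHom])
    have : LocallyOfFiniteType (f.fiberToSpecResidueField (f x)) :=
      MorphismProperty.pullback_snd _ _ inferInstance
    have h1 : LocallyOfFiniteType (Spec.map (f.residueFieldMap x)) := by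
      rw [← f.asFiberHom_fiberToSpecResidueField x]; infer_instance
    have h2 : (f.residueFieldMap x).hom.FiniteType := HasRingHomProperty.Spec_iff.mp h1
    algebraize [(f.residueFieldMap x).hom]
    exact finite_of_finite_type_of_isJacobsonRing (S.residueField (f x)) (X.residueField x)
  · intro h
    refine (isClosed_singleton_asFiber f x ?_).1
    let := (f.residueFieldMap x).hom.toAlgebra
    have : Module.Finite (S.residueField (f x)) (X.residueField x) := h
    exact Algebra.IsAlgebraic.of_finite _ _

lemma quasiFiniteAt_iff_closed_maximal [LocallyOfFiniteType f] (x : X) :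
    f.QuasiFiniteAt x ↔ IsClosed ({f.asFiber x} : Set (f.fiber (f x))) ∧
      ∀ p : f.fiber (f x), p ⤳ f.asFiber x → p = f.asFiber x := by
  constructor
  · intro h
    exact ⟨h.isClopen_singleton_asFiber.1, fun p hp =>
      hp.mem_open h.isClopen_singleton_asFiber.2 rfl⟩
  rintro ⟨hc, hmax⟩
  rw [Scheme.Hom.quasiFiniteAt_iff_isOpen_singleton_asFiber]
  set q := f.asFiber x
  have : LocallyOfFiniteType (f.fiberToSpecResidueField (f x)) :=
    MorphismProperty.pullback_snd _ _ inferInstance
  have : IsLocallyNoetherian (f.fiber (f x)) :=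
    LocallyOfFiniteType.isLocallyNoetherian (f.fiberToSpecResidueField (f x))
  obtain ⟨W, hW, hqW, -⟩ := exists_isAffineOpen_mem_and_subset (U := ⊤)
    (TopologicalSpace.Opens.mem_top q)
  have : IsNoetherianRing Γ(f.fiber (f x), W) := IsLocallyNoetherian.component_noetherian ⟨W, hW⟩
  have : IsAffine W.toScheme := hW
  have : IsNoetherianRing Γ(W.toScheme, ⊤) :=
    isNoetherianRing_of_ringEquiv _ W.topIso.commRingCatIsoToRingEquiv.symm
  have : IsNoetherian W.toScheme := isNoetherian_iff_of_finite_iSup_eq_top
    (S := fun (_ : Unit) => ⟨⊤, isAffineOpen_top W.toScheme⟩) (by simp) |>.mpr fun _ => this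
  have : TopologicalSpace.NoetherianSpace W.toScheme := inferInstance
  have hfin := TopologicalSpace.NoetherianSpace.finite_irreducibleComponents (α := W.toScheme)
  let q' : W.toScheme := ⟨q, hqW⟩
  have hcomp : ({q'} : Set W.toScheme) ∈ irreducibleComponents W.toScheme := by
    have hcl : closure ({q'} : Set W.toScheme) = {q'} :=
      IsClosed.closure_eq (by
        have : ({q'} : Set W.toScheme) = W.ι ⁻¹' {q} := by
          ext w; exact ⟨fun h => h ▸ rfl, fun h => Subtype.ext h⟩
        rw [this]; exact hc.preimage W.ι.continuous)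
    rw [← hcl, closure_singleton_mem_irreducibleComponents_iff]
    intro z hz
    exact Subtype.ext (hmax z.1 (hz.map W.ι.continuous))
  have hopen : IsOpen ({q'} : Set W.toScheme) := by
    have : ({q'} : Set W.toScheme) = (⋃₀ (irreducibleComponents W.toScheme \ {{q'}}))ᶜ := by
      ext w
      constructor
      · rintro rfl ⟨Z, ⟨hZ, hne⟩, hqZ⟩
        exact hne (Set.Subset.antisymm (hcomp.2 hZ.1 (Set.singleton_subset_iff.mpr hqZ))
          (Set.singleton_subset_iff.mpr hqZ))
      · intro hw
        by_contra hne
        refine hw ⟨irreducibleComponent w, ⟨irreducibleComponent_mem_irreducibleComponents w,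
          fun h => hne ?_⟩, mem_irreducibleComponent⟩
        exact h ▸ mem_irreducibleComponent
    rw [this, isOpen_compl_iff]
    rw [Set.sUnion_eq_biUnion]
    exact (hfin.subset Set.sdiff_subset).isClosed_biUnion
      fun Z hZ => isClosed_of_mem_irreducibleComponents Z hZ.1
  have := W.ι.isOpenEmbedding.isOpenMap _ hopen
  rwa [Set.image_singleton] at this

end Groth.Agent.SchBasics

namespace Groth.Agent.SchBasics

open CategoryTheory.Limits

variable {X S : Scheme.{u}} (f : X ⟶ S)

lemma finite_residueFieldMap_of_isPullback [LocallyOfFiniteType f] {X' S' : Scheme.{u}} {g : S' ⟶ S}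
    {g' : X' ⟶ X} {f' : X' ⟶ S'} (hsq : IsPullback g' f' f g) (x' : X')
    (h : (f.residueFieldMap (g' x')).hom.Finite) : (f'.residueFieldMap x').hom.Finite := by
  have : LocallyOfFiniteType f' := MorphismProperty.of_isPullback hsq inferInstance
  set x := g' x'
  let a := Spec.map (f.residueFieldMap x)
  have he : g (f' x') = f x := by
    rw [← Scheme.Hom.comp_apply, ← hsq.w, Scheme.Hom.comp_apply]
  let b : Spec (S'.residueField (f' x')) ⟶ Spec (S.residueField (f x)) :=
    Spec.map ((S.residueFieldCongr he.symm).hom ≫ g.residueFieldMap (f' x'))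
  have hb : b ≫ S.fromSpecResidueField (f x) = S'.fromSpecResidueField (f' x') ≫ g := by
    simp [b, Spec.map_comp]
  have : IsFinite a := (IsFinite.SpecMap_iff _).mpr h
  let Q := pullback a b
  let l : Q ⟶ X' := hsq.lift (pullback.fst a b ≫ X.fromSpecResidueField x)
    (pullback.snd a b ≫ S'.fromSpecResidueField (f' x')) (by
      rw [Category.assoc, ← Scheme.Hom.SpecMap_residueFieldMap_fromSpecResidueField,
        pullback.condition_assoc, hb, Category.assoc])
  let j : Spec (X'.residueField x') ⟶ Q :=
    pullback.lift (Spec.map (g'.residueFieldMap x')) (Spec.map (f'.residueFieldMap x')) (by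
      rw [← cancel_mono (S.fromSpecResidueField (f x)), Category.assoc, Category.assoc, hb,
        Scheme.Hom.SpecMap_residueFieldMap_fromSpecResidueField,
        Scheme.Hom.SpecMap_residueFieldMap_fromSpecResidueField_assoc,
        Scheme.Hom.SpecMap_residueFieldMap_fromSpecResidueField_assoc, hsq.w])
  have hjl : j ≫ l = X'.fromSpecResidueField x' := by
    apply hsq.hom_ext
    · rw [Category.assoc, hsq.lift_fst, pullback.lift_fst_assoc,
        Scheme.Hom.SpecMap_residueFieldMap_fromSpecResidueField]
    · rw [Category.assoc, hsq.lift_snd, pullback.lift_snd_assoc,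
        Scheme.Hom.SpecMap_residueFieldMap_fromSpecResidueField]
  have : Finite Q := by
    have h1 := (pullback.snd a b).finite_preimage_singleton (closedPoint (S'.residueField (f' x')))
    refine Set.finite_univ_iff.mp (h1.subset fun q _ => ?_)
    exact Subsingleton.elim (α := PrimeSpectrum _) _ _
  have : JacobsonSpace Q := LocallyOfFiniteType.jacobsonSpace (pullback.snd a b)
  have : DiscreteTopology Q := inferInstance
  set q := j (closedPoint (X'.residueField x'))
  have : IsClosedImmersion (Q.fromSpecResidueField q) := .of_isPreimmersion _ (isClosed_discrete _)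
  obtain ⟨γ, hγ⟩ : ∃ γ : Q.residueField q ⟶ X'.residueField x', Spec.map γ ≫ Q.fromSpecResidueField q = j :=
    ⟨_, Scheme.descResidueField_stalkClosedPointTo_fromSpecResidueField _ Q j⟩
  have hlq : l q = x' := by
    rw [← Scheme.Hom.comp_apply, hjl, Scheme.fromSpecResidueField_apply]
  have hsplit : (X'.residueFieldCongr hlq.symm).hom ≫ l.residueFieldMap q ≫ γ = 𝟙 _ := by
    apply Spec.map_injective
    rw [← cancel_mono (X'.fromSpecResidueField x'), Spec.map_comp, Spec.map_comp, Category.assoc,
      Category.assoc, Scheme.residueFieldCongr_fromSpecResidueField,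
      Scheme.Hom.SpecMap_residueFieldMap_fromSpecResidueField, reassoc_of% hγ, hjl, Spec.map_id,
      Category.id_comp]
  have hsurj : Function.Surjective γ := fun y => ⟨((X'.residueFieldCongr hlq.symm).hom ≫ l.residueFieldMap q) y, by
    rw [← CommRingCat.comp_apply, Category.assoc, hsplit]; rfl⟩
  have : IsClosedImmersion (Spec.map γ) := IsClosedImmersion.spec_of_surjective _ hsurj
  have h1 : LocallyOfFiniteType (Spec.map (f'.residueFieldMap x')) := by
    rw [show Spec.map (f'.residueFieldMap x') = j ≫ pullback.snd a b from (pullback.lift_snd _ _ _).symm,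
      ← hγ]
    infer_instance
  have h2 : (f'.residueFieldMap x').hom.FiniteType := HasRingHomProperty.Spec_iff.mp h1
  algebraize [(f'.residueFieldMap x').hom]
  exact finite_of_finite_type_of_isJacobsonRing (S'.residueField (f' x')) (X'.residueField x')

lemma quasiFiniteAt_baseChange_iff [LocallyOfFiniteType f] {X' S' : Scheme.{u}} {g : S' ⟶ S}
    {g' : X' ⟶ X} {f' : X' ⟶ S'} (hsq : IsPullback g' f' f g) (x' : X') :
    f'.QuasiFiniteAt x' ↔ f.QuasiFiniteAt (g' x') := by
  have : LocallyOfFiniteType f' := MorphismProperty.of_isPullback hsq inferInstance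
  have he : g (f' x') = f (g' x') := by
    rw [← Scheme.Hom.comp_apply, ← hsq.w, Scheme.Hom.comp_apply]
  -- the map of fibres
  let b : Spec (S'.residueField (f' x')) ⟶ Spec (S.residueField (f (g' x'))) :=
    Spec.map ((S.residueFieldCongr he.symm).hom ≫ g.residueFieldMap (f' x'))
  have hb : b ≫ S.fromSpecResidueField (f (g' x')) = S'.fromSpecResidueField (f' x') ≫ g := by
    simp [b, Spec.map_comp]
  let π : f'.fiber (f' x') ⟶ f.fiber (f (g' x')) :=
    pullback.lift (f'.fiberι _ ≫ g') (f'.fiberToSpecResidueField _ ≫ b) (by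
      rw [Category.assoc, hsq.w, reassoc_of% f'.fiber_fac (f' x'), Category.assoc, hb])
  have hπι : π ≫ f.fiberι _ = f'.fiberι _ ≫ g' := pullback.lift_fst _ _ _
  have hπ : π (f'.asFiber x') = f.asFiber (g' x') := by
    apply (f.fiberι _).isEmbedding.injective
    rw [← Scheme.Hom.comp_apply, hπι, Scheme.Hom.comp_apply, f'.fiberι_asFiber, f.fiberι_asFiber]
  constructor
  · intro h
    rw [Scheme.Hom.quasiFiniteAt_iff_isOpen_singleton_asFiber] at h ⊢
    have h1 : IsPullback π (f'.fiberToSpecResidueField _) (f.fiberToSpecResidueField _) b := by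
      refine IsPullback.of_right ?_ (pullback.lift_snd _ _ _)
        (IsPullback.of_hasPullback f (S.fromSpecResidueField (f (g' x'))))
      have h2 := (IsPullback.of_hasPullback f' (S'.fromSpecResidueField (f' x'))).paste_horiz hsq
      rw [← hb] at h2
      have hπι' : π ≫ pullback.fst f (S.fromSpecResidueField (f (g' x'))) =
          pullback.fst f' (S'.fromSpecResidueField (f' x')) ≫ g' := hπι
      rw [hπι']
      exact h2
    have : UniversallyOpen b := inferInstance
    have : UniversallyOpen π := MorphismProperty.of_isPullback h1.flip ‹UniversallyOpen b›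
    have := π.isOpenMap _ h
    rwa [Set.image_singleton, hπ] at this
  · intro h
    rw [quasiFiniteAt_iff_closed_maximal]
    have hc := h.isClopen_singleton_asFiber
    have key : ∀ p : f'.fiber (f' x'), π p = f.asFiber (g' x') → IsClosed ({p} : Set (f'.fiber (f' x'))) := by
      intro p hp
      have hp1 : g' (f'.fiberι _ p) = g' x' := by
        rw [← Scheme.Hom.comp_apply, ← hπι, Scheme.Hom.comp_apply, hp, f.fiberι_asFiber]
      have hp2 : f' (f'.fiberι _ p) = f' x' := by
        have : f'.fiberι _ p ∈ Set.range (f'.fiberι (f' x')) := ⟨p, rfl⟩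
        rwa [Scheme.Hom.range_fiberι] at this
      have hfin : (f'.residueFieldMap (f'.fiberι _ p)).hom.Finite :=
        finite_residueFieldMap_of_isPullback f hsq _ (by
          rw [hp1]; exact (isClosed_singleton_asFiber_iff f (g' x')).mp hc.1)
      have hcl := (isClosed_singleton_asFiber_iff f' (f'.fiberι _ p)).mpr hfin
      generalize hw : f'.fiberι _ p = w at hcl hp2
      revert p
      revert hcl
      have : ∀ s, f' w = s → IsClosed ({f'.asFiber w} : Set (f'.fiber (f' w))) → ∀ p : f'.fiber s,
          f'.fiberι s p = w → IsClosed ({p} : Set (f'.fiber s)) := by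
        rintro s rfl hcl p hp
        convert hcl
        exact (f'.fiberι _).isEmbedding.injective (hp.trans (f'.fiberι_asFiber w).symm)
      intro hcl p _ _ _ hw
      exact this _ hp2 hcl p hw
    refine ⟨key _ hπ, fun p hp => ?_⟩
    have : π p = f.asFiber (g' x') := by
      have h1 : π p ⤳ f.asFiber (g' x') := hπ ▸ hp.map π.continuous
      exact h1.mem_open hc.2 rfl
    exact ((key p this).closure_subset (specializes_iff_mem_closure.mp hp)).symm

end Groth.Agent.SchBasics
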