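import Groth.Agent.SpPts86.MonoField
import Mathlib.AlgebraicGeometry.Limits
import Mathlib.AlgebraicGeometry.PullbackCarrier

/-! Monomorphisms into disjoint unions of spectra of fields. -/

universe u

open CategoryTheory CategoryTheory.Limits AlgebraicGeometry

namespace Groth.Agent.SchBasics

theorem exists_iso_sigma_of_mono {ι : Type u} (k : ι → Type u) [∀ i, Field (k i)]
    {Y : Scheme.{u}} (f : Y ⟶ ∐ fun i => Spec (CommRingCat.of (k i))) [Mono f] :
    ∃ (J : Set ι) (e : Y ≅ ∐ fun j : J => Spec (CommRingCat.of (k j.1))),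
      e.hom ≫ Sigma.desc (fun j : J => Sigma.ι (fun i => Spec (CommRingCat.of (k i))) j.1) = f := by
  let g := fun i => Spec (CommRingCat.of (k i))
  let J : Set ι := {i | Nonempty ↥(pullback f (Sigma.ι g i))}
  let d : (∐ fun j : J => Spec (CommRingCat.of (k j.1))) ⟶ ∐ g :=
    Sigma.desc (fun j : J => Sigma.ι g j.1)
  have hiso : ∀ j : J, IsIso (pullback.snd f (Sigma.ι g j.1)) := fun j =>
    have : Nonempty ↥(pullback f (Sigma.ι g j.1)) := j.2
    Groth.Agent.SpPts86.isIso_of_mono_spec_field _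
  let φ : (∐ fun j : J => Spec (CommRingCat.of (k j.1))) ⟶ Y :=
    Sigma.desc fun j => inv (pullback.snd f (Sigma.ι g j.1)) ≫ pullback.fst f (Sigma.ι g j.1)
  have hφ : φ ≫ f = d := by
    refine Sigma.hom_ext _ _ fun j => ?_
    simp [φ, d, pullback.condition]
  have hd : IsOpenImmersion d := by
    have hi : ∀ i, IsOpenImmersion (Sigma.ι g i) := fun i => (sigmaOpenCover g).map_prop i
    have : ∀ j : J, IsOpenImmersion (Sigma.ι g j.1) := fun j => hi j.1
    refine isOpenImmersion_sigmaDesc _ _ fun i j hij => ?_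
    rw [Function.onFun_apply, Set.disjoint_iff_forall_ne]
    rintro _ ⟨x, rfl⟩ _ ⟨y, rfl⟩ h
    rw [← sigmaMk_mk, ← sigmaMk_mk] at h
    exact hij (Subtype.ext (congrArg Sigma.fst ((sigmaMk g).injective h)))
  have hφo : IsOpenImmersion φ := by
    have hpb : IsPullback (𝟙 _) φ (φ ≫ f) f := by
      refine IsPullback.of_isLimit' ⟨by simp⟩ (PullbackCone.IsLimit.mk _ (fun s => s.fst)
        (fun s => Category.comp_id _) (fun s => ?_) (fun s m h1 _ => ?_))
      · rw [← cancel_mono f, Category.assoc]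
        exact s.condition
      · simpa using h1
    exact MorphismProperty.of_isPullback (P := @IsOpenImmersion) hpb (hφ ▸ hd)
  have hφs : φ.opensRange = ⊤ := by
    rw [eq_top_iff]
    intro y _
    obtain ⟨i, x, hx⟩ := (sigmaOpenCover g).exists_eq (f y)
    obtain ⟨z, hz, -⟩ := Scheme.Pullback.exists_preimage_pullback (f := f) (g := Sigma.ι g i) y x hx.symm
    let j : J := ⟨i, ⟨z⟩⟩
    have := hiso j
    refine ⟨Sigma.ι (fun j : J => Spec (CommRingCat.of (k j.1))) j (pullback.snd f (Sigma.ι g i) z), ?_⟩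
    rw [← hz, ← Scheme.Hom.comp_apply, ← Scheme.Hom.comp_apply]
    simp [φ, j]
  have : IsIso φ := isIso_of_isOpenImmersion_of_opensRange_eq_top φ hφs
  exact ⟨J, (asIso φ).symm, (IsIso.inv_comp_eq φ).mpr hφ.symm⟩

end Groth.Agent.SchBasics
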