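import Groth.Agent.S7588
import Mathlib.AlgebraicGeometry.AffineScheme

/-!
Sheaves of sets on the basis of affine opens of a scheme: gluing for two-element principal covers is enough.
-/

set_option autoImplicit false

universe u

open CategoryTheory TopologicalSpace Opposite AlgebraicGeometry

namespace Groth.Agent.SchBasics.AffineBasis

variable {X : Scheme.{u}} (F : (X.affineOpens)ᵒᵖ ⥤ Type u)

/-- Restriction. -/
def rs {U V : X.affineOpens} (h : (V : X.Opens) ≤ U) (s : F.obj (op U)) : F.obj (op V) :=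
  F.map (homOfLE (show V ≤ U from h)).op s

theorem rs_rs {U V W : X.affineOpens} (h : (V : X.Opens) ≤ U) (h' : (W : X.Opens) ≤ V)
    (s : F.obj (op U)) : rs F h' (rs F h s) = rs F (h'.trans h) s := by
  simp only [rs, ← FunctorToTypes.map_comp_apply, ← op_comp, homOfLE_comp]

theorem rs_self {U : X.affineOpens} (h : (U : X.Opens) ≤ U) (s : F.obj (op U)) : rs F h s = s := by
  simp [rs]

/-- The hypothesis: one value on the empty open, gluing for two-element principal covers. -/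
structure PairGlue : Prop where
  subsingleton : ∀ U : X.affineOpens, (U : X.Opens) = ⊥ → Subsingleton (F.obj (op U))
  nonempty : ∀ U : X.affineOpens, (U : X.Opens) = ⊥ → Nonempty (F.obj (op U))
  ext₂ : ∀ (U : X.affineOpens) (f g : Γ(X, (U : X.Opens))),
    (U : X.Opens) ≤ X.basicOpen f ⊔ X.basicOpen g → ∀ s t : F.obj (op U),
      rs F (V := X.affineBasicOpen f) (X.basicOpen_le f) s = rs F (X.basicOpen_le f) t →
      rs F (V := X.affineBasicOpen g) (X.basicOpen_le g) s = rs F (X.basicOpen_le g) t → s = t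
  glue₂ : ∀ (U : X.affineOpens) (f g : Γ(X, (U : X.Opens))),
    (U : X.Opens) ≤ X.basicOpen f ⊔ X.basicOpen g →
      ∀ (a : F.obj (op (X.affineBasicOpen f))) (b : F.obj (op (X.affineBasicOpen g))),
      (∀ (W : X.affineOpens) (h₁ : (W : X.Opens) ≤ X.affineBasicOpen f)
        (h₂ : (W : X.Opens) ≤ X.affineBasicOpen g), rs F h₁ a = rs F h₂ b) →
      ∃ t : F.obj (op U), rs F (X.basicOpen_le f) t = a ∧ rs F (X.basicOpen_le g) t = b

variable {F}

/-- Splitting off one member of a finite principal cover. -/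
theorem exists_split (U : X.affineOpens) (a : Γ(X, (U : X.Opens))) (S : Finset Γ(X, (U : X.Opens)))
    (hcov : (U : X.Opens) ≤ ⨆ f : (insert a (↑S : Set Γ(X, (U : X.Opens))) : Set Γ(X, (U : X.Opens))), X.basicOpen f.1) :
    ∃ g : Γ(X, (U : X.Opens)), (U : X.Opens) ≤ X.basicOpen a ⊔ X.basicOpen g ∧
      X.basicOpen g ≤ ⨆ f : (↑S : Set Γ(X, (U : X.Opens))), X.basicOpen f.1 := by
  classical
  rw [U.2.self_le_iSup_basicOpen_iff, Ideal.eq_top_iff_one] at hcov
  obtain ⟨c, g, hg, h1⟩ := Submodule.mem_span_insert.1 hcov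
  refine ⟨g, fun x hx => ?_, fun x hx => ?_⟩
  · have hu : IsUnit (X.presheaf.germ _ x hx c * X.presheaf.germ _ x hx a + X.presheaf.germ _ x hx g) := by
      rw [← map_mul, ← map_add, ← smul_eq_mul, ← h1, map_one]
      exact isUnit_one
    rcases IsLocalRing.isUnit_or_isUnit_of_isUnit_add hu with h | h
    · exact Or.inl ((X.mem_basicOpen a x hx).2 (isUnit_of_mul_isUnit_right h))
    · exact Or.inr ((X.mem_basicOpen g x hx).2 h)
  · by_contra hne
    have hxU := X.basicOpen_le g hx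
    have : Ideal.span (↑S : Set Γ(X, (U : X.Opens))) ≤
        (IsLocalRing.maximalIdeal (X.presheaf.stalk x)).comap (X.presheaf.germ _ x hxU).hom :=
      Ideal.span_le.2 fun f hf => fun hu => hne (Opens.mem_iSup.2 ⟨⟨f, hf⟩, (X.mem_basicOpen f x hxU).2 hu⟩)
    exact this hg ((X.mem_basicOpen g x hxU).1 hx)

theorem exists_res_basicOpen (U : X.affineOpens) (g f : Γ(X, (U : X.Opens))) :
    ∃ f' : Γ(X, (X.affineBasicOpen g : X.Opens)),
      X.basicOpen f' = (X.affineBasicOpen g : X.Opens) ⊓ X.basicOpen f :=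
  ⟨X.presheaf.map (homOfLE (X.basicOpen_le g)).op f, X.basicOpen_res f _⟩

theorem separated_finset (hF : PairGlue F) : ∀ (n : ℕ) (U : X.affineOpens) (S : Finset Γ(X, (U : X.Opens))),
    S.card ≤ n → (U : X.Opens) ≤ (⨆ f : (↑S : Set Γ(X, (U : X.Opens))), X.basicOpen f.1) →
    ∀ s t : F.obj (op U),
      (∀ f ∈ S, rs F (V := X.affineBasicOpen f) (X.basicOpen_le f) s = rs F (X.basicOpen_le f) t) → s = t := by
  classical
  intro n
  induction n with
  | zero =>
    intro U S hn hcov s t _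
    obtain rfl := Finset.card_eq_zero.1 (Nat.le_zero.1 hn)
    have := hF.subsingleton U (le_bot_iff.1 (hcov.trans (by simp)))
    exact Subsingleton.elim s t
  | succ n ih =>
    intro U S hn hcov s t hst
    rcases S.eq_empty_or_nonempty with rfl | ⟨a, ha⟩
    · exact ih U ∅ (by simp) hcov s t (fun f hf => absurd hf (Finset.notMem_empty f))
    obtain ⟨g, hUg, hgS⟩ := exists_split U a (S.erase a) (by rwa [← Finset.coe_insert, Finset.insert_erase ha])
    refine hF.ext₂ U a g hUg s t (hst a ha) ?_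
    choose r hr using exists_res_basicOpen U g
    refine ih (X.affineBasicOpen g) ((S.erase a).image r)
      (Finset.card_image_le.trans (by rw [Finset.card_erase_of_mem ha]; omega)) (fun x hx => ?_) _ _ ?_
    · obtain ⟨⟨f, hf⟩, hxf⟩ := Opens.mem_iSup.1 (hgS hx)
      exact Opens.mem_iSup.2 ⟨⟨r f, Finset.mem_image_of_mem r hf⟩, (hr f).ge ⟨hx, hxf⟩⟩
    · intro f' hf'
      obtain ⟨f, hf, rfl⟩ := Finset.mem_image.1 hf'
      have hle : (X.affineBasicOpen (r f) : X.Opens) ≤ X.affineBasicOpen f := (hr f).le.trans inf_le_right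
      have h := congrArg (rs F hle) (hst f (Finset.mem_erase.1 hf).2)
      rw [rs_rs, rs_rs] at h ⊢
      exact h

theorem exists_finset_refine (U : X.affineOpens) {ι : Type u} (V : ι → X.Opens)
    (hcov : (U : X.Opens) ≤ ⨆ i, V i) :
    ∃ S : Finset Γ(X, (U : X.Opens)),
      (U : X.Opens) ≤ (⨆ f : (↑S : Set Γ(X, (U : X.Opens))), X.basicOpen f.1) ∧
      ∀ f ∈ S, ∃ i, X.basicOpen f ≤ V i := by
  classical
  have h : ∀ x : (U : X.Opens), ∃ (f : Γ(X, (U : X.Opens))), (x : X) ∈ X.basicOpen f ∧ ∃ i, X.basicOpen f ≤ V i := fun x => by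
    obtain ⟨i, hi⟩ := Opens.mem_iSup.1 (hcov x.2)
    obtain ⟨f, hf, hxf⟩ := U.2.exists_basicOpen_le ⟨x.1, hi⟩ x.2
    exact ⟨f, hxf, i, hf⟩
  choose f hxf hf using h
  obtain ⟨T, hT⟩ := U.2.isCompact.elim_finite_subcover (fun x => (X.basicOpen (f x) : Set X))
    (fun _ => Opens.isOpen _) fun x hx => Set.mem_iUnion.2 ⟨⟨x, hx⟩, hxf ⟨x, hx⟩⟩
  refine ⟨T.image f, fun x hx => ?_, fun g hg => ?_⟩
  · obtain ⟨z, hz, hxz⟩ := Set.mem_iUnion₂.1 (hT hx)
    exact Opens.mem_iSup.2 ⟨⟨f z, Finset.mem_image_of_mem f hz⟩, hxz⟩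
  · obtain ⟨z, _, rfl⟩ := Finset.mem_image.1 hg
    exact hf z

theorem separated (hF : PairGlue F) (U : X.affineOpens) {ι : Type u} (V : ι → X.affineOpens)
    (hV : ∀ i, (V i : X.Opens) ≤ U) (hcov : (U : X.Opens) ≤ ⨆ i, (V i : X.Opens)) (s t : F.obj (op U))
    (h : ∀ i, rs F (hV i) s = rs F (hV i) t) : s = t := by
  obtain ⟨S, hS, hSV⟩ := exists_finset_refine U (fun i => (V i : X.Opens)) hcov
  refine separated_finset hF S.card U S le_rfl hS s t fun f hf => ?_
  obtain ⟨i, hi⟩ := hSV f hf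
  have h' := congrArg (rs F (V := X.affineBasicOpen f) hi) (h i)
  rwa [rs_rs, rs_rs] at h'

/-- Two sections agree as soon as they agree on the affine opens inside members of a cover. -/
theorem separated' (hF : PairGlue F) (U : X.affineOpens) {ι : Type u} (O : ι → X.Opens)
    (hcov : (U : X.Opens) ≤ ⨆ i, O i) (s t : F.obj (op U))
    (h : ∀ i (W : X.affineOpens) (hW : (W : X.Opens) ≤ U), (W : X.Opens) ≤ O i → rs F hW s = rs F hW t) :
    s = t :=
  separated hF U (fun W : {W : X.affineOpens // (W : X.Opens) ≤ U ∧ ∃ i, (W : X.Opens) ≤ O i} => W.1)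
    (fun W => W.2.1) (fun x hx => by
      obtain ⟨i, hi⟩ := Opens.mem_iSup.1 (hcov hx)
      obtain ⟨f, hf, hxf⟩ := U.2.exists_basicOpen_le ⟨x, hi⟩ hx
      exact Opens.mem_iSup.2 ⟨⟨X.affineBasicOpen f, X.basicOpen_le f, i, hf⟩, hxf⟩) s t
    (fun W => W.2.2.elim fun i hi => h i W.1 W.2.1 hi)

theorem glue_finset (hF : PairGlue F) : ∀ (n : ℕ) (U : X.affineOpens) (ι : Type u) (S : Finset ι)
    (f : ι → Γ(X, (U : X.Opens))) (s : ∀ i, F.obj (op (X.affineBasicOpen (f i)))), S.card ≤ n →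
    (U : X.Opens) ≤ (⨆ i : {i // i ∈ S}, X.basicOpen (f i.1)) →
    (∀ i ∈ S, ∀ j ∈ S, ∀ (W : X.affineOpens) (h₁ : (W : X.Opens) ≤ X.affineBasicOpen (f i))
      (h₂ : (W : X.Opens) ≤ X.affineBasicOpen (f j)), rs F h₁ (s i) = rs F h₂ (s j)) →
    ∃ t : F.obj (op U), ∀ i ∈ S, rs F (X.basicOpen_le (f i)) t = s i := by
  classical
  intro n
  induction n with
  | zero =>
    intro U ι S f s hn hcov _
    obtain rfl := Finset.card_eq_zero.1 (Nat.le_zero.1 hn)
    have hU : (U : X.Opens) = ⊥ := le_bot_iff.1 (hcov.trans (iSup_le fun i => absurd i.2 (Finset.notMem_empty _)))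
    exact ⟨(hF.nonempty U hU).some, fun i hi => absurd hi (Finset.notMem_empty i)⟩
  | succ n ih =>
    intro U ι S f s hn hcov hs
    rcases S.eq_empty_or_nonempty with rfl | ⟨a, ha⟩
    · exact ih U ι ∅ f s (by simp) hcov hs
    obtain ⟨g, hUg, hgS⟩ := exists_split U (f a) ((S.erase a).image f) (fun x hx => by
      obtain ⟨⟨i, hi⟩, hxi⟩ := Opens.mem_iSup.1 (hcov hx)
      refine Opens.mem_iSup.2 ⟨⟨f i, ?_⟩, hxi⟩
      rw [← Finset.coe_insert, ← Finset.image_insert, Finset.insert_erase ha]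
      exact Finset.mem_image_of_mem f hi)
    have hgS' : X.basicOpen g ≤ ⨆ i : {i // i ∈ S.erase a}, X.basicOpen (f i.1) := fun x hx => by
      obtain ⟨⟨q, hq⟩, hxq⟩ := Opens.mem_iSup.1 (hgS hx)
      obtain ⟨i, hi, rfl⟩ := Finset.mem_image.1 hq
      exact Opens.mem_iSup.2 ⟨⟨i, hi⟩, hxq⟩
    choose r hr using exists_res_basicOpen U g
    have hle : ∀ i, (X.affineBasicOpen (r (f i)) : X.Opens) ≤ X.affineBasicOpen (f i) := fun i =>
      (hr _).le.trans inf_le_right
    obtain ⟨t', ht'⟩ := ih (X.affineBasicOpen g) ι (S.erase a) (fun i => r (f i))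
      (fun i => rs F (hle i) (s i))
      (by rw [Finset.card_erase_of_mem ha]; omega)
      (fun x hx => by
        obtain ⟨i, hxi⟩ := Opens.mem_iSup.1 (hgS' hx)
        exact Opens.mem_iSup.2 ⟨i, (hr _).ge ⟨hx, hxi⟩⟩)
      fun i hi j hj W h₁ h₂ => by
        rw [rs_rs, rs_rs]
        exact hs i (Finset.mem_erase.1 hi).2 j (Finset.mem_erase.1 hj).2 W _ _
    have hag : ∀ (W : X.affineOpens) (h₁ : (W : X.Opens) ≤ X.affineBasicOpen (f a))
        (h₂ : (W : X.Opens) ≤ X.affineBasicOpen g), rs F h₁ (s a) = rs F h₂ t' := fun W h₁ h₂ => by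
      refine separated' hF W (fun i : {i // i ∈ S.erase a} => X.basicOpen (f i.1)) (h₂.trans hgS') _ _
        fun i W' hW' hWi => ?_
      rw [rs_rs, rs_rs]
      have hW'r : (W' : X.Opens) ≤ X.affineBasicOpen (r (f i.1)) :=
        (le_inf (hW'.trans h₂) hWi).trans (hr _).ge
      have h := congrArg (rs F hW'r) (ht' i.1 i.2)
      rw [rs_rs, rs_rs] at h
      exact (hs a ha i.1 (Finset.mem_erase.1 i.2).2 W' (hW'.trans h₁) hWi).trans h.symm
    obtain ⟨t, hta, htg⟩ := hF.glue₂ U (f a) g hUg (s a) t' hag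
    refine ⟨t, fun i hi => ?_⟩
    refine separated' hF (X.affineBasicOpen (f i)) (fun b : ULift.{u} Bool => bif b.down then X.basicOpen (f a) else X.basicOpen g)
      (fun x hx => ?_) _ _ fun b W hW hWb => ?_
    · rcases hUg (X.basicOpen_le _ hx) with h | h
      · exact Opens.mem_iSup.2 ⟨⟨true⟩, h⟩
      · exact Opens.mem_iSup.2 ⟨⟨false⟩, h⟩
    · rw [rs_rs]
      rcases b with ⟨_ | _⟩
      · have hWg : (W : X.Opens) ≤ X.affineBasicOpen g := hWb
        have h := congrArg (rs F hWg) htg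
        rw [rs_rs] at h
        refine h.trans ?_
        by_cases hia : i = a
        · subst hia; exact (hag W hW hWg).symm
        · have hWr : (W : X.Opens) ≤ X.affineBasicOpen (r (f i)) := (le_inf hWg hW).trans (hr _).ge
          have h' := congrArg (rs F hWr) (ht' i (Finset.mem_erase.2 ⟨hia, hi⟩))
          rw [rs_rs, rs_rs] at h'
          exact h'
      · have hWa : (W : X.Opens) ≤ X.affineBasicOpen (f a) := hWb
        have h := congrArg (rs F hWa) hta
        rw [rs_rs] at h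
        exact h.trans (hs a ha i hi W hWa hW)

/-- The presheaf on the basis of affine opens. -/
def toPre (F : (X.affineOpens)ᵒᵖ ⥤ Type u) : ShB.Pre (X.affineOpens : Set (Opens X)) where
  obj U := F.obj (op U)
  res h s := rs F h s
  res_id _ s := rs_self F _ s
  res_comp h₁ h₂ s := rs_rs F h₁ h₂ s

theorem isSheaf (hF : PairGlue F) : ShB.IsSheaf (toPre F) := by
  classical
  intro c s hs
  have hcompat : ∀ i j (W : X.affineOpens) (h₁ : (W : X.Opens) ≤ (c.V i).1) (h₂ : (W : X.Opens) ≤ (c.V j).1),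
      rs F (U := c.V i) h₁ (s i) = rs F (U := c.V j) h₂ (s j) := fun i j W h₁ h₂ => by
    refine separated' hF W (fun k => ((c.W i j k).1 : X.Opens)) ((le_inf h₁ h₂).trans (c.W_cover i j)) _ _
      fun k W' hW' hWk => ?_
    rw [rs_rs, rs_rs]
    have h := congrArg (rs F (U := c.W i j k) hWk) (hs i j k)
    dsimp only [toPre] at h
    rw [rs_rs, rs_rs] at h
    exact h
  obtain ⟨S, hS, hSV⟩ := exists_finset_refine c.U (fun i => ((c.V i).1 : X.Opens)) c.V_cover
  choose i hi using fun p : {p // p ∈ S} => hSV p.1 p.2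
  obtain ⟨t, ht⟩ := glue_finset hF S.attach.card c.U _ S.attach (fun p => p.1)
    (fun p => rs F (U := c.V (i p)) (V := X.affineBasicOpen p.1) (hi p) (s (i p))) le_rfl
    (fun x hx => by
      obtain ⟨⟨q, hq⟩, hxq⟩ := Opens.mem_iSup.1 (hS hx)
      exact Opens.mem_iSup.2 ⟨⟨⟨q, hq⟩, Finset.mem_attach _ _⟩, hxq⟩)
    fun p _ q _ W h₁ h₂ => by
      rw [rs_rs, rs_rs]
      exact hcompat _ _ W _ _
  refine ⟨t, fun j => ?_, fun t' ht2 => ?_⟩
  · show rs F (U := c.U) (V := c.V j) (c.V_le j) t = s j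
    refine separated' hF (c.V j) (fun p : {p // p ∈ S} => X.basicOpen p.1) (fun x hx => ?_) _ _
      fun p W hW hWp => ?_
    · obtain ⟨⟨q, hq⟩, hxq⟩ := Opens.mem_iSup.1 (hS (c.V_le j hx))
      exact Opens.mem_iSup.2 ⟨⟨q, hq⟩, hxq⟩
    · rw [rs_rs]
      have h := congrArg (rs F (V := W) hWp) (ht p (Finset.mem_attach _ _))
      rw [rs_rs, rs_rs] at h
      exact h.trans (hcompat (i p) j W _ hW)
  · refine separated hF c.U c.V c.V_le c.V_cover t' t fun j => ?_
    refine (ht2 j).trans ?_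
    refine separated' hF (c.V j) (fun p : {p // p ∈ S} => X.basicOpen p.1) (fun x hx => ?_) _ _
      fun p W hW hWp => ?_
    · obtain ⟨⟨q, hq⟩, hxq⟩ := Opens.mem_iSup.1 (hS (c.V_le j hx))
      exact Opens.mem_iSup.2 ⟨⟨q, hq⟩, hxq⟩
    · rw [rs_rs]
      have h := congrArg (rs F (V := W) hWp) (ht p (Finset.mem_attach _ _))
      rw [rs_rs, rs_rs] at h
      exact ((h.trans (hcompat (i p) j W _ hW))).symm

end Groth.Agent.SchBasics.AffineBasis
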