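import Groth.Agent.EGA4Alg4.ZJac
import Groth.Agent.Smooth28.Elem
import Mathlib.RingTheory.Smooth.Locus

/-!
Equations with independent differentials cutting out the closed fibre of a presentation with formally
smooth fibre.
-/

set_option autoImplicit false
set_option linter.style.haveILetI false
set_option backward.isDefEq.respectTransparency.types false

universe u

open MvPolynomial IsLocalRing

namespace Groth.Agent.SchBasics.FibreJac

variable {R : Type u} [CommRing R] {N : ℕ} {B : Type u} [CommRing B] [Algebra R B]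

/-- The difference of two maps from a polynomial ring congruent modulo a square-zero ideal is a
derivation. -/
theorem sub_eq_sum_pderiv (u v : MvPolynomial (Fin N) R →ₐ[R] B) 
    (huv : ∀ g h, (u g - v g) * (u h - v h) = 0) (g : MvPolynomial (Fin N) R) :
    u g - v g = ∑ i, u (pderiv i g) * (u (X i) - v (X i)) := by
  induction g using MvPolynomial.induction_on with
  | C a => simp [algHom_C, pderiv_C]
  | add p q hp hq => simp only [map_add, add_mul, Finset.sum_add_distrib, ← hp, ← hq]; ring
  | mul_X p n hp =>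
    have h0 : (u p - v p) * (u (X n) - v (X n)) = 0 := huv p _
    have h1 : ∀ i, u (pderiv i (p * X n)) = u (pderiv i p) * u (X n) + if n = i then u p else 0 := by
      intro i
      rw [pderiv_mul, pderiv_X, map_add, map_mul, map_mul, Pi.single_apply]
      split_ifs <;> simp_all
    simp only [h1, add_mul, Finset.sum_add_distrib, ite_mul, zero_mul, Finset.sum_ite_eq,
      Finset.mem_univ, if_true]
    have h2 : (∑ i, u (pderiv i p) * u (X n) * (u (X i) - v (X i))) = (u p - v p) * u (X n) := by
      rw [hp, Finset.sum_mul]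
      exact Finset.sum_congr rfl fun i _ => by ring
    rw [h2, map_mul, map_mul]
    linear_combination -h0

variable (R) in
/-- Sections of square-zero surjections from algebras killed by `m`. -/
def HasSections (m : Ideal R) (C : Type u) [CommRing C] [Algebra R C] : Prop :=
  ∀ (B : Type u) [CommRing B] [Algebra R B], (∀ r ∈ m, algebraMap R B r = 0) →
    ∀ π : B →ₐ[R] C, Function.Surjective π → (∀ x y, π x = 0 → π y = 0 → x * y = 0) →
      ∃ s : C →ₐ[R] B, π.comp s = AlgHom.id R C

variable (m : Ideal R) (Q : Ideal (MvPolynomial (Fin N) R)) [Q.IsPrime]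
  (K : Ideal (MvPolynomial (Fin N) R))

/-- Vanishing differentials force membership one order deeper. -/
theorem mem_of_forall_pderiv_mem (hKQ : K ≤ Q) {C : Type u} [CommRing C] [Algebra R C]
    (hC : HasSections R m C) (Φ : Localization.AtPrime Q →ₐ[R] C) (hΦ : Function.Surjective Φ)
    (hker : RingHom.ker Φ = m.map (algebraMap R (Localization.AtPrime Q)) ⊔
      K.map (algebraMap _ (Localization.AtPrime Q)))
    {a : MvPolynomial (Fin N) R} (ha : a ∈ K) (hD : ∀ i, pderiv i a ∈ Q) :
    algebraMap _ (Localization.AtPrime Q) a ∈ m.map (algebraMap R (Localization.AtPrime Q)) ⊔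
      Q.map (algebraMap _ (Localization.AtPrime Q)) * K.map (algebraMap _ (Localization.AtPrime Q)) := by
  set L := Localization.AtPrime Q
  set mL := m.map (algebraMap R L)
  set QL := Q.map (algebraMap (MvPolynomial (Fin N) R) L)
  set KL := K.map (algebraMap (MvPolynomial (Fin N) R) L)
  let I₁ : Ideal L := mL ⊔ QL * KL
  have hI₁ : I₁ ≤ RingHom.ker Φ := by
    rw [hker]
    exact sup_le le_sup_left (le_sup_of_le_right Ideal.mul_le_right)
  let π : (L ⧸ I₁) →ₐ[R] C := Ideal.Quotient.liftₐ I₁ Φ fun x hx => hI₁ hx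
  have hπmk : ∀ x, π (Ideal.Quotient.mk I₁ x) = Φ x := fun x => rfl
  have hπ : Function.Surjective π := fun c => by
    obtain ⟨x, rfl⟩ := hΦ c
    exact ⟨Ideal.Quotient.mk _ x, rfl⟩
  have hmul : ∀ x ∈ QL, ∀ y, Φ y = 0 → x * y ∈ I₁ := by
    intro x hx y hy
    have hy' : y ∈ mL ⊔ KL := hker.le hy
    obtain ⟨y₁, hy₁, y₂, hy₂, rfl⟩ := Submodule.mem_sup.1 hy'
    rw [mul_add]
    exact add_mem (Ideal.mem_sup_left (Ideal.mul_mem_left _ _ hy₁))
      (Ideal.mem_sup_right (Ideal.mul_mem_mul hx hy₂))
  have hsq : ∀ x y, π x = 0 → π y = 0 → x * y = 0 := by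
    intro x y hx hy
    obtain ⟨x, rfl⟩ := Ideal.Quotient.mk_surjective x
    obtain ⟨y, rfl⟩ := Ideal.Quotient.mk_surjective y
    rw [hπmk] at hx hy
    rw [← map_mul, Ideal.Quotient.eq_zero_iff_mem]
    have hx' : x ∈ mL ⊔ KL := hker.le hx
    obtain ⟨x₁, hx₁, x₂, hx₂, rfl⟩ := Submodule.mem_sup.1 hx'
    rw [add_mul]
    exact add_mem (Ideal.mem_sup_left (Ideal.mul_mem_right _ _ hx₁))
      (hmul _ (Ideal.map_mono hKQ hx₂) y hy)
  have hm0 : ∀ r ∈ m, algebraMap R (L ⧸ I₁) r = 0 := fun r hr => by
    rw [IsScalarTower.algebraMap_apply R L (L ⧸ I₁), Ideal.Quotient.algebraMap_eq,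
      Ideal.Quotient.eq_zero_iff_mem]
    exact Ideal.mem_sup_left (Ideal.mem_map_of_mem _ hr)
  obtain ⟨s, hs⟩ := hC (L ⧸ I₁) hm0 π hπ hsq
  let u : MvPolynomial (Fin N) R →ₐ[R] L ⧸ I₁ :=
    (Ideal.Quotient.mkₐ R I₁).comp (IsScalarTower.toAlgHom R _ L)
  let v : MvPolynomial (Fin N) R →ₐ[R] L ⧸ I₁ := s.comp (π.comp u)
  have huv : ∀ g, π (u g - v g) = 0 := fun g => by
    rw [map_sub, show π (v g) = π (u g) from AlgHom.congr_fun hs (π (u g)), sub_self]
  have hπa : π (u a) = 0 := by
    show Φ (algebraMap _ L a) = 0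
    exact hker.ge (Ideal.mem_sup_right (Ideal.mem_map_of_mem _ ha))
  have hva : v a = 0 := by
    show s (π (u a)) = 0
    rw [hπa, map_zero]
  have huv2 : ∀ g g', (u g - v g) * (u g' - v g') = 0 := fun g g' => hsq _ _ (huv g) (huv g')
  have h := sub_eq_sum_pderiv (B := L ⧸ I₁) u v huv2 a
  rw [hva, sub_zero] at h
  have hz : u a = 0 := by
    rw [h]
    refine Finset.sum_eq_zero fun i _ => ?_
    obtain ⟨y, hy⟩ := Ideal.Quotient.mk_surjective (u (X i) - v (X i))
    rw [← hy]
    show Ideal.Quotient.mk I₁ (algebraMap _ L (pderiv i a)) * Ideal.Quotient.mk I₁ y = 0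
    rw [← map_mul, Ideal.Quotient.eq_zero_iff_mem]
    refine hmul _ (Ideal.mem_map_of_mem _ (hD i)) y ?_
    rw [← hπmk, hy]
    exact huv (X i)
  exact Ideal.Quotient.eq_zero_iff_mem.1 hz

/-- Equations with independent differentials at `Q` generating `K` modulo `m` near `Q`. -/
theorem exists_rels (hK : K.FG) (hKQ : K ≤ Q) {C : Type u} [CommRing C] [Algebra R C]
    (hC : HasSections R m C) (Φ : Localization.AtPrime Q →ₐ[R] C) (hΦ : Function.Surjective Φ)
    (hker : RingHom.ker Φ = m.map (algebraMap R (Localization.AtPrime Q)) ⊔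
      K.map (algebraMap _ (Localization.AtPrime Q))) :
    ∃ (c : ℕ) (k : Fin c → MvPolynomial (Fin N) R) (cols : Fin c → Fin N), (∀ j, k j ∈ K) ∧
      Function.Injective cols ∧ Smoothing.jacobianMinor k id cols ∉ Q ∧
      K.map (algebraMap _ (Localization.AtPrime Q)) ≤
        (Ideal.span (Set.range k)).map (algebraMap _ (Localization.AtPrime Q)) ⊔
          m.map (algebraMap R (Localization.AtPrime Q)) := by
  classical
  set L := Localization.AtPrime Q
  let ev := algebraMap (MvPolynomial (Fin N) R) Q.ResidueField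
  let D : MvPolynomial (Fin N) R → (Fin N → Q.ResidueField) := fun a i => ev (pderiv i a)
  obtain ⟨b, hbsub, hbspan, hbli⟩ := exists_linearIndependent Q.ResidueField (D '' (K : Set _))
  have : Finite b := hbli.finite
  obtain ⟨c, ⟨e⟩⟩ := Finite.exists_equiv_fin b
  choose k hkK hkD using fun j : Fin c => hbsub (e.symm j).2
  have hli : LinearIndependent Q.ResidueField fun j => D (k j) := by
    have h := hbli.comp e.symm e.symm.injective
    have he : (fun j => D (k j)) = Subtype.val ∘ e.symm := funext hkD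
    rw [he]
    exact h
  obtain ⟨cols, hdet⟩ := EGA4Alg4.ZJac13.exists_det_ne_zero
    (fun j => (Finsupp.linearEquivFunOnFinite Q.ResidueField Q.ResidueField (Fin N)).symm (D (k j)))
    (hli.map' (Finsupp.linearEquivFunOnFinite Q.ResidueField Q.ResidueField (Fin N)).symm.toLinearMap
      (LinearEquiv.ker _))
  have hminor : Smoothing.jacobianMinor k id cols ∉ Q := fun h => hdet (by
    have h0 : ev (Smoothing.jacobianMinor k id cols) = 0 := Ideal.algebraMap_residueField_eq_zero.2 h
    rw [Smoothing.jacobianMinor, RingHom.map_det] at h0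
    exact (congrArg Matrix.det (Matrix.ext fun i j => rfl)).trans h0)
  refine ⟨c, k, cols, hkK, fun i j hij => ?_, hminor, ?_⟩
  · by_contra hne
    refine hdet (Matrix.det_zero_of_column_eq hne fun r => ?_)
    simp only [Matrix.of_apply, hij]
  set mL := m.map (algebraMap R L)
  set kL := (Ideal.span (Set.range k)).map (algebraMap _ L)
  set KL := K.map (algebraMap (MvPolynomial (Fin N) R) L)
  have key : KL ≤ (kL ⊔ mL) ⊔ Q.map (algebraMap (MvPolynomial (Fin N) R) L) • KL := by
    refine Ideal.map_le_iff_le_comap.2 fun a ha => ?_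
    have hspan : D a ∈ Submodule.span Q.ResidueField (Set.range fun j => D (k j)) := by
      have h1 : D a ∈ Submodule.span Q.ResidueField b := hbspan.ge (Submodule.subset_span ⟨a, ha, rfl⟩)
      refine Submodule.span_mono ?_ h1
      intro z hz
      exact ⟨e ⟨z, hz⟩, by simp [hkD]⟩
    obtain ⟨l, hl⟩ := (Submodule.mem_span_range_iff_exists_fun _).1 hspan
    choose l' hl' using fun j => IsLocalRing.residue_surjective (R := L) (l j)
    obtain ⟨d, hd⟩ := IsLocalization.exist_integer_multiples_of_finite Q.primeCompl l'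
    choose n hn using hd
    let a' := (d : MvPolynomial (Fin N) R) * a - ∑ j, n j * k j
    have hevn : ∀ j, ev (n j) = ev d * l j := fun j => by
      have h1 := congrArg (IsLocalRing.residue L) (hn j)
      rw [Algebra.smul_def, map_mul, hl'] at h1
      exact h1
    have hev0 : ∀ z ∈ K, ev z = 0 := fun z hz => Ideal.algebraMap_residueField_eq_zero.2 (hKQ hz)
    have hDa : ∀ i, pderiv i a' ∈ Q := fun i => by
      rw [← Ideal.algebraMap_residueField_eq_zero]
      show ev (pderiv i a') = 0
      have hli := congrFun hl i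
      simp only [Finset.sum_apply, Pi.smul_apply, smul_eq_mul, D] at hli
      simp only [a', map_sub, map_sum, pderiv_mul, map_add, map_mul, hev0 a ha,
        fun j => hev0 (k j) (hkK j), mul_zero, zero_add, hevn, mul_assoc, ← Finset.mul_sum, hli, sub_self]
    have hu : IsUnit (algebraMap _ L (d : MvPolynomial (Fin N) R)) := IsLocalization.map_units L d
    have haK : a' ∈ K := K.sub_mem (K.mul_mem_left _ ha) (K.sum_mem fun j _ => K.mul_mem_left _ (hkK j))
    have hmem : algebraMap _ L a' ∈ (kL ⊔ mL) ⊔ Q.map (algebraMap (MvPolynomial (Fin N) R) L) • KL := by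
      have := mem_of_forall_pderiv_mem m Q K hKQ hC Φ hΦ hker haK hDa
      exact (sup_le_sup (le_sup_right : mL ≤ kL ⊔ mL) le_rfl :
        mL ⊔ Q.map (algebraMap (MvPolynomial (Fin N) R) L) * KL ≤ _) this
    rw [Ideal.mem_comap, ← Ideal.unit_mul_mem_iff_mem _ hu, ← map_mul,
      show (d : MvPolynomial (Fin N) R) * a = a' + ∑ j, n j * k j by simp [a'], map_add]
    refine add_mem hmem (Ideal.mem_sup_left (Ideal.mem_sup_left (Ideal.mem_map_of_mem _ ?_)))
    exact Ideal.sum_mem _ fun j _ => Ideal.mul_mem_left _ _ (Ideal.subset_span ⟨j, rfl⟩)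
  refine Submodule.le_of_le_smul_of_le_jacobson_bot (hK.map _) ?_ key
  rw [IsLocalRing.jacobson_eq_maximalIdeal _ bot_ne_top,
    Localization.AtPrime.map_eq_maximalIdeal]

end Groth.Agent.SchBasics.FibreJac
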