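import Mathlib
import Groth.Agent.S9415
import Groth.Agent.CAlg1.Regular
import Groth.Agent.EGA4Alg4.RegParam
import Groth.Agent.FlatMor67.RegularSmooth
import Groth.Agent.Sep12.Basic
import Groth.Agent.CAlg5.SmoothRegular

/-! Free differentials and smoothness at one generic point imply smoothness. -/

set_option autoImplicit false
universe u

open IsLocalRing TensorProduct KaehlerDifferential

namespace Groth.Agent.SchBasics

section Local

variable {k P R : Type u} [Field k] [CommRing P] [Algebra k P] [CommRing R] [IsLocalRing R]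
  [Algebra k R] [Algebra P R] [IsScalarTower k P R]

/-- Lifts of a basis of the conormal image together with dual functionals. -/
theorem exists_adapted_kernel_elements [Module.Free P Ω[P⁄k]] [Module.Finite P Ω[P⁄k]]
    [Module.Free R Ω[R⁄k]] (h₁ : Function.Surjective (algebraMap P R)) :
    ∃ (s : ℕ) (g : Fin s → P) (φ : Fin s → (Ω[P⁄k] →ₗ[P] P)),
      (∀ i, g i ∈ RingHom.ker (algebraMap P R)) ∧
      (∀ i j, algebraMap P R (φ i (D k P (g j))) = if i = j then 1 else 0) ∧
      ∀ a ∈ RingHom.ker (algebraMap P R), ∃ r : Fin s → P,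
        (1 : R) ⊗ₜ[P] D k P a = ∑ i, (1 : R) ⊗ₜ[P] (r i • D k P (g i)) := by
  classical
  let β := mapBaseChange k P R
  have hβ : Function.Surjective β := mapBaseChange_surjective k P R h₁
  obtain ⟨σ, hσ⟩ := β.exists_rightInverse_of_surjective (LinearMap.range_eq_top.mpr hβ)
  let K : Submodule R (R ⊗[P] Ω[P⁄k]) := LinearMap.ker β
  let π : R ⊗[P] Ω[P⁄k] →ₗ[R] K := LinearMap.codRestrict K (LinearMap.id - σ ∘ₗ β) fun z => by
    show β (z - σ (β z)) = 0
    rw [map_sub, show β (σ (β z)) = β z from LinearMap.congr_fun hσ (β z), sub_self]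
  have hπ : π ∘ₗ K.subtype = LinearMap.id := LinearMap.ext fun z => Subtype.ext <| by
    show (z : R ⊗[P] Ω[P⁄k]) - σ (β z) = z
    rw [LinearMap.mem_ker.mp z.2, map_zero, sub_zero]
  have : Module.Finite R K := Module.Finite.of_surjective π fun z => ⟨z, LinearMap.congr_fun hπ z⟩
  have : Module.Projective R K := Module.Projective.of_split K.subtype π hπ
  have : Module.Free R K := @Module.free_of_flat_of_isLocalRing R K _ _ _ _ _ _
  let b := Module.finBasis R K
  have hlift : ∀ i, ∃ a : RingHom.ker (algebraMap P R), (1 : R) ⊗ₜ[P] D k P a.1 = (b i : R ⊗[P] Ω[P⁄k]) := by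
    intro i
    have hmem : (b i : R ⊗[P] Ω[P⁄k]) ∈ (LinearMap.ker β).restrictScalars P := (b i).2
    rw [← range_kerCotangentToTensor k P R h₁] at hmem
    obtain ⟨c, hc⟩ := hmem
    obtain ⟨a, rfl⟩ := Ideal.toCotangent_surjective _ c
    exact ⟨a, (kerCotangentToTensor_toCotangent k P R a).symm.trans hc⟩
  choose g hg using hlift
  let c : Fin (Module.finrank R K) → (Ω[P⁄k] →ₗ[P] R) := fun i =>
    ((b.coord i ∘ₗ π).restrictScalars P) ∘ₗ (TensorProduct.mk P R Ω[P⁄k] 1)
  have hφ : ∀ i, ∃ φ : Ω[P⁄k] →ₗ[P] P, Algebra.linearMap P R ∘ₗ φ = c i := fun i =>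
    Module.projective_lifting_property _ _ h₁
  choose φ hφ using hφ
  refine ⟨_, fun i => (g i).1, φ, fun i => (g i).2, fun i j => ?_, fun a ha => ?_⟩
  · have h := LinearMap.congr_fun (hφ i) (D k P (g j).1)
    refine h.trans ?_
    show b.coord i (π ((1 : R) ⊗ₜ[P] D k P (g j).1)) = _
    rw [hg, show π (b j : R ⊗[P] Ω[P⁄k]) = b j from LinearMap.congr_fun hπ (b j)]
    simp [Finsupp.single_apply, eq_comm]
  · have hmem : (1 : R) ⊗ₜ[P] D k P a ∈ K := by
      have : (1 : R) ⊗ₜ[P] D k P a ∈ LinearMap.range (kerCotangentToTensor k P R) :=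
        ⟨(RingHom.ker (algebraMap P R)).toCotangent ⟨a, ha⟩, kerCotangentToTensor_toCotangent k P R _⟩
      rw [range_kerCotangentToTensor k P R h₁] at this
      exact this
    choose r hr using fun i => h₁ (b.repr ⟨_, hmem⟩ i)
    refine ⟨r, ?_⟩
    have h := congrArg Subtype.val (b.sum_repr ⟨_, hmem⟩)
    simp only [Submodule.coe_sum, Submodule.coe_smul] at h
    rw [← h]
    refine Finset.sum_congr rfl fun i _ => ?_
    rw [TensorProduct.tmul_smul, hg, ← hr, algebraMap_smul]

/-- If the differentials are free and one generic point is smooth, the local ring is formally smooth. -/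
theorem formallySmooth_of_free_kaehler_of_generic [IsRegularLocalRing P]
    [Algebra.FormallySmooth k P] [Module.Free P Ω[P⁄k]] [Module.Finite P Ω[P⁄k]]
    [Module.Free R Ω[R⁄k]] (h₁ : Function.Surjective (algebraMap P R))
    (p : Ideal R) [p.IsPrime] (hF : IsField (Localization.AtPrime p))
    [Algebra.FormallySmooth k (Localization.AtPrime p)] : Algebra.FormallySmooth k R := by
  classical
  obtain ⟨s, g, φ, hg, hφ, hspan⟩ := exists_adapted_kernel_elements (k := k) h₁
  set J := RingHom.ker (algebraMap P R) with hJdef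
  have hJm : J ≤ maximalIdeal P := by
    refine IsLocalRing.le_maximalIdeal ?_
    exact RingHom.ker_ne_top _
  let δ : Fin s → Derivation k P P := fun i => (φ i).compDer (D k P)
  have hδ : ∀ (r : Fin s → P) (i : Fin s), δ i (∑ j, r j * g j) - r i ∈ maximalIdeal P := by
    intro r i
    have hJR : ∀ a, algebraMap P R a = 0 → a ∈ maximalIdeal P := fun a ha => hJm ha
    have : algebraMap P R (δ i (∑ j, r j * g j) - r i) = 0 := by
      have h1 : ∀ j, algebraMap P R (δ i (r j * g j)) = if i = j then algebraMap P R (r j) else 0 := by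
        intro j
        rw [Derivation.leibniz, smul_eq_mul, smul_eq_mul, map_add, map_mul, map_mul,
          show algebraMap P R (g j) = 0 from hg j, zero_mul, add_zero]
        show algebraMap P R (r j) * algebraMap P R (φ i (D k P (g j))) = _
        rw [hφ]; split_ifs <;> simp
      rw [map_sub, map_sum, map_sum, Finset.sum_congr rfl fun j _ => h1 j, Finset.sum_ite_eq]
      simp
    exact hJR _ this
  have hδsq : ∀ (i : Fin s), ∀ a ∈ maximalIdeal P ^ 2, δ i a ∈ maximalIdeal P := by
    intro i a ha
    rw [pow_two] at ha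
    refine Submodule.mul_induction_on ha (fun x hx y hy => ?_) (fun x y hx hy => ?_)
    · rw [Derivation.leibniz, smul_eq_mul, smul_eq_mul]
      exact Ideal.add_mem _ (Ideal.mul_mem_right _ _ hx) (Ideal.mul_mem_right _ _ hy)
    · rw [map_add]; exact Ideal.add_mem _ hx hy
  -- the span of `g` is prime
  let I : Ideal P := Ideal.span (Set.range g)
  have hIJ : I ≤ J := Ideal.span_le.mpr (by rintro _ ⟨i, rfl⟩; exact hg i)
  have hli : LinearIndependent (ResidueField P)
      (fun i => (maximalIdeal P).toCotangent ⟨g i, hJm (hg i)⟩) := by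
    rw [Fintype.linearIndependent_iff]
    intro c hc i
    choose r hr using fun j => residue_surjective (R := P) (c j)
    have hmem : ∑ j, r j * g j ∈ maximalIdeal P :=
      Ideal.sum_mem _ fun j _ => Ideal.mul_mem_left _ _ (hJm (hg j))
    have h0 : (maximalIdeal P).toCotangent ⟨_, hmem⟩ = 0 := by
      rw [← hc]
      have : (⟨_, hmem⟩ : maximalIdeal P) = ∑ j, r j • ⟨_, hJm (hg j)⟩ := Subtype.ext (by simp)
      rw [this, map_sum]
      exact Finset.sum_congr rfl fun j _ => by rw [map_smul, ← hr j]; rfl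
    have h1 := hδsq i _ (((maximalIdeal P).toCotangent_eq_zero _).mp h0)
    rw [← hr i]
    refine Ideal.Quotient.eq_zero_iff_mem.mpr ?_
    simpa using Ideal.sub_mem _ h1 (hδ r i)
  have : IsRegularLocalRing (P ⧸ I) :=
    (((EGA4Alg4.regular_params_iff (A := P) fun i => ⟨g i, hJm (hg i)⟩).1).mp ⟨inferInstance, hli⟩).2
  have hIprime : I.IsPrime := by
    have := CAlg1.isDomain_regular (P ⧸ I)
    exact (Ideal.Quotient.isDomain_iff_prime I).mp this
  -- the kernel is the span of `g`
  let p₂ : Ideal P := p.comap (algebraMap P R)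
  let P₂ := Localization.AtPrime p₂
  let f₂ : P₂ →+* Localization.AtPrime p := Localization.localRingHom p₂ p (algebraMap P R) rfl
  let _ : Algebra P₂ (Localization.AtPrime p) := f₂.toAlgebra
  have : IsScalarTower P P₂ (Localization.AtPrime p) := IsScalarTower.of_algebraMap_eq fun a => by
    rw [RingHom.algebraMap_toAlgebra]
    exact (IsScalarTower.algebraMap_apply P R _ a).trans
      (Localization.localRingHom_to_map p₂ p (algebraMap P R) rfl a).symm
  have : IsScalarTower k P₂ (Localization.AtPrime p) := IsScalarTower.of_algebraMap_eq fun a => by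
    rw [IsScalarTower.algebraMap_apply k P P₂, ← IsScalarTower.algebraMap_apply P P₂,
      ← IsScalarTower.algebraMap_apply k P (Localization.AtPrime p)]
  have hf₂ : Function.Surjective (algebraMap P₂ (Localization.AtPrime p)) :=
    RingHom.surjective_localRingHom_of_surjective (algebraMap P R) h₁ p
  have hinj := S9415.injective_of_formallySmooth (k := k) (P := P₂) (S := Localization.AtPrime p) hf₂
  set n₂ := RingHom.ker (algebraMap P₂ (Localization.AtPrime p)) with hn₂
  have hn₂max : n₂ = maximalIdeal P₂ := by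
    have : IsField (P₂ ⧸ n₂) := (RingHom.quotientKerEquivOfSurjective hf₂).toMulEquiv.isField hF
    exact IsLocalRing.eq_maximalIdeal (Ideal.Quotient.maximal_of_isField _ this)
  let ψ : Ω[P⁄k] →ₗ[P] Localization.AtPrime p ⊗[P₂] Ω[P₂⁄k] :=
    (TensorProduct.mk P₂ (Localization.AtPrime p) Ω[P₂⁄k] 1).restrictScalars P ∘ₗ
      KaehlerDifferential.map k k P P₂
  have hJ₂ : ∀ a ∈ J, algebraMap P P₂ a ∈ I.map (algebraMap P P₂) ⊔ n₂ ^ 2 := by
    intro a ha
    obtain ⟨r, hr⟩ := hspan a ha
    have hkill : ∀ b ∈ J, algebraMap P₂ (Localization.AtPrime p) (algebraMap P P₂ b) = 0 := by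
      intro b hb
      rw [← IsScalarTower.algebraMap_apply, IsScalarTower.algebraMap_apply P R,
        show algebraMap P R b = 0 from hb, map_zero]
    have he : ψ (D k P a) = ∑ i, ψ (r i • D k P (g i)) := by
      have h1 : ∀ ω, LinearMap.liftBaseChange R ψ ((1 : R) ⊗ₜ[P] ω) = ψ ω := fun ω => by
        rw [LinearMap.liftBaseChange_tmul, one_smul]
      rw [← h1 (D k P a), hr, map_sum]
      exact Finset.sum_congr rfl fun i _ => h1 _
    let e : P := a - ∑ i, r i * g i
    have heJ : e ∈ J := Ideal.sub_mem _ ha (Ideal.sum_mem _ fun i _ => Ideal.mul_mem_left _ _ (hg i))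
    have h0 : ψ (D k P e) = 0 := by
      simp only [e, map_sub, map_sum]
      rw [he, sub_eq_zero]
      refine Finset.sum_congr rfl fun i _ => ?_
      rw [Derivation.leibniz, map_add, map_smul ψ (g i)]
      have : g i • ψ (D k P (r i)) = 0 := by
        rw [← algebraMap_smul (Localization.AtPrime p) (g i), IsScalarTower.algebraMap_apply P P₂,
          hkill _ (hg i), zero_smul]
      rw [this, add_zero]
    have hsq : algebraMap P P₂ e ∈ n₂ ^ 2 := by
      refine ((RingHom.ker _).toCotangent_eq_zero ⟨_, hkill e heJ⟩).mp (hinj ?_)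
      rw [kerCotangentToTensor_toCotangent, map_zero]
      refine Eq.trans ?_ h0
      show (1 : Localization.AtPrime p) ⊗ₜ[P₂] D k P₂ (algebraMap P P₂ e) = (1 : Localization.AtPrime p) ⊗ₜ[P₂] KaehlerDifferential.map k k P P₂ (D k P e)
      rw [KaehlerDifferential.map_D]
    have : algebraMap P P₂ a = algebraMap P P₂ (∑ i, r i * g i) + algebraMap P P₂ e := by
      rw [← map_add]; congr 1; simp [e]
    rw [this]
    refine Submodule.add_mem_sup (Ideal.mem_map_of_mem _ ?_) hsq
    exact Ideal.sum_mem _ fun i _ => Ideal.mul_mem_left _ _ (Ideal.subset_span ⟨i, rfl⟩)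
  have hn₂le : n₂ ≤ I.map (algebraMap P P₂) := by
    refine Submodule.le_of_le_smul_of_le_jacobson_bot (I := n₂) (IsNoetherian.noetherian n₂)
      (hn₂max.le.trans (maximalIdeal_le_jacobson _)) ?_
    rw [smul_eq_mul, ← pow_two]
    rw [hn₂max, ← Localization.AtPrime.map_eq_maximalIdeal, Ideal.map_le_iff_le_comap]
    intro a ha
    have hz : algebraMap R (Localization.AtPrime p) (algebraMap P R a) = 0 := by
      have hbot := IsLocalRing.isField_iff_maximalIdeal_eq.mp hF
      rw [← Localization.AtPrime.map_eq_maximalIdeal] at hbot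
      have := Ideal.mem_map_of_mem (algebraMap R (Localization.AtPrime p)) (ha : algebraMap P R a ∈ p)
      rwa [hbot, Ideal.mem_bot] at this
    obtain ⟨⟨t, ht⟩, htz⟩ := (IsLocalization.map_eq_zero_iff p.primeCompl _ _).mp hz
    obtain ⟨t', rfl⟩ := h₁ t
    have hta : t' * a ∈ J := by rw [hJdef, RingHom.mem_ker, map_mul]; exact htz
    have h := hJ₂ _ hta
    rw [map_mul, hn₂max, ← Localization.AtPrime.map_eq_maximalIdeal] at h
    exact (Ideal.unit_mul_mem_iff_mem _ (IsLocalization.map_units P₂ (⟨t', ht⟩ : p₂.primeCompl))).mp h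
  have hJI : J ≤ I := by
    intro a ha
    have hmem : algebraMap P P₂ a ∈ I.map (algebraMap P P₂) := hn₂le (by
      rw [hn₂, RingHom.mem_ker, ← IsScalarTower.algebraMap_apply, IsScalarTower.algebraMap_apply P R,
        show algebraMap P R a = 0 from ha, map_zero])
    rw [IsLocalization.algebraMap_mem_map_algebraMap_iff p₂.primeCompl] at hmem
    obtain ⟨t, ht, hta⟩ := hmem
    refine (hIprime.mem_or_mem hta).resolve_left fun htI => ht ?_
    show algebraMap P R t ∈ p
    rw [show algebraMap P R t = 0 from hIJ htI]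
    exact p.zero_mem
  -- conclusion
  have hJfg : J.FG := IsNoetherian.noetherian J
  rw [Algebra.FormallySmooth.iff_injective_cotangentComplexBaseChange_residueField P h₁ hJfg]
  let κ := ResidueField R
  have hsurj : Function.Surjective (algebraMap P κ) := by
    rw [IsScalarTower.algebraMap_eq P R κ]
    exact residue_surjective.comp h₁
  have hker : RingHom.ker (algebraMap P κ) = maximalIdeal P :=
    IsLocalRing.eq_maximalIdeal (RingHom.ker_isMaximal_of_surjective _ hsurj)
  refine (injective_iff_map_eq_zero _).mpr fun z hz => ?_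
  obtain ⟨⟨a, ha⟩, rfl⟩ := TensorProduct.mk_surjective P J κ hsurj z
  obtain ⟨r, hr⟩ := (Ideal.mem_span_range_iff_exists_fun).mp (hJI ha)
  rw [TensorProduct.mk_apply, cotangentComplexBaseChange_tmul, one_smul, kerToTensor_apply] at hz
  have hr0 : ∀ i, r i ∈ maximalIdeal P := by
    intro i
    have h1 : algebraMap P κ (δ i a) = 0 := by
      have := congrArg ((φ i).lTensor κ) hz
      rw [map_zero] at this
      have := congrArg (TensorProduct.rid P κ) this
      simpa [Algebra.smul_def, δ] using this
    have h2 : δ i a ∈ maximalIdeal P := hker ▸ h1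
    have h3 := hδ r i
    rw [hr] at h3
    simpa using Ideal.sub_mem _ h2 h3
  have hsum : (⟨a, ha⟩ : J) = ∑ i, r i • (⟨g i, hg i⟩ : J) := Subtype.ext (by simp [← hr])
  rw [TensorProduct.mk_apply, hsum, TensorProduct.tmul_sum]
  refine Finset.sum_eq_zero fun i _ => ?_
  rw [TensorProduct.tmul_smul, TensorProduct.smul_tmul', Algebra.smul_def,
    show algebraMap P κ (r i) = 0 from hker.symm.le (hr0 i), zero_mul, TensorProduct.zero_tmul]

end Local

end Groth.Agent.SchBasics
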