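import Groth.Agent.CAlg5.SmoothReduced
import Groth.Agent.CAlg1.Regular
import Groth.Agent.FCx40.Valuative
import Groth.Agent.FlatMor67.SmoothIsRegular

/-!
Equations vanishing on the closed fibre vanish on a smooth algebra over a reduced local ring, if
generic points of the closed fibre lift along all discrete valuation rings.
-/

set_option autoImplicit false
set_option linter.style.haveILetI false
set_option backward.isDefEq.respectTransparency.types false

universe u

open IsLocalRing TensorProduct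

namespace Groth.Agent.SchBasics.OpenSmooth

/-- The prime ideal of sections of a smooth algebra over a field killed near a prime. -/
def nearKer {T : Type u} [CommRing T] {F : Type u} [CommRing F] (ω : T →+* F) [(RingHom.ker ω).IsPrime] :
    Ideal T :=
  RingHom.ker (algebraMap T (Localization.AtPrime (RingHom.ker ω)))

theorem mem_nearKer {T : Type u} [CommRing T] {F : Type u} [CommRing F] (ω : T →+* F)
    [(RingHom.ker ω).IsPrime] {t : T} : t ∈ nearKer ω ↔ ∃ s, ω s ≠ 0 ∧ s * t = 0 := by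
  rw [nearKer, RingHom.mem_ker, IsLocalization.map_eq_zero_iff (RingHom.ker ω).primeCompl]
  exact ⟨fun ⟨s, hs⟩ => ⟨s, s.2, hs⟩, fun ⟨s, hs, h⟩ => ⟨⟨s, hs⟩, h⟩⟩

theorem isPrime_nearKer (k : Type u) [Field k] {T : Type u} [CommRing T] [Algebra k T]
    [Algebra.Smooth k T] {F : Type u} [CommRing F] (ω : T →+* F) [(RingHom.ker ω).IsPrime] :
    (nearKer ω).IsPrime := by
  have := FlatMor67.isRegularRing_of_smooth k T
  have : IsRegularLocalRing (Localization.AtPrime (RingHom.ker ω)) :=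
    IsRegularRing.isRegularLocalRing_localization _
  have : IsDomain (Localization.AtPrime (RingHom.ker ω)) := CAlg1.isDomain_regular _
  exact RingHom.ker_isPrime _

variable {R : Type u} [CommRing R] [IsLocalRing R] {B : Type u} [CommRing B] [Algebra R B]
  [Algebra.Smooth R B] (Q : Ideal B) [Q.IsPrime]

/-- A function dying on the base change of the closed fibre to a field dies on the closed fibre. -/
theorem exists_mul_mem_map {F : Type u} [Field F] [Algebra R F]
    (hF : ∀ r ∈ maximalIdeal R, algebraMap R F r = 0) (χ : B →ₐ[R] F) (hχ : ∀ b, χ b = 0 ↔ b ∈ Q)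
    {b : B} {t : F ⊗[R] B}
    (ht : Algebra.TensorProduct.lift (AlgHom.id R F) χ (fun _ _ => Commute.all _ _) t ≠ 0)
    (h : t * (1 ⊗ₜ b) = 0) :
    ∃ s ∉ Q, s * b ∈ (maximalIdeal R).map (algebraMap R B) := by
  let k := ResidueField R
  let ι : k →ₐ[R] F := Ideal.Quotient.liftₐ (maximalIdeal R) (Algebra.ofId R F) hF
  let χ₀ : k ⊗[R] B →ₐ[R] F := Algebra.TensorProduct.lift ι χ (fun _ _ => Commute.all _ _)
  have : (RingHom.ker χ₀.toRingHom).IsPrime := RingHom.ker_isPrime _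
  let D := Localization.AtPrime (RingHom.ker χ₀.toRingHom)
  have hreg := FlatMor67.isRegularRing_of_smooth k (k ⊗[R] B)
  have : IsRegularLocalRing D := IsRegularRing.isRegularLocalRing_localization _
  have : IsDomain D := CAlg1.isDomain_regular D
  let ψ₀ : B →ₐ[R] D :=
    (IsScalarTower.toAlgHom R (k ⊗[R] B) D).comp Algebra.TensorProduct.includeRight
  let ψ : F ⊗[R] B →ₐ[R] F ⊗[R] D := Algebra.TensorProduct.map (AlgHom.id R F) ψ₀
  let χ₁ : D →ₐ[R] F := IsLocalization.liftAlgHom (M := (RingHom.ker χ₀.toRingHom).primeCompl)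
    (f := χ₀) (fun y => isUnit_iff_ne_zero.2 fun hy => y.2 hy)
  have hχ₁ : ∀ c : B, χ₁ (ψ₀ c) = χ c := fun c => by
    show χ₁ (algebraMap (k ⊗[R] B) D (1 ⊗ₜ c)) = χ c
    rw [IsLocalization.liftAlgHom_apply, IsLocalization.lift_eq]
    show ι 1 * χ c = χ c
    rw [map_one, one_mul]
  have hψ : ∀ z : F ⊗[R] B,
      Algebra.TensorProduct.lift (AlgHom.id R F) χ₁ (fun _ _ => Commute.all _ _) (ψ z) =
      Algebra.TensorProduct.lift (AlgHom.id R F) χ (fun _ _ => Commute.all _ _) z := by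
    intro z
    induction z with
    | zero => simp
    | tmul x y =>
      show Algebra.TensorProduct.lift (AlgHom.id R F) χ₁ (fun _ _ => Commute.all _ _)
        (x ⊗ₜ ψ₀ y) = _
      erw [Algebra.TensorProduct.lift_tmul, Algebra.TensorProduct.lift_tmul, hχ₁]
    | add x y hx hy => simp only [map_add, hx, hy]
  by_cases hb : ψ₀ b = 0
  · obtain ⟨⟨z, hz⟩, hzb⟩ :=
      (IsLocalization.map_eq_zero_iff (RingHom.ker χ₀.toRingHom).primeCompl D _).1
        (show algebraMap (k ⊗[R] B) D (1 ⊗ₜ b) = 0 from hb)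
    obtain ⟨s, rfl⟩ : ∃ s : B, (1 : k) ⊗ₜ[R] s = z := by
      clear hz hzb
      induction z with
      | zero => exact ⟨0, TensorProduct.tmul_zero _ _⟩
      | tmul x y =>
        obtain ⟨r, rfl⟩ := Ideal.Quotient.mk_surjective x
        refine ⟨r • y, ?_⟩
        rw [← TensorProduct.smul_tmul, Algebra.smul_def, mul_one]
        rfl
      | add x y hx hy =>
        obtain ⟨a, rfl⟩ := hx
        obtain ⟨c, rfl⟩ := hy
        exact ⟨a + c, TensorProduct.tmul_add _ _ _⟩
    refine ⟨s, fun hs => hz ?_, ?_⟩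
    · show ι 1 * χ s = 0
      rw [(hχ s).2 hs, mul_zero]
    · have h1 : (1 : k) ⊗ₜ[R] (s * b) = 0 := by
        simpa [Algebra.TensorProduct.tmul_mul_tmul] using hzb
      have h2 := congrArg (TensorProduct.quotTensorEquivQuotSMul B (maximalIdeal R))
        (show ((Ideal.Quotient.mk (maximalIdeal R) 1 : R ⧸ maximalIdeal R) ⊗ₜ[R] (s * b)) = 0 from h1)
      erw [TensorProduct.quotTensorEquivQuotSMul_mk_tmul, LinearEquiv.map_zero, one_smul,
        Submodule.Quotient.mk_eq_zero, Ideal.smul_top_eq_map] at h2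
      exact h2
  · exfalso
    let μ : D →ₗ[k] D := LinearMap.mulLeft k (ψ₀ b)
    have hμ : LinearMap.ker μ = ⊥ := LinearMap.ker_eq_bot.2 fun x y hxy => mul_left_cancel₀ hb hxy
    obtain ⟨g, hg⟩ := μ.exists_leftInverse_of_injective hμ
    have hinj : Function.Injective ((μ.restrictScalars R).lTensor F) := by
      refine Function.LeftInverse.injective (g := (g.restrictScalars R).lTensor F) fun z => ?_
      rw [← LinearMap.lTensor_comp_apply]
      rw [show (g.restrictScalars R).comp (μ.restrictScalars R) = LinearMap.id from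
        LinearMap.ext fun x => LinearMap.congr_fun hg x, LinearMap.lTensor_id]
      rfl
    have hmul : ∀ z : F ⊗[R] D, (μ.restrictScalars R).lTensor F z = (1 ⊗ₜ ψ₀ b) * z := by
      intro z
      induction z with
      | zero => simp
      | tmul x y => rw [LinearMap.lTensor_tmul, Algebra.TensorProduct.tmul_mul_tmul, one_mul]; rfl
      | add x y hx hy => simp only [map_add, hx, hy, mul_add]
    have h0 : ψ t = 0 := hinj (by
      rw [map_zero, hmul, mul_comm, show (1 ⊗ₜ[R] ψ₀ b) = ψ (1 ⊗ₜ b) from rfl, ← map_mul, h, map_zero])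
    exact ht (by rw [← hψ t, h0, map_zero])

/-- Equations vanishing on the closed fibre vanish near `Q`. -/
theorem exists_mul_eq_zero_of_lifts [IsNoetherianRing R] [IsReduced R] (J : Ideal B)
    (hQ : maximalIdeal R ≤ Q.comap (algebraMap R B))
    (hJ : ∀ a ∈ J, ∃ s ∉ Q, s * a ∈ (maximalIdeal R).map (algebraMap R B))
    (hlift : ∀ (V : Type u) [CommRing V] [IsDomain V] [IsDiscreteValuationRing V] [Algebra R V]
      [IsLocalHom (algebraMap R V)] (z : Ideal (V ⊗[R] B)), z.IsPrime →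
      (∀ v ∈ maximalIdeal V, v ⊗ₜ 1 ∈ z) →
      (∀ b : B, 1 ⊗ₜ b ∈ z → b ∈ Q) →
      (∀ b : B, 1 ⊗ₜ b ∈ z → ∃ s ∉ Q, s * b ∈ (maximalIdeal R).map (algebraMap R B)) →
      (∀ a ∈ J, 1 ⊗ₜ a ∈ z) →
      ∃ P : Ideal (V ⊗[R] B), P.IsPrime ∧ P ≤ z ∧ (∀ a ∈ J, 1 ⊗ₜ a ∈ P) ∧
        ∃ v ∈ maximalIdeal V, v ⊗ₜ 1 ∉ P) :
    ∀ a ∈ J, ∃ s ∉ Q, s * a = 0 := by
  intro a ha
  have : IsNoetherianRing B := Algebra.FiniteType.isNoetherianRing R B
  have : IsReduced B := CAlg5.isReduced_of_smooth (A := R)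
  let S := Localization.AtPrime Q
  have : IsNoetherianRing S := IsLocalization.isNoetherianRing Q.primeCompl S inferInstance
  have : IsReduced S := isReduced_localizationPreserves Q.primeCompl S ‹IsReduced B›
  suffices key : ∀ P₀ : Ideal S, P₀.IsPrime → algebraMap B S a ∈ P₀ by
    have hnil : algebraMap B S a ∈ nilradical S := by
      rw [nilradical_eq_sInf]
      exact Ideal.mem_sInf.2 fun {P₀} hP₀ => key P₀ hP₀
    obtain ⟨s, hs⟩ := (IsLocalization.map_eq_zero_iff Q.primeCompl S a).1 (mem_nilradical.1 hnil).eq_zero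
    exact ⟨s, s.2, hs⟩
  intro P₀ hP₀'
  by_cases hy : P₀ = maximalIdeal S
  · obtain ⟨s, hs, hsa⟩ := hJ a ha
    rw [hy, IsLocalization.AtPrime.to_map_mem_maximal_iff S Q]
    exact (‹Q.IsPrime›.mem_or_mem (Ideal.map_le_iff_le_comap.2 hQ hsa)).resolve_left hs
  obtain ⟨V, _, _, _, hSV, hker, hres⟩ := FCx40.exists_dvr_algebra ⟨P₀, hP₀'⟩ hy
  let : Algebra R V := ((algebraMap S V).comp (algebraMap R S)).toAlgebra
  have : IsScalarTower R S V := IsScalarTower.of_algebraMap_eq fun _ => rfl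
  let τ : B →ₐ[R] V := (IsScalarTower.toAlgHom R S V).comp (IsScalarTower.toAlgHom R B S)
  have hτ : ∀ b, residue V (τ b) = 0 ↔ b ∈ Q := fun b => by
    rw [← IsLocalization.AtPrime.to_map_mem_maximal_iff S Q, ← hres, RingHom.mem_ker]
    rfl
  have hloc : IsLocalHom (algebraMap R V) := ⟨fun r hr => by
    by_contra hr'
    have h1 : residue V (τ (algebraMap R B r)) = 0 := (hτ _).2 (hQ hr')
    rw [AlgHom.commutes] at h1
    exact (residue_ne_zero_iff_isUnit _).2 hr h1⟩
  let F := ResidueField V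
  have hF : ∀ r ∈ maximalIdeal R, algebraMap R F r = 0 := fun r hr => by
    rw [IsScalarTower.algebraMap_apply R V F]
    exact (residue_eq_zero_iff _).2 fun h => hr (hloc.map_nonunit r h)
  let res : V →ₐ[R] F := IsScalarTower.toAlgHom R V F
  let σ : V ⊗[R] B →ₐ[R] V :=
    Algebra.TensorProduct.lift (AlgHom.id R V) τ (fun _ _ => Commute.all _ _)
  let ρ : V ⊗[R] B →ₐ[R] F ⊗[R] B := Algebra.TensorProduct.map res (AlgHom.id R B)
  let ω : F ⊗[R] B →ₐ[R] F :=
    Algebra.TensorProduct.lift (AlgHom.id R F) (res.comp τ) (fun _ _ => Commute.all _ _)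
  have hωρ : ∀ t, ω (ρ t) = residue V (σ t) := by
    intro t
    induction t with
    | zero => simp
    | tmul x y =>
      simp only [ω, ρ, σ, Algebra.TensorProduct.map_tmul, Algebra.TensorProduct.lift_tmul,
        AlgHom.id_apply, map_mul]
      rfl
    | add x y hx hy => simp only [map_add, hx, hy]
  have : (RingHom.ker ω.toRingHom).IsPrime := RingHom.ker_isPrime _
  have hzF : (nearKer ω.toRingHom).IsPrime := isPrime_nearKer F ω.toRingHom
  let z : Ideal (V ⊗[R] B) := (nearKer ω.toRingHom).comap ρ.toRingHom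
  have hz : ∀ t, t ∈ z ↔ ∃ s, ω s ≠ 0 ∧ s * ρ t = 0 := fun t => mem_nearKer ω.toRingHom
  have hz0 : ∀ t, ρ t = 0 → t ∈ z := fun t h => (hz t).2 ⟨1, by simp, by rw [h, mul_zero]⟩
  have hzπ : ∀ v ∈ maximalIdeal V, v ⊗ₜ 1 ∈ z := fun v hv => hz0 _ (by
    show res v ⊗ₜ[R] (1 : B) = 0
    rw [show res v = 0 from (residue_eq_zero_iff v).2 hv, TensorProduct.zero_tmul])
  have hzB : ∀ b : B, 1 ⊗ₜ b ∈ z → ∃ s ∉ Q, s * b ∈ (maximalIdeal R).map (algebraMap R B) := by
    intro b hb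
    obtain ⟨s, hs, hsb⟩ := (hz _).1 hb
    refine exists_mul_mem_map Q hF (res.comp τ) hτ hs ?_
    simpa [ρ] using hsb
  have hzQ : ∀ b : B, 1 ⊗ₜ b ∈ z → b ∈ Q := fun b hb => by
    obtain ⟨s, hs, hsb⟩ := hzB b hb
    exact (‹Q.IsPrime›.mem_or_mem (Ideal.map_le_iff_le_comap.2 hQ hsb)).resolve_left hs
  have hzJ : ∀ c ∈ J, 1 ⊗ₜ c ∈ z := fun c hc => by
    obtain ⟨s, hs, hsc⟩ := hJ c hc
    refine (hz _).2 ⟨1 ⊗ₜ s, ?_, ?_⟩
    · show (1 : F) * residue V (τ s) ≠ 0
      rw [one_mul]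
      exact fun h => hs ((hτ s).1 h)
    · show ((1 : F) ⊗ₜ[R] s) * (res 1 ⊗ₜ[R] c) = 0
      rw [map_one, Algebra.TensorProduct.tmul_mul_tmul, one_mul]
      refine Submodule.span_induction (p := fun x _ => (1 : F) ⊗ₜ[R] x = 0) ?_ ?_ ?_ ?_ hsc
      · rintro x ⟨r, hr, rfl⟩
        rw [Algebra.algebraMap_eq_smul_one, ← TensorProduct.smul_tmul,
          ← Algebra.algebraMap_eq_smul_one, hF r hr, TensorProduct.zero_tmul]
      · exact TensorProduct.tmul_zero _ _
      · intro x y _ _ hx hy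
        rw [TensorProduct.tmul_add, hx, hy, add_zero]
      · intro x y _ hy
        have : (1 : F) ⊗ₜ[R] (x • y) = (1 ⊗ₜ x) * (1 ⊗ₜ y) := by
          rw [Algebra.TensorProduct.tmul_mul_tmul, one_mul, smul_eq_mul]
        rw [this, hy, mul_zero]
  obtain ⟨P, hP, hPz, hPJ, v, hv, hvP⟩ :=
    hlift V z (hzF.comap _) hzπ hzQ hzB hzJ
  obtain ⟨ϖ, hϖ⟩ := IsDiscreteValuationRing.exists_irreducible V
  have hmax : maximalIdeal V = Ideal.span {ϖ} := hϖ.maximalIdeal_eq
  have hϖP : ϖ ⊗ₜ[R] (1 : B) ∉ P := fun h => hvP (by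
    obtain ⟨w, rfl⟩ := Ideal.mem_span_singleton.1 (hmax.le hv)
    have : (ϖ * w) ⊗ₜ[R] (1 : B) = (ϖ ⊗ₜ 1) * (w ⊗ₜ 1) := by
      rw [Algebra.TensorProduct.tmul_mul_tmul, one_mul]
    rw [this]
    exact P.mul_mem_right _ h)
  have hρsurj : Function.Surjective res := Ideal.Quotient.mk_surjective
  have hkerρ : ∀ t, ρ t = 0 → ∃ u, t = (ϖ ⊗ₜ 1) * u := by
    intro t ht
    have h1 : t ∈ RingHom.ker ρ := ht
    rw [Algebra.TensorProduct.rTensor_ker res hρsurj,
      show RingHom.ker res = Ideal.span {ϖ} from (Ideal.mk_ker).trans hmax,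
      Ideal.map_span, Set.image_singleton, Ideal.mem_span_singleton] at h1
    exact h1
  have hσsurj : Function.Surjective σ := fun x => ⟨x ⊗ₜ 1, by simp [σ]⟩
  let 𝔞 : Ideal V := P.map σ.toRingHom
  have h𝔞 : 𝔞 ≤ maximalIdeal V • 𝔞 := by
    intro x hx
    obtain ⟨c, hc, rfl⟩ := (Ideal.mem_map_iff_of_surjective σ.toRingHom hσsurj).1 hx
    obtain ⟨s, hs, hsc⟩ := (hz c).1 (hPz hc)
    obtain ⟨s', rfl⟩ := Algebra.TensorProduct.map_surjective res (AlgHom.id R B) hρsurj
      Function.surjective_id s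
    change ρ s' * ρ c = 0 at hsc
    rw [← map_mul] at hsc
    obtain ⟨u, hu⟩ := hkerρ _ hsc
    have huP : u ∈ P := (hP.mem_or_mem (hu ▸ P.mul_mem_left s' hc)).resolve_left hϖP
    have hs' : IsUnit (σ s') := by
      rw [← residue_ne_zero_iff_isUnit, ← hωρ]
      exact hs
    show σ c ∈ maximalIdeal V • 𝔞
    rw [← Ideal.unit_mul_mem_iff_mem _ hs', ← map_mul, hu, map_mul]
    refine Submodule.smul_mem_smul ?_ (Ideal.mem_map_of_mem σ.toRingHom huP)
    rw [show σ (ϖ ⊗ₜ[R] (1 : B)) = ϖ by simp [σ], hmax]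
    exact Ideal.mem_span_singleton_self _
  have h0 : 𝔞 = ⊥ := Submodule.eq_bot_of_le_smul_of_le_jacobson_bot _ 𝔞 (IsNoetherian.noetherian _)
    h𝔞 (maximalIdeal_le_jacobson _)
  have hτa : τ a = 0 := by
    have : σ ((1 : V) ⊗ₜ[R] a) ∈ 𝔞 := Ideal.mem_map_of_mem σ.toRingHom (hPJ a ha)
    rw [h0, Submodule.mem_bot] at this
    simpa [σ] using this
  exact hker.le hτa

end Groth.Agent.SchBasics.OpenSmooth
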