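import Groth.Agent.SchBasics.FibreJacobian
import Groth.Agent.SchBasics.OpenSmoothCore

/-!
Smoothness over a reduced local ring from a formally smooth closed fibre and openness at generic points.
-/

set_option autoImplicit false
set_option linter.style.haveILetI false
set_option backward.isDefEq.respectTransparency.types false

universe u

open IsLocalRing TensorProduct MvPolynomial

namespace Groth.Agent.SchBasics.OpenSmooth

variable {R : Type u} [CommRing R] [IsLocalRing R] [IsNoetherianRing R] [IsReduced R]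

/-- A finite type algebra over a reduced noetherian local ring is standard smooth near a prime with
formally smooth fibre if the generic point of the fibre lifts along every discrete valuation ring. -/
theorem exists_isStandardSmooth_of_lifts {A : Type u} [CommRing A] [Algebra R A]
    [Algebra.FiniteType R A] (q : Ideal A) [q.IsPrime]
    (hq : maximalIdeal R ≤ q.comap (algebraMap R A))
    {C : Type u} [CommRing C] [Algebra R C] (hC : FibreJac.HasSections R (maximalIdeal R) C)
    (Φ : Localization.AtPrime q →ₐ[R] C) (hΦ : Function.Surjective Φ)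
    (hker : RingHom.ker Φ = (maximalIdeal R).map (algebraMap R (Localization.AtPrime q)))
    (hopen : ∀ (V : Type u) [CommRing V] [IsDomain V] [IsDiscreteValuationRing V] [Algebra R V]
      [IsLocalHom (algebraMap R V)] (z : Ideal (V ⊗[R] A)), z.IsPrime →
      (∀ v ∈ maximalIdeal V, v ⊗ₜ 1 ∈ z) → (∀ a : A, 1 ⊗ₜ a ∈ z → a ∈ q) →
      (∀ a : A, 1 ⊗ₜ a ∈ z → ∀ p : Ideal A, p.IsPrime → p ≤ q →
        (maximalIdeal R).map (algebraMap R A) ≤ p → a ∈ p) →
      ∃ p : Ideal (V ⊗[R] A), p.IsPrime ∧ p ≤ z ∧ ∃ v ∈ maximalIdeal V, v ⊗ₜ 1 ∉ p) :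
    ∃ a ∉ q, Algebra.IsStandardSmooth R (Localization.Away a) := by
  classical
  obtain ⟨N, φ, hφ⟩ := Algebra.FiniteType.iff_quotient_mvPolynomial''.1 ‹Algebra.FiniteType R A›
  let P := MvPolynomial (Fin N) R
  let K : Ideal P := RingHom.ker φ.toRingHom
  have hKfg : K.FG := IsNoetherian.noetherian K
  let Q : Ideal P := q.comap φ.toRingHom
  have : Q.IsPrime := Ideal.comap_isPrime φ.toRingHom q
  have hKQ : K ≤ Q := fun x hx => by
    show φ x ∈ q
    rw [show φ x = 0 from hx]
    exact q.zero_mem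
  -- the presentation of the local ring
  have hM : Submonoid.map φ.toRingHom Q.primeCompl = q.primeCompl := by
    ext x
    refine ⟨?_, fun hx => ?_⟩
    · rintro ⟨y, hy, rfl⟩
      exact hy
    · obtain ⟨y, rfl⟩ := hφ x
      exact ⟨y, hx, rfl⟩
  let lamL : Localization.AtPrime Q →ₐ[R] Localization.AtPrime q :=
    IsLocalization.liftAlgHom (M := Q.primeCompl)
      (f := (IsScalarTower.toAlgHom R A (Localization.AtPrime q)).comp φ)
      (fun y => IsLocalization.map_units _ (⟨φ y.1, y.2⟩ : q.primeCompl))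
  have hlam : ∀ x, lamL (algebraMap P _ x) = algebraMap A _ (φ x) := fun x => by
    rw [IsLocalization.liftAlgHom_apply, IsLocalization.lift_eq]
    rfl
  have hlamsurj : Function.Surjective lamL := fun x => by
    obtain ⟨a, s, rfl⟩ := IsLocalization.exists_mk'_eq q.primeCompl x
    obtain ⟨a, rfl⟩ := hφ a
    obtain ⟨s', hs'⟩ := hφ s.1
    have hsQ : s' ∈ Q.primeCompl := fun h => s.2 (by rw [← hs']; exact h)
    refine ⟨IsLocalization.mk' _ a (⟨s', hsQ⟩ : Q.primeCompl), ?_⟩
    rw [IsLocalization.eq_mk'_iff_mul_eq, ← hs', ← hlam, ← hlam, ← map_mul, IsLocalization.mk'_spec]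
  have hlamker : RingHom.ker lamL = K.map (algebraMap P (Localization.AtPrime Q)) := by
    refine le_antisymm (fun x hx => ?_) (Ideal.map_le_iff_le_comap.2 fun x hx => ?_)
    · obtain ⟨a, s, rfl⟩ := IsLocalization.exists_mk'_eq Q.primeCompl x
      have h1 : lamL (algebraMap P _ a) = 0 := by
        rw [← IsLocalization.mk'_spec (Localization.AtPrime Q) a s, map_mul,
          show lamL (IsLocalization.mk' _ a s) = 0 from hx, zero_mul]
      rw [hlam, IsLocalization.map_eq_zero_iff q.primeCompl] at h1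
      obtain ⟨⟨t, ht⟩, h1⟩ := h1
      obtain ⟨t, rfl⟩ := hφ t
      rw [IsLocalization.mk'_mem_map_algebraMap_iff]
      exact ⟨t, ht, show φ (t * a) = 0 by rw [map_mul]; exact h1⟩
    · show lamL (algebraMap P _ x) = 0
      rw [hlam, show φ x = 0 from hx, map_zero]
  have hkerΦ : RingHom.ker (Φ.comp lamL) =
      (maximalIdeal R).map (algebraMap R (Localization.AtPrime Q)) ⊔
        K.map (algebraMap P (Localization.AtPrime Q)) := by
    rw [show RingHom.ker (Φ.comp lamL) = (RingHom.ker Φ).comap lamL.toRingHom from rfl, hker,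
      ← hlamker, ← lamL.comp_algebraMap, ← Ideal.map_map]
    exact Ideal.comap_map_of_surjective' lamL.toRingHom hlamsurj _
  obtain ⟨c, k, cols, hkK, hcols, hg, hKL⟩ := FibreJac.exists_rels (maximalIdeal R) Q K hKfg hKQ hC
    (Φ.comp lamL) (hΦ.comp hlamsurj) hkerΦ
  set g := Smoothing.jacobianMinor k id cols with hgdef
  -- the smooth algebra
  let I : Ideal P := Ideal.span (Set.range k)
  have hIK : I ≤ K := Ideal.span_le.2 (Set.range_subset_iff.2 hkK)
  let B := Localization.Away (Ideal.Quotient.mkₐ R I g)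
  have : Algebra.IsStandardSmooth R B := Smooth28.isStandardSmooth_of_data (Ideal.Quotient.mkₐ R I)
    (Ideal.Quotient.mkₐ_surjective R I) k (Ideal.mk_ker) id cols hcols _ dvd_rfl g rfl
    (fun x hx => Ideal.mem_sup_left (Ideal.mul_mem_left _ _ (by
      exact Ideal.Quotient.eq_zero_iff_mem.1 hx))) B
  let ι : P →ₐ[R] B :=
    (IsScalarTower.toAlgHom R (P ⧸ I) B).comp (Ideal.Quotient.mkₐ R I)
  have hιI : ∀ x ∈ I, ι x = 0 := fun x hx => by
    show algebraMap (P ⧸ I) B (Ideal.Quotient.mk I x) = 0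
    rw [Ideal.Quotient.eq_zero_iff_mem.2 hx, map_zero]
  have hιsurj : ∀ b : B, ∃ i p, b * ι g ^ i = ι p := fun b => by
    obtain ⟨x, s, rfl⟩ := IsLocalization.exists_mk'_eq (Submonoid.powers (Ideal.Quotient.mkₐ R I g)) b
    obtain ⟨i, hi⟩ := s.2
    obtain ⟨p, rfl⟩ := Ideal.Quotient.mk_surjective x
    refine ⟨i, p, ?_⟩
    rw [show ι g ^ i = algebraMap _ B (s : P ⧸ I) by rw [← hi, map_pow]; rfl]
    exact IsLocalization.mk'_spec _ _ _
  have hιg : IsUnit (ι g) := IsLocalization.Away.algebraMap_isUnit (Ideal.Quotient.mkₐ R I g)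
  -- maps out of `B`
  have hlift : ∀ (F : Type u) [Field F] [Algebra R F] (f : P →ₐ[R] F), (∀ x ∈ I, f x = 0) →
      f g ≠ 0 → ∃ f' : B →ₐ[R] F, ∀ x, f' (ι x) = f x := by
    intro F _ _ f hfI hfg
    refine ⟨IsLocalization.liftAlgHom (M := Submonoid.powers (Ideal.Quotient.mkₐ R I g))
      (f := Ideal.Quotient.liftₐ I f hfI) ?_, fun x => ?_⟩
    · rintro ⟨_, i, rfl⟩
      simp only [map_pow]
      exact (isUnit_iff_ne_zero.2 hfg).pow i
    · show IsLocalization.liftAlgHom _ (algebraMap (P ⧸ I) B (Ideal.Quotient.mk I x)) = f x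
      rw [IsLocalization.liftAlgHom_apply, IsLocalization.lift_eq]
      rfl
  let f₀ : P →ₐ[R] q.ResidueField := (IsScalarTower.toAlgHom R A q.ResidueField).comp φ
  have hf₀ : ∀ x, f₀ x = 0 ↔ x ∈ Q := fun x => Ideal.algebraMap_residueField_eq_zero
  obtain ⟨χB, hχB⟩ := hlift q.ResidueField f₀ (fun x hx => (hf₀ x).2 (hKQ (hIK hx)))
    (fun h => hg ((hf₀ g).1 h))
  let QB : Ideal B := RingHom.ker χB.toRingHom
  have : QB.IsPrime := RingHom.ker_isPrime _
  have hQB : ∀ x, ι x ∈ QB ↔ x ∈ Q := fun x => by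
    rw [← hf₀, ← hχB]
    rfl
  have hQB' : maximalIdeal R ≤ QB.comap (algebraMap R B) := fun r hr => by
    show χB (algebraMap R B r) = 0
    rw [AlgHom.commutes, IsScalarTower.algebraMap_apply R A q.ResidueField]
    exact Ideal.algebraMap_residueField_eq_zero.2 (hq hr)
  let J : Ideal B := K.map ι.toRingHom
  have hmB : ((maximalIdeal R).map (algebraMap R P)).map ι.toRingHom =
      (maximalIdeal R).map (algebraMap R B) := by
    rw [Ideal.map_map, show ι.toRingHom.comp (algebraMap R P) = algebraMap R B from ι.comp_algebraMap]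
  have hJ : ∀ a ∈ J, ∃ s ∉ QB, s * a ∈ (maximalIdeal R).map (algebraMap R B) := by
    intro a ha
    refine Submodule.span_induction (p := fun a _ => ∃ s ∉ QB, s * a ∈ (maximalIdeal R).map (algebraMap R B))
      ?_ ?_ ?_ ?_ ha
    · rintro _ ⟨x, hx, rfl⟩
      have h1 := hKL (Ideal.mem_map_of_mem _ hx)
      rw [IsScalarTower.algebraMap_eq R P (Localization.AtPrime Q), ← Ideal.map_map, ← Ideal.map_sup,
        IsLocalization.algebraMap_mem_map_algebraMap_iff Q.primeCompl] at h1
      obtain ⟨s, hs, hsx⟩ := h1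
      obtain ⟨y, hy, w, hw, hyw⟩ := Submodule.mem_sup.1 hsx
      refine ⟨ι s, fun h => hs ((hQB s).1 h), ?_⟩
      rw [show (ι.toRingHom x : B) = ι x from rfl, ← map_mul, ← hyw, map_add, hιI y hy, zero_add, ← hmB]
      exact Ideal.mem_map_of_mem ι.toRingHom hw
    · exact ⟨1, fun h => ‹QB.IsPrime›.ne_top (Ideal.eq_top_of_isUnit_mem _ h isUnit_one), by simp⟩
    · rintro x y _ _ ⟨s, hs, hsx⟩ ⟨t, ht, hty⟩
      refine ⟨s * t, fun h => (‹QB.IsPrime›.mem_or_mem h).elim hs ht, ?_⟩
      rw [mul_add, show s * t * x = t * (s * x) by ring, show s * t * y = s * (t * y) by ring]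
      exact add_mem (Ideal.mul_mem_left _ _ hsx) (Ideal.mul_mem_left _ _ hty)
    · rintro r x _ ⟨s, hs, hsx⟩
      refine ⟨s, hs, ?_⟩
      rw [smul_eq_mul, show s * (r * x) = r * (s * x) by ring]
      exact Ideal.mul_mem_left _ _ hsx
  have hzero := exists_mul_eq_zero_of_lifts QB J hQB' hJ (fun V _ _ _ _ _ z hz hzπ hzQ hzmin hzJ => by
    let j : V ⊗[R] P →ₐ[R] V ⊗[R] B := Algebra.TensorProduct.map (AlgHom.id R V) ι
    let kA : V ⊗[R] P →ₐ[R] V ⊗[R] A := Algebra.TensorProduct.map (AlgHom.id R V) φ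
    have hkA : Function.Surjective kA :=
      Algebra.TensorProduct.map_surjective _ _ Function.surjective_id hφ
    let z₀ : Ideal (V ⊗[R] P) := z.comap j.toRingHom
    have hz₀ : z₀.IsPrime := Ideal.comap_isPrime j.toRingHom z
    have hker₀ : RingHom.ker kA.toRingHom ≤ z₀ := by
      show RingHom.ker (Algebra.TensorProduct.map (AlgHom.id R V) φ) ≤ z₀
      rw [Algebra.TensorProduct.lTensor_ker φ hφ]
      refine Ideal.map_le_iff_le_comap.2 fun x hx => ?_
      show j (1 ⊗ₜ x) ∈ z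
      exact hzJ _ (Ideal.mem_map_of_mem ι.toRingHom hx)
    let zA : Ideal (V ⊗[R] A) := z₀.map kA.toRingHom
    have hzA : zA.IsPrime := Ideal.map_isPrime_of_surjective hkA hker₀
    have hzA₀ : ∀ t, kA t ∈ zA ↔ t ∈ z₀ := fun t => by
      show t ∈ (z₀.map kA.toRingHom).comap kA.toRingHom ↔ _
      rw [Ideal.comap_map_of_surjective' kA.toRingHom hkA, sup_eq_left.2 hker₀]
    have hzAa : ∀ x : P, (1 : V) ⊗ₜ[R] φ x ∈ zA ↔ (1 : V) ⊗ₜ[R] ι x ∈ z := fun x => hzA₀ (1 ⊗ₜ x)
    obtain ⟨p, hp, hpz, v, hv, hvp⟩ := hopen V zA hzA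
      (fun v hv => by
        rw [show v ⊗ₜ[R] (1 : A) = kA (v ⊗ₜ 1) by simp [kA], hzA₀]
        show j (v ⊗ₜ 1) ∈ z
        rw [show j (v ⊗ₜ 1) = v ⊗ₜ (1 : B) by simp [j]]
        exact hzπ v hv)
      (fun a ha => by
        obtain ⟨x, rfl⟩ := hφ a
        exact (hQB x).1 (hzQ _ ((hzAa x).1 ha)))
      (fun a ha p hp hpq hmp => by
        obtain ⟨x, rfl⟩ := hφ a
        obtain ⟨s, hs, hsx⟩ := hzmin _ ((hzAa x).1 ha)
        let f₁ : P →ₐ[R] p.ResidueField := (IsScalarTower.toAlgHom R A p.ResidueField).comp φ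
        have hf₁ : ∀ y, f₁ y = 0 ↔ φ y ∈ p := fun y => Ideal.algebraMap_residueField_eq_zero
        obtain ⟨χp, hχp⟩ := hlift p.ResidueField f₁ (fun y hy => (hf₁ y).2 (by
            rw [show φ y = 0 from hIK hy]; exact p.zero_mem))
          (fun h => hg (hpq ((hf₁ g).1 h)))
        have hm : (maximalIdeal R).map (algebraMap R B) ≤ RingHom.ker χp.toRingHom :=
          Ideal.map_le_iff_le_comap.2 fun r hr => by
            show χp (algebraMap R B r) = 0
            rw [AlgHom.commutes, IsScalarTower.algebraMap_apply R A p.ResidueField]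
            exact Ideal.algebraMap_residueField_eq_zero.2 (hmp (Ideal.mem_map_of_mem _ hr))
        obtain ⟨i, s₀, hs₀⟩ := hιsurj s
        have hs₀Q : s₀ ∉ Q := fun h => by
          have := (hQB s₀).2 h
          rw [← hs₀] at this
          exact (‹QB.IsPrime›.mem_or_mem this).elim hs fun h' =>
            hg ((hQB g).1 (‹QB.IsPrime›.mem_of_pow_mem i h'))
        have h2 : χp (s * ι x) = 0 := hm hsx
        rw [map_mul, hχp] at h2
        rcases mul_eq_zero.1 h2 with h2 | h2
        · exfalso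
          refine hs₀Q (hpq ((hf₁ s₀).1 ?_))
          rw [← hχp, ← hs₀, map_mul, h2, zero_mul]
        · exact (hf₁ x).1 h2)
    let η : V ⊗[R] A →ₐ[R] p.ResidueField := IsScalarTower.toAlgHom R (V ⊗[R] A) p.ResidueField
    have hη : ∀ t, η t = 0 ↔ t ∈ p := fun t => Ideal.algebraMap_residueField_eq_zero
    obtain ⟨χ, hχ⟩ := hlift p.ResidueField
      (η.comp (Algebra.TensorProduct.includeRight.comp φ))
      (fun y hy => by
        show η (1 ⊗ₜ φ y) = 0
        rw [show φ y = 0 from hIK hy, TensorProduct.tmul_zero, map_zero])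
      (fun h => by
        have h1 : (1 : V) ⊗ₜ[R] φ g ∈ zA := hpz ((hη _).1 h)
        exact hg ((hQB g).1 (hzQ _ ((hzAa g).1 h1))))
    let θ : V ⊗[R] B →ₐ[R] p.ResidueField := Algebra.TensorProduct.lift
      (η.comp Algebra.TensorProduct.includeLeft) χ (fun _ _ => Commute.all _ _)
    have hθ : ∀ t, θ (j t) = η (kA t) := fun t => by
      induction t with
      | zero => simp
      | tmul v y =>
        show θ (v ⊗ₜ ι y) = η (v ⊗ₜ φ y)
        rw [Algebra.TensorProduct.lift_tmul, hχ]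
        show η (v ⊗ₜ 1) * η (1 ⊗ₜ φ y) = η (v ⊗ₜ φ y)
        rw [← map_mul, Algebra.TensorProduct.tmul_mul_tmul, mul_one, one_mul]
      | add x y hx hy => simp only [map_add, hx, hy]
    refine ⟨RingHom.ker θ.toRingHom, RingHom.ker_isPrime _, fun t ht => ?_, fun a ha => ?_, v, hv, ?_⟩
    · have hj : ∃ i t₀, t * (1 ⊗ₜ ι g) ^ i = j t₀ := by
        clear ht
        induction t with
        | zero => exact ⟨0, 0, by simp⟩
        | tmul w b =>
          obtain ⟨i, y, hy⟩ := hιsurj b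
          refine ⟨i, w ⊗ₜ y, ?_⟩
          rw [Algebra.TensorProduct.tmul_pow, one_pow, Algebra.TensorProduct.tmul_mul_tmul, mul_one, hy]
          rfl
        | add x y hx hy =>
          obtain ⟨i, a, ha⟩ := hx
          obtain ⟨l, b, hb⟩ := hy
          refine ⟨i + l, a * (1 ⊗ₜ g) ^ l + b * (1 ⊗ₜ g) ^ i, ?_⟩
          rw [map_add, map_mul, map_mul, ← ha, ← hb, map_pow, map_pow,
            show j ((1 : V) ⊗ₜ g) = 1 ⊗ₜ ι g from rfl]
          ring
      obtain ⟨i, t₀, ht₀⟩ := hj
      have h1 : η (kA t₀) = 0 := by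
        rw [← hθ, ← ht₀, map_mul, show θ t = 0 from ht, zero_mul]
      have h2 : j t₀ ∈ z := (hzA₀ t₀).1 (hpz ((hη _).1 h1))
      rw [← ht₀] at h2
      exact (hz.mem_or_mem h2).resolve_right fun h => hg ((hQB g).1 (hzQ _ (hz.mem_of_pow_mem i h)))
    · have hle : J ≤ (RingHom.ker θ.toRingHom).comap
          (Algebra.TensorProduct.includeRight : B →ₐ[R] V ⊗[R] B).toRingHom :=
        Ideal.map_le_iff_le_comap.2 fun y hy => by
          show θ (j (1 ⊗ₜ y)) = 0
          rw [hθ]
          show η (1 ⊗ₜ φ y) = 0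
          rw [show φ y = 0 from hy, TensorProduct.tmul_zero, map_zero]
      exact hle ha
    · intro h
      refine hvp ((hη _).1 ?_)
      have h' : θ (v ⊗ₜ (1 : B)) = 0 := h
      rwa [Algebra.TensorProduct.lift_tmul, map_one, mul_one] at h')
  -- conclusion
  have hkill : ∀ x ∈ K, ∃ s ∉ Q, s * x ∈ I := by
    intro x hx
    obtain ⟨s, hs, hsx⟩ := hzero (ι x) (Ideal.mem_map_of_mem ι.toRingHom hx)
    obtain ⟨i, s₀, hs₀⟩ := hιsurj s
    have hs₀Q : s₀ ∉ Q := fun h => by
      have := (hQB s₀).2 h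
      rw [← hs₀] at this
      exact (‹QB.IsPrime›.mem_or_mem this).elim hs fun h' =>
        hg ((hQB g).1 (‹QB.IsPrime›.mem_of_pow_mem i h'))
    have h1 : algebraMap (P ⧸ I) B (Ideal.Quotient.mk I (s₀ * x)) = 0 := by
      show ι (s₀ * x) = 0
      rw [map_mul, ← hs₀, mul_assoc, mul_comm (ι g ^ i), ← mul_assoc, hsx, zero_mul]
    obtain ⟨⟨_, l, rfl⟩, hl⟩ :=
      (IsLocalization.map_eq_zero_iff (Submonoid.powers (Ideal.Quotient.mkₐ R I g)) B _).1 h1
    refine ⟨g ^ l * s₀, fun h => (‹Q.IsPrime›.mem_or_mem h).elim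
      (fun h' => hg (‹Q.IsPrime›.mem_of_pow_mem l h')) hs₀Q, ?_⟩
    rw [mul_assoc, ← Ideal.Quotient.eq_zero_iff_mem, map_mul, map_pow]
    exact hl
  obtain ⟨gens, hgens⟩ := hKfg
  choose s hs hsx using fun x : gens => hkill x (hgens.le (Ideal.subset_span x.2))
  let S₀ : P := ∏ x : gens, s x
  have hS₀ : S₀ ∉ Q := fun h => by
    obtain ⟨x, -, hx⟩ := (Ideal.IsPrime.prod_mem_iff).1 h
    exact hs x hx
  let e := gens.equivFin
  let f : Fin (c + gens.card) → P := Fin.append k fun i => (e.symm i).1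
  have hrange : Ideal.span (Set.range f) = K := by
    refine le_antisymm (Ideal.span_le.2 (Set.range_subset_iff.2 fun i => ?_)) ?_
    · refine Fin.addCases (fun i => ?_) (fun i => ?_) i
      · simpa [f] using hkK i
      · simpa [f] using hgens.le (Ideal.subset_span (e.symm i).2)
    · rw [← hgens]
      refine Ideal.span_mono fun x hx => ⟨Fin.natAdd c (e ⟨x, hx⟩), ?_⟩
      simp [f]
  have hfr : f ∘ Fin.castAdd gens.card = k := funext fun i => by simp [f]
  refine ⟨φ (g * S₀), fun h => (‹Q.IsPrime›.mem_or_mem (show g * S₀ ∈ Q from h)).elim hg hS₀,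
    Smooth28.isStandardSmooth_of_data φ hφ f hrange.symm (Fin.castAdd gens.card) cols hcols _ ?_
      (g * S₀) rfl (fun x hx => ?_) _⟩
  · refine ⟨φ S₀, ?_⟩
    rw [map_mul, hgdef]
    congr 2
    simp only [Smoothing.jacobianMinor, id, ← hfr]
    rfl
  · refine Ideal.mem_sup_left ?_
    rw [hfr]
    have hle : K ≤ Submodule.comap (LinearMap.mulLeft P S₀) I := by
      rw [← hgens]
      refine Submodule.span_le.2 fun y hy => ?_
      show S₀ * y ∈ I
      obtain ⟨d, hd⟩ := Finset.dvd_prod_of_mem s (Finset.mem_univ (⟨y, hy⟩ : gens))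
      rw [show S₀ = s ⟨y, hy⟩ * d from hd, show s ⟨y, hy⟩ * d * y = d * (s ⟨y, hy⟩ * y) by ring]
      exact I.mul_mem_left d (hsx _)
    rw [mul_assoc]
    exact I.mul_mem_left g (hle hx)

end Groth.Agent.SchBasics.OpenSmooth
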