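import Groth.Agent.Smooth28.Elem
import Groth.Agent.EGA4Alg4.SymGrBasic
import Groth.Prelude.Def_RegImm
import Mathlib.RingTheory.Smooth.StandardSmoothCotangent
import Mathlib.RingTheory.Filtration
import Mathlib.RingTheory.MvPolynomial.Ideal

/-!
Sections of smooth algebras: the kernel of a retraction is generated by a quasi-regular sequence near
the section exactly when the algebra is smooth there.
-/

set_option autoImplicit false
set_option linter.style.haveILetI false
set_option backward.isDefEq.respectTransparency.types false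

universe u

open MvPolynomial

namespace Groth.Agent.SchBasics

theorem prod_pow_sub_mem {P : Type u} [CommRing P] {n : ℕ} (I : Ideal P) (a b : Fin n → P)
    (ha : ∀ i, a i ∈ I) (hb : ∀ i, b i ∈ I) (hab : ∀ i, a i - b i ∈ I ^ 2) (α : Fin n →₀ ℕ) :
    (∏ i, a i ^ α i) - ∏ i, b i ^ α i ∈ I ^ (α.degree + 1) := by
  have h := EGA4Alg4.SymGr13.prod_sub_prod_mem (Finset.univ : Finset (Σ i, Fin (α i))) I (fun z => a z.1)
    (fun z => b z.1) (fun z _ => ha _) (fun z _ => hb _) (fun z _ => hab _)
  simpa [Fintype.prod_sigma, Finsupp.degree_eq_sum] using h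

theorem prod_pow_mem {P : Type u} [CommRing P] {n : ℕ} (I : Ideal P) (a : Fin n → P)
    (ha : ∀ i, a i ∈ I) (α : Fin n →₀ ℕ) : (∏ i, a i ^ α i) ∈ I ^ α.degree := by
  rw [Finsupp.degree_eq_sum, ← Finset.prod_pow_eq_pow_sum]
  exact Ideal.prod_mem_prod fun i _ => Ideal.pow_mem_pow (ha i) _

variable {R : Type u} [CommRing R] {A : Type u} [CommRing A] [Algebra R A]

/-- For a formally smooth algebra with a retraction, generators of the kernel with independent
differentials form a quasi-regular sequence. -/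
theorem isQuasiRegular_of_formallySmooth [Algebra.FormallySmooth R A] {n : ℕ} (ε : A →ₐ[R] R)
    (f : Fin n → A) (hf : Ideal.span (Set.range f) = RingHom.ker ε)
    (ψ₂ : A →ₐ[R] MvPolynomial (Fin n) R ⧸ idealOfVars (Fin n) R ^ 2)
    (hψ : ∀ i, ψ₂ (f i) = Ideal.Quotient.mk _ (X i)) : CAlgX.IsQuasiRegular f := by
  classical
  intro d P hP heval α
  rcases Nat.eq_zero_or_pos d with rfl | hd
  · have hPC : P = C (P.coeff 0) := totalDegree_eq_zero_iff_eq_C.mp (Nat.le_zero.1 hP.totalDegree_le)
    rw [hPC, eval_C, zero_add, pow_one] at heval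
    rw [hPC, coeff_C]
    split_ifs
    · exact heval
    · exact zero_mem _
  let M := idealOfVars (Fin n) R
  have hle : M ^ (d + 1) ≤ M ^ 2 := Ideal.pow_le_pow_right (by omega)
  let π : (MvPolynomial (Fin n) R ⧸ M ^ (d + 1)) →ₐ[R] MvPolynomial (Fin n) R ⧸ M ^ 2 :=
    Ideal.Quotient.factorₐ R hle
  have hπ : Function.Surjective π := fun z => by
    obtain ⟨z, rfl⟩ := Ideal.Quotient.mk_surjective z
    exact ⟨Ideal.Quotient.mk _ z, rfl⟩
  have hker : RingHom.ker π.toRingHom ≤ (M ^ 2).map (Ideal.Quotient.mk (M ^ (d + 1))) := fun z hz => by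
    obtain ⟨z, rfl⟩ := Ideal.Quotient.mk_surjective z
    exact Ideal.mem_map_of_mem _ (Ideal.Quotient.eq_zero_iff_mem.1 hz)
  have hnil : IsNilpotent (RingHom.ker π.toRingHom) := by
    refine ⟨d + 1, le_bot_iff.1 ?_⟩
    calc _ ≤ ((M ^ 2).map (Ideal.Quotient.mk (M ^ (d + 1)))) ^ (d + 1) := Ideal.pow_right_mono hker _
      _ = ((M ^ 2) ^ (d + 1)).map (Ideal.Quotient.mk _) := (Ideal.map_pow _ _ _).symm
      _ ≤ (M ^ (d + 1)).map (Ideal.Quotient.mk _) :=
        Ideal.map_mono (by rw [← pow_mul]; exact Ideal.pow_le_pow_right (by omega))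
      _ = ⊥ := Ideal.map_quotient_self _
  let ψ := Algebra.FormallySmooth.liftOfSurjective ψ₂ π hπ hnil
  have hψπ : ∀ a, π (ψ a) = ψ₂ a := Algebra.FormallySmooth.liftOfSurjective_apply ψ₂ π hπ hnil
  choose p hp using fun i => Ideal.Quotient.mk_surjective (ψ (f i))
  have hpX : ∀ i, p i - X i ∈ M ^ 2 := fun i => by
    rw [← Ideal.Quotient.eq]
    exact ((congrArg π (hp i)).trans (hψπ (f i))).trans (hψ i)
  have hpM : ∀ i, p i ∈ M := fun i => by
    rw [← sub_add_cancel (p i) (X i)]
    exact M.add_mem (Ideal.pow_le_self two_ne_zero (hpX i)) (Ideal.subset_span ⟨i, rfl⟩)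
  have hI : ∀ a ∈ RingHom.ker ε, ψ a ∈ M.map (Ideal.Quotient.mk (M ^ (d + 1))) := fun a ha => by
    rw [← hf] at ha
    refine (Ideal.span_le (I := (M.map (Ideal.Quotient.mk _)).comap ψ)).2 ?_ ha
    rintro _ ⟨i, rfl⟩
    rw [SetLike.mem_coe, Ideal.mem_comap, ← hp]
    exact Ideal.mem_map_of_mem _ (hpM i)
  choose q hq using fun a => Ideal.Quotient.mk_surjective (ψ a)
  have hqc : ∀ a, q a - C (ε a) ∈ M := fun a => by
    have h := hI (a - algebraMap R A (ε a)) (RingHom.mem_ker.mpr (by rw [map_sub, ε.commutes]; exact sub_self _))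
    rw [map_sub, ψ.commutes, ← hq] at h
    change Ideal.Quotient.mk _ (q a - C (ε a)) ∈ _ at h
    rwa [Ideal.mem_quotient_iff_mem] at h
    exact Ideal.pow_le_self (by omega)
  have hev : ψ (eval f P) = Ideal.Quotient.mk (M ^ (d + 1))
      (∑ β ∈ P.support, q (P.coeff β) * ∏ i, p i ^ β i) := by
    rw [eval_eq', map_sum, map_sum]
    refine Finset.sum_congr rfl fun β _ => ?_
    simp only [map_mul, map_prod, map_pow, hp, hq]
  have hzero : ψ (eval f P) = 0 := by
    rw [hf] at heval
    have h1 : (RingHom.ker ε ^ (d + 1)).map ψ ≤ (⊥ : Ideal (MvPolynomial (Fin n) R ⧸ M ^ (d + 1))) := by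
      rw [Ideal.map_pow, ← Ideal.map_quotient_self (M ^ (d + 1)), Ideal.map_pow]
      exact Ideal.pow_right_mono (Ideal.map_le_iff_le_comap.2 hI) _
    exact h1 (Ideal.mem_map_of_mem ψ heval)
  have hmain : map (ε : A →+* R) P ∈ M ^ (d + 1) := by
    rw [hev, Ideal.Quotient.eq_zero_iff_mem] at hzero
    have hmap : map (ε : A →+* R) P = ∑ β ∈ P.support, C (ε (P.coeff β)) * ∏ i, X i ^ β i := by
      conv_lhs => rw [P.as_sum]
      rw [map_sum]
      refine Finset.sum_congr rfl fun β _ => ?_
      rw [map_monomial, monomial_eq, Finsupp.prod_fintype _ _ fun _ => pow_zero _]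
      rfl
    rw [hmap]
    have hdiff : (∑ β ∈ P.support, q (P.coeff β) * ∏ i, p i ^ β i) -
        (∑ β ∈ P.support, C (ε (P.coeff β)) * ∏ i, X i ^ β i) ∈ M ^ (d + 1) := by
      rw [← Finset.sum_sub_distrib]
      refine Submodule.sum_mem _ fun β hβ => ?_
      have hdeg : β.degree = d := by
        rw [Finsupp.degree_eq_weight_one]
        exact hP (mem_support_iff.1 hβ)
      rw [show q (P.coeff β) * (∏ i, p i ^ β i) - C (ε (P.coeff β)) * ∏ i, X i ^ β i =
        (q (P.coeff β) - C (ε (P.coeff β))) * (∏ i, p i ^ β i) +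
          C (ε (P.coeff β)) * ((∏ i, p i ^ β i) - ∏ i, X i ^ β i) by ring]
      refine add_mem ?_ (Ideal.mul_mem_left _ _ ?_)
      · rw [pow_succ']
        exact Ideal.mul_mem_mul (hqc _) (hdeg ▸ prod_pow_mem M p hpM β)
      · exact hdeg ▸ prod_pow_sub_mem M p X hpM (fun i => Ideal.subset_span ⟨i, rfl⟩) hpX β
    have := Submodule.sub_mem _ hzero hdiff
    rwa [sub_sub_cancel] at this
  rw [hf, RingHom.mem_ker]
  by_contra hne
  have hcoeff : (map (ε : A →+* R) P).coeff α ≠ 0 := by rwa [coeff_map]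
  have h1 : α.degree = d := by
    rw [Finsupp.degree_eq_weight_one]
    exact hP fun h => hne (by rw [h, map_zero])
  have := (mem_pow_idealOfVars_iff _ _).1 hmain α (mem_support_iff.2 hcoeff)
  omega

/-- Near a section, the kernel of the retraction of a standard smooth algebra is generated by a
quasi-regular sequence. -/
theorem exists_quasiRegular_of_isStandardSmooth [Algebra.IsStandardSmooth R A] (ε : A →ₐ[R] R) :
    ∃ g : A, ε g = 1 ∧ ∀ (A' : Type u) [CommRing A'] [Algebra A A'] [IsLocalization.Away g A'],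
      ∃ (n : ℕ) (f : Fin n → A'), CAlgX.IsQuasiRegular f ∧
        Ideal.span (Set.range f) = (RingHom.ker ε).map (algebraMap A A') := by
  classical
  obtain ⟨ι, σ, _, _, ⟨P⟩⟩ := ‹Algebra.IsStandardSmooth R A›.out
  obtain ⟨n, ⟨e⟩⟩ := Finite.exists_equiv_fin ((Set.range P.map)ᶜ : Set ι)
  let b := P.basisKaehler.reindex e
  let I : Ideal A := RingHom.ker ε
  have hmem : ∀ a, a - algebraMap R A (ε a) ∈ I := fun a => by
    show ε _ = 0
    rw [map_sub, ε.commutes]; exact sub_self _
  let f₀ : Fin n → A := fun i => P.val (e.symm i).1 - algebraMap R A (ε (P.val (e.symm i).1))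
  let δ : A → Fin n → A := fun a i => b.repr (KaehlerDifferential.D R A a) i
  have hDf : ∀ i, KaehlerDifferential.D R A (f₀ i) = b i := fun i => by
    rw [map_sub, Derivation.map_algebraMap, sub_zero, Module.Basis.reindex_apply,
      Algebra.SubmersivePresentation.basisKaehler_apply]
  let D₀ : Derivation R A I.Cotangent := Derivation.mk'
    { toFun := fun a => I.toCotangent ⟨_, hmem a⟩
      map_add' := fun x y => by
        rw [← map_add]
        exact congrArg _ (Subtype.ext (by simp only [map_add, Submodule.coe_add]; ring))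
      map_smul' := fun r x => by
        rw [RingHom.id_apply, ← IsScalarTower.algebraMap_smul A r (I.toCotangent _), ← map_smul]
        exact congrArg _ (Subtype.ext (by
          show r • x - algebraMap R A (ε (r • x)) = algebraMap R A r * (x - algebraMap R A (ε x))
          rw [map_smul, Algebra.smul_def, smul_eq_mul, map_mul]; ring)) } fun x y => by
    show I.toCotangent ⟨_, hmem (x * y)⟩ =
      x • I.toCotangent ⟨_, hmem y⟩ + y • I.toCotangent ⟨_, hmem x⟩
    rw [← map_smul, ← map_smul, ← map_add, Ideal.toCotangent_eq, pow_two]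
    rw [show ((⟨x * y - algebraMap R A (ε (x * y)), hmem (x * y)⟩ : I) : A) -
      (x • (⟨_, hmem y⟩ : I) + y • (⟨_, hmem x⟩ : I) : I) =
        -((x - algebraMap R A (ε x)) * (y - algebraMap R A (ε y))) by
      simp only [Submodule.coe_add, Submodule.coe_smul, smul_eq_mul, map_mul]; ring]
    exact neg_mem (Ideal.mul_mem_mul (hmem x) (hmem y))
  have hIJ : I ≤ Ideal.span (Set.range f₀) ⊔ I ^ 2 := by
    intro a ha
    have hD₀ : ∀ z (hz : z ∈ I), D₀ z = I.toCotangent ⟨z, hz⟩ := fun z hz =>
      congrArg _ (Subtype.ext (by show z - algebraMap R A (ε z) = z; rw [hz, map_zero, sub_zero]))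
    have hf₀ : ∀ i, f₀ i ∈ I := fun i => hmem _
    have h : I.toCotangent ⟨a, ha⟩ = ∑ i, δ a i • I.toCotangent ⟨f₀ i, hf₀ i⟩ := by
      conv_lhs => rw [← hD₀ a ha, ← Derivation.liftKaehlerDifferential_comp_D,
        ← b.sum_repr (KaehlerDifferential.D R A a), map_sum]
      refine Finset.sum_congr rfl fun i _ => ?_
      rw [map_smul, ← hDf, Derivation.liftKaehlerDifferential_comp_D, hD₀ _ (hf₀ i)]
    simp only [← map_smul, ← map_sum, Ideal.toCotangent_eq, AddSubmonoidClass.coe_finsetSum,
      Submodule.coe_smul, smul_eq_mul] at h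
    rw [← sub_add_cancel a (∑ i, δ a i * f₀ i)]
    exact add_mem (Ideal.mem_sup_right h)
      (Ideal.mem_sup_left (Ideal.sum_mem _ fun i _ => Ideal.mul_mem_left _ _ (Ideal.subset_span ⟨i, rfl⟩)))
  have : Algebra.FinitePresentation R R := inferInstance
  have hIfg : I.FG := Algebra.FinitePresentation.ker_fG_of_surjective ε
    (fun r => ⟨algebraMap R A r, ε.commutes r⟩)
  obtain ⟨r, hr, hrI⟩ := Submodule.exists_sub_one_mem_and_smul_eq_zero_of_fg_of_le_smul I
    (Submodule.map (Ideal.span (Set.range f₀)).mkQ I) (Submodule.FG.map _ hIfg) (by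
      rintro _ ⟨a, ha, rfl⟩
      obtain ⟨y, hy, z, hz, rfl⟩ := Submodule.mem_sup.1 (hIJ ha)
      rw [map_add, show (Ideal.span (Set.range f₀)).mkQ y = 0 from
        (Submodule.Quotient.mk_eq_zero _).2 hy, zero_add, ← Submodule.map_smul'']
      exact Submodule.mem_map_of_mem (by rw [smul_eq_mul, ← pow_two]; exact hz))
  have hεr : ε r = 1 := by
    have : ε (r - 1) = 0 := hr
    rwa [map_sub, map_one, sub_eq_zero] at this
  refine ⟨r, hεr, fun A' _ _ _ => ⟨n, fun i => algebraMap A A' (f₀ i), ?_⟩⟩
  let _ : Algebra R A' := ((algebraMap A A').comp (algebraMap R A)).toAlgebra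
  have : IsScalarTower R A A' := IsScalarTower.of_algebraMap_eq fun _ => rfl
  have hspan : Ideal.span (Set.range fun i => algebraMap A A' (f₀ i)) = I.map (algebraMap A A') := by
    rw [Set.range_comp' (algebraMap A A') f₀, ← Ideal.map_span]
    refine le_antisymm (Ideal.map_mono (Ideal.span_le.2 ?_)) (Ideal.map_le_iff_le_comap.2 fun a ha => ?_)
    · rintro _ ⟨i, rfl⟩; exact hmem _
    · have h1 : r * a ∈ Ideal.span (Set.range f₀) := (Submodule.Quotient.mk_eq_zero _).1
        (hrI _ (Submodule.mem_map_of_mem ha))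
      have h2 := Ideal.mem_map_of_mem (algebraMap A A') h1
      rw [map_mul] at h2
      exact Ideal.mem_comap.2 ((Ideal.unit_mul_mem_iff_mem _ (IsLocalization.Away.algebraMap_isUnit (S := A') r)).1 h2)
  refine ⟨?_, hspan⟩
  have hu : ∀ y : Submonoid.powers r, IsUnit (ε y) := by
    rintro ⟨_, k, rfl⟩
    rw [map_pow, hεr, one_pow]; exact isUnit_one
  let ε' : A' →ₐ[R] R := IsLocalization.liftAlgHom (M := Submonoid.powers r) hu
  have hker : RingHom.ker ε' = I.map (algebraMap A A') := by
    refine le_antisymm (fun z hz => ?_) (Ideal.map_le_iff_le_comap.2 fun a ha => ?_)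
    · obtain ⟨⟨a, s⟩, has⟩ := IsLocalization.surj (Submonoid.powers r) z
      refine (Ideal.mul_unit_mem_iff_mem _ (IsLocalization.map_units A' s)).1 ?_
      rw [has]
      refine Ideal.mem_map_of_mem _ (show ε a = 0 from ?_)
      have h2 := congrArg ε' has
      rw [map_mul, hz, zero_mul] at h2
      simpa [ε', IsLocalization.liftAlgHom_apply] using h2.symm
    · show ε' (algebraMap A A' a) = 0
      simpa [ε', IsLocalization.liftAlgHom_apply] using (show ε a = 0 from ha)
  let M := idealOfVars (Fin n) R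
  let ψ₀ : A → MvPolynomial (Fin n) R ⧸ M ^ 2 := fun a =>
    Ideal.Quotient.mk _ (C (ε a) + ∑ i, C (ε (δ a i)) * X i)
  have hlin : ∀ a, (∑ i, C (ε (δ a i)) * X i : MvPolynomial (Fin n) R) ∈ M := fun a =>
    Ideal.sum_mem _ fun i _ => Ideal.mul_mem_left _ _ (Ideal.subset_span ⟨i, rfl⟩)
  have hδc : ∀ c i, δ (algebraMap R A c) i = 0 := fun c i => by
    simp only [δ, Derivation.map_algebraMap, map_zero, Finsupp.coe_zero, Pi.zero_apply]
  let ψ : A →ₐ[R] MvPolynomial (Fin n) R ⧸ M ^ 2 :=
    { toFun := ψ₀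
      map_one' := by
        show ψ₀ 1 = 1
        simp [ψ₀, δ, Derivation.map_one_eq_zero]
      map_mul' := fun x y => by
        show ψ₀ (x * y) = ψ₀ x * ψ₀ y
        simp only [ψ₀, ← map_mul]
        rw [Ideal.Quotient.eq]
        have hxy : (∑ i, C (ε (δ (x * y) i)) * X i : MvPolynomial (Fin n) R) =
            C (ε x) * (∑ i, C (ε (δ y i)) * X i) + C (ε y) * ∑ i, C (ε (δ x i)) * X i := by
          rw [Finset.mul_sum, Finset.mul_sum, ← Finset.sum_add_distrib]
          refine Finset.sum_congr rfl fun i _ => ?_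
          simp only [δ, Derivation.leibniz, map_add, map_smul, Finsupp.add_apply, Finsupp.smul_apply,
            smul_eq_mul, map_mul]
          ring
        rw [map_mul, hxy, C_mul, show
          C (ε x) * C (ε y) + (C (ε x) * (∑ i, C (ε (δ y i)) * X i) + C (ε y) * ∑ i, C (ε (δ x i)) * X i) -
            (C (ε x) + ∑ i, C (ε (δ x i)) * X i) * (C (ε y) + ∑ i, C (ε (δ y i)) * X i) =
          -((∑ i, C (ε (δ x i)) * X i) * ∑ i, C (ε (δ y i)) * X i) by ring, pow_two]
        exact neg_mem (Ideal.mul_mem_mul (hlin x) (hlin y))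
      map_zero' := by
        show ψ₀ 0 = 0
        simp [ψ₀, δ]
      map_add' := fun x y => by
        show ψ₀ (x + y) = ψ₀ x + ψ₀ y
        simp only [ψ₀, δ, ← map_add]
        simp [map_add, add_mul, Finset.sum_add_distrib]
        ring
      commutes' := fun c => by
        show ψ₀ (algebraMap R A c) = _
        simp only [ψ₀, hδc, ε.commutes, map_zero, zero_mul, Finset.sum_const_zero, add_zero]
        rfl }
  have hψu : ∀ y : Submonoid.powers r, IsUnit (ψ y) := by
    rintro ⟨_, k, rfl⟩
    rw [map_pow]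
    refine IsUnit.pow _ ?_
    have hnil : IsNilpotent (Ideal.Quotient.mk (M ^ 2) (∑ i, C (ε (δ r i)) * X i)) :=
      ⟨2, by rw [← map_pow, Ideal.Quotient.eq_zero_iff_mem]; exact Ideal.pow_mem_pow (hlin r) 2⟩
    show IsUnit (ψ₀ r)
    simp only [ψ₀, hεr, map_one, map_add]
    exact hnil.isUnit_one_add
  have : Algebra.FormallySmooth A A' := Algebra.FormallySmooth.of_isLocalization (Submonoid.powers r)
  have : Algebra.FormallySmooth R A' := Algebra.FormallySmooth.comp R A A'
  refine isQuasiRegular_of_formallySmooth ε' _ (hspan.trans hker.symm)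
    (IsLocalization.liftAlgHom (M := Submonoid.powers r) hψu) fun i => ?_
  rw [IsLocalization.liftAlgHom_apply, IsLocalization.lift_eq]
  show ψ₀ (f₀ i) = _
  have h0 : ε (f₀ i) = 0 := hmem _
  simp only [ψ₀, δ, hDf, h0, map_zero, zero_add, Module.Basis.repr_self, Finsupp.single_apply]
  simp [apply_ite (ε : A → R), apply_ite (C : R → MvPolynomial (Fin n) R)]
  rfl

/-- The relations expressing extra variables in terms of the first `n` ones. -/
noncomputable def sectionRel {n m : ℕ} {S : Type u} [CommRing S]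
    (c : Fin m → Fin n → MvPolynomial (Fin (n + m)) S) (j : Fin m) : MvPolynomial (Fin (n + m)) S :=
  X (Fin.natAdd n j) - ∑ i, c j i * X (Fin.castAdd m i)

theorem constantCoeff_jacobian {n m : ℕ} {S : Type u} [CommRing S]
    (c : Fin m → Fin n → MvPolynomial (Fin (n + m)) S) {t : ℕ} (rels : Fin t → MvPolynomial (Fin (n + m)) S)
    (rows : Fin m → Fin t) (h : ∀ j, rels (rows j) = sectionRel c j) :
    constantCoeff (Smoothing.jacobianMinor rels rows (Fin.natAdd n)) = 1 := by
  classical
  rw [Smoothing.jacobianMinor, RingHom.map_det]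
  convert Matrix.det_one (n := Fin m) (R := S)
  ext j k
  rw [RingHom.mapMatrix_apply, Matrix.map_apply, Matrix.of_apply, h, sectionRel, map_sub, map_sub,
    map_sum, map_sum, Finset.sum_eq_zero fun i _ => ?_, sub_zero, pderiv_X, Pi.single_apply,
    apply_ite constantCoeff, map_one, map_zero, Matrix.one_apply]
  · simp [Fin.natAdd_inj]
  · rw [Derivation.leibniz, map_add, smul_eq_mul, smul_eq_mul, map_mul, map_mul, constantCoeff_X,
      zero_mul, add_zero, pderiv_X, Pi.single_apply, if_neg (by
        intro he; have := congrArg Fin.val he; simp at this; omega), map_zero, mul_zero]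

/-- A relation lying in every power of the ideal of the variables modulo the section relations is killed,
modulo them, by an element congruent to one. -/
theorem exists_one_sub_mul_mem {n m : ℕ} (φ : MvPolynomial (Fin (n + m)) R →ₐ[R] A) (ε : A →ₐ[R] R)
    (hεφ : ∀ z, ε (φ z) = constantCoeff z) (f : Fin n → A) (hφX : ∀ i, φ (X (Fin.castAdd m i)) = f i)
    (hf : Ideal.span (Set.range f) = RingHom.ker ε) (hq : CAlgX.IsQuasiRegular f)
    (C₀ : Fin m → Fin n → MvPolynomial (Fin (n + m)) R) (hC : ∀ j, φ (sectionRel C₀ j) = 0)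
    (x : MvPolynomial (Fin (n + m)) R) (hx : φ x = 0) :
    ∃ r, constantCoeff r = 0 ∧ (1 - r) * x ∈ Ideal.span (Set.range (sectionRel C₀)) := by
  classical
  let T : Finset R := x.coeffs ∪ Finset.univ.biUnion fun p : Fin m × Fin n => (C₀ p.1 p.2).coeffs
  let R₀ := Subring.closure (T : Set R)
  have : IsNoetherianRing R₀ := is_noetherian_subring_closure _ T.finite_toSet
  have hinj : Function.Injective (map R₀.subtype : MvPolynomial (Fin (n + m)) R₀ → _) :=
    map_injective _ Subtype.val_injective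
  have hlift : ∀ q : MvPolynomial (Fin (n + m)) R, q.coeffs ⊆ T → ∃ q₀, map R₀.subtype q₀ = q := by
    intro q hq
    have : q ∈ Set.range (map R₀.subtype) := mem_range_map_iff_coeffs_subset.2 fun a ha =>
      ⟨⟨a, Subring.subset_closure (hq ha)⟩, rfl⟩
    exact this
  obtain ⟨x₀, hx₀⟩ := hlift x Finset.subset_union_left
  choose c hc using fun p : Fin m × Fin n => hlift (C₀ p.1 p.2)
    ((Finset.subset_biUnion_of_mem (fun p : Fin m × Fin n => (C₀ p.1 p.2).coeffs) (Finset.mem_univ p)).trans
      Finset.subset_union_right)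
  let c' := fun j i => c (j, i)
  have hrel : ∀ j, map R₀.subtype (sectionRel c' j) = sectionRel C₀ j := fun j => by
    simp only [sectionRel, c', map_sub, map_sum, map_mul, map_X, hc]
  let H := Ideal.span (Set.range (sectionRel c'))
  let J := Ideal.span (Set.range fun i : Fin n => (X (Fin.castAdd m i) : MvPolynomial (Fin (n + m)) R₀))
  let M := idealOfVars (Fin (n + m)) R₀
  have hM : M ≤ J ⊔ H := by
    refine Ideal.span_le.2 ?_
    rintro _ ⟨v, rfl⟩
    induction v using Fin.addCases with
    | left i => exact Ideal.mem_sup_left (Ideal.subset_span ⟨i, rfl⟩)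
    | right j =>
      rw [show (X (Fin.natAdd n j) : MvPolynomial (Fin (n + m)) R₀) =
        sectionRel c' j + ∑ i, c' j i * X (Fin.castAdd m i) by rw [sectionRel, sub_add_cancel]]
      exact add_mem (Ideal.mem_sup_right (Ideal.subset_span ⟨j, rfl⟩)) (Ideal.mem_sup_left
        (Ideal.sum_mem _ fun i _ => Ideal.mul_mem_left _ _ (Ideal.subset_span ⟨i, rfl⟩)))
  let φ₀ : MvPolynomial (Fin (n + m)) R₀ →+* A := φ.toRingHom.comp (map R₀.subtype)
  have hφH : ∀ z ∈ H, φ₀ z = 0 := fun z hz => by
    refine (Ideal.span_le (I := RingHom.ker φ₀)).2 ?_ hz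
    rintro _ ⟨j, rfl⟩
    show φ (map R₀.subtype (sectionRel c' j)) = 0
    rw [hrel, hC]
  have hconst : ∀ z : MvPolynomial (Fin (n + m)) R₀, ε (φ₀ z) = 0 → z ∈ M := fun z hz => by
    change ε (φ (map R₀.subtype z)) = 0 at hz
    rw [hεφ, constantCoeff_map] at hz
    have hz0 : constantCoeff z = 0 := Subtype.val_injective hz
    rw [show M = idealOfVars (Fin (n + m)) R₀ from rfl, ← pow_one (idealOfVars _ _), mem_pow_idealOfVars_iff]
    intro v hv
    rcases Nat.eq_zero_or_pos v.degree with h | h
    · rw [Finsupp.degree_eq_zero_iff] at h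
      subst h
      exact absurd hz0 (mem_support_iff.1 hv)
    · exact h
  have hstep : ∀ d, x₀ ∈ M ^ d ⊔ H := by
    intro d
    induction d with
    | zero => simp
    | succ d ih =>
      obtain ⟨a, ha, b, hb, hab⟩ := Submodule.mem_sup.1 ih
      have ha' : a ∈ J ^ d ⊔ H := by
        have h1 := Ideal.pow_right_mono hM d ha
        have h2 := Ideal.mem_map_of_mem (Ideal.Quotient.mk H) h1
        rw [Ideal.map_pow, Ideal.map_sup, Ideal.map_quotient_self, sup_bot_eq, ← Ideal.map_pow,
          ← Ideal.mem_comap, Ideal.comap_map_of_surjective _ Ideal.Quotient.mk_surjective,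
          ← RingHom.ker_eq_comap_bot, Ideal.mk_ker] at h2
        exact h2
      obtain ⟨a', ha'', b', hb', rfl⟩ := Submodule.mem_sup.1 ha'
      obtain ⟨P, hP, rfl⟩ := (Ideal.mem_span_pow_iff_exists_isHomogeneous _ a').1 ha''
      have hzero : eval f (map φ₀ P) = 0 := by
        have h1 : φ₀ x₀ = 0 := by show φ (map R₀.subtype x₀) = 0; rw [hx₀, hx]
        rw [← hab, map_add, map_add, hφH b hb, hφH b' hb', add_zero, add_zero] at h1
        refine Eq.trans ?_ h1
        rw [eval_map, eval, coe_eval₂Hom, eval₂_comp_left φ₀ (RingHom.id _), RingHom.comp_id]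
        congr 1
        funext i
        show f i = φ (map R₀.subtype (X (Fin.castAdd m i)))
        rw [map_X, hφX]
      have hP' : eval (fun i : Fin n => (X (Fin.castAdd m i) : MvPolynomial (Fin (n + m)) R₀)) P ∈
          M ^ (d + 1) := by
        rw [eval_eq']
        refine Submodule.sum_mem _ fun β hβ => ?_
        have hdeg : β.degree = d := by
          rw [Finsupp.degree_eq_weight_one]
          exact hP (mem_support_iff.1 hβ)
        rw [pow_succ']
        refine Ideal.mul_mem_mul (hconst _ ?_)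
          (hdeg ▸ prod_pow_mem M _ (fun i => Ideal.subset_span ⟨_, rfl⟩) β)
        have := hq d (map φ₀ P) (hP.map φ₀) (by rw [hzero]; exact zero_mem _) β
        rwa [coeff_map, hf] at this
      rw [← hab, add_assoc]
      exact add_mem (Ideal.mem_sup_left hP') (Ideal.mem_sup_right (add_mem hb' hb))
  let π := Ideal.Quotient.mk H
  obtain ⟨⟨r, hr⟩, hrx⟩ := ((M.map π).mem_iInf_smul_pow_eq_bot_iff (π x₀)).1 (by
    simp only [Submodule.mem_iInf]
    intro d
    rw [smul_eq_mul, Ideal.mul_top, ← Ideal.map_pow]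
    obtain ⟨a, ha, b, hb, hab⟩ := Submodule.mem_sup.1 (hstep d)
    rw [← hab, map_add, Ideal.Quotient.eq_zero_iff_mem.2 hb, add_zero]
    exact Ideal.mem_map_of_mem _ ha)
  obtain ⟨r, hrM, rfl⟩ := (Ideal.mem_map_iff_of_surjective π Ideal.Quotient.mk_surjective).1 hr
  refine ⟨map R₀.subtype r, ?_, ?_⟩
  · rw [constantCoeff_map]
    have : constantCoeff r = 0 := by
      have hle : M ≤ RingHom.ker (constantCoeff (R := R₀) (σ := Fin (n + m))) :=
        Ideal.span_le.2 (by rintro _ ⟨v, rfl⟩; exact constantCoeff_X (R := R₀) v)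
      exact hle hrM
    rw [this, map_zero]
  · have h1 : (1 - r) * x₀ ∈ H := by
      rw [← Ideal.Quotient.eq_zero_iff_mem, map_mul, map_sub, map_one, sub_mul, one_mul, sub_eq_zero]
      exact hrx.symm
    have h2 := Ideal.mem_map_of_mem (map R₀.subtype) h1
    rw [map_mul, map_sub, map_one, hx₀, Ideal.map_span, ← Set.range_comp] at h2
    convert h2 using 3
    exact funext fun j => (hrel j).symm

/-- If the kernel of a retraction of a finitely presented algebra is generated by a quasi-regular
sequence, the algebra is standard smooth near the section. -/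
theorem exists_isStandardSmooth_of_quasiRegular [Algebra.FinitePresentation R A] (ε : A →ₐ[R] R)
    {n : ℕ} (f : Fin n → A) (hf : Ideal.span (Set.range f) = RingHom.ker ε)
    (hq : CAlgX.IsQuasiRegular f) :
    ∃ g : A, ε g = 1 ∧ Algebra.IsStandardSmooth R (Localization.Away g) := by
  classical
  obtain ⟨m, π₀, hπ₀⟩ := Algebra.FiniteType.iff_quotient_mvPolynomial''.1
    (inferInstance : Algebra.FiniteType R A)
  let y : Fin m → A := fun j => π₀ (X j) - algebraMap R A (ε (π₀ (X j)))
  let φ : MvPolynomial (Fin (n + m)) R →ₐ[R] A := aeval (Fin.append f y)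
  have hφ : Function.Surjective φ := by
    intro a
    obtain ⟨q, rfl⟩ := hπ₀ a
    refine ⟨bind₁ (fun j => X (Fin.natAdd n j) + C (ε (π₀ (X j)))) q, ?_⟩
    show φ (bind₁ _ q) = _
    rw [show φ (bind₁ (fun j => X (Fin.natAdd n j) + C (ε (π₀ (X j)))) q) =
      (φ.comp (bind₁ fun j => X (Fin.natAdd n j) + C (ε (π₀ (X j))))) q from rfl]
    congr 1
    refine algHom_ext fun j => ?_
    simp [φ, y]
  have hεφ : ∀ z, ε (φ z) = constantCoeff z := by
    intro z
    have h : ε.comp φ = aeval (fun _ => (0 : R)) := algHom_ext fun v => by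
      simp only [φ, AlgHom.comp_apply, aeval_X]
      induction v using Fin.addCases with
      | left i =>
        rw [Fin.append_left]
        exact hf.le (Ideal.subset_span ⟨i, rfl⟩)
      | right j =>
        rw [Fin.append_right, map_sub, ε.commutes]
        exact sub_self _
    have h2 := AlgHom.congr_fun h z
    simpa using h2
  have hy : ∀ j, ∃ c : Fin n → A, ∑ i, c i * f i = y j := fun j =>
    Ideal.mem_span_range_iff_exists_fun.1 (hf.ge (show ε (y j) = 0 by
      rw [map_sub, ε.commutes]; exact sub_self _))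
  choose c hc using hy
  choose C₀ hC₀ using fun j i => hφ (c j i)
  have hφX : ∀ i, φ (X (Fin.castAdd m i)) = f i := fun i => by simp [φ]
  have hrel : ∀ j, φ (sectionRel C₀ j) = 0 := fun j => by
    simp only [sectionRel, map_sub, map_sum, map_mul, hC₀, hφX, hc]
    simp [φ]
  obtain ⟨t, k, hk⟩ := Submodule.fg_iff_exists_fin_generating_family.1
    (Algebra.FinitePresentation.ker_fG_of_surjective φ hφ : (RingHom.ker φ.toRingHom).FG)
  let rels : Fin (m + t) → MvPolynomial (Fin (n + m)) R := Fin.append (sectionRel C₀) k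
  have hker : RingHom.ker φ.toRingHom = Ideal.span (Set.range rels) := by
    refine le_antisymm (hk.ge.trans (Ideal.span_mono ?_)) (Ideal.span_le.2 ?_)
    · rintro _ ⟨l, rfl⟩; exact ⟨Fin.natAdd m l, Fin.append_right _ _ _⟩
    · rintro _ ⟨l, rfl⟩
      induction l using Fin.addCases with
      | left j => simpa [rels] using hrel j
      | right l => simpa [rels] using hk.le (Submodule.subset_span ⟨l, rfl⟩)
  have hkill : ∀ l, ∃ r, constantCoeff r = 0 ∧
      (1 - r) * k l ∈ Ideal.span (Set.range (sectionRel C₀)) := fun l =>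
    exists_one_sub_mul_mem φ ε hεφ f hφX hf hq C₀ hrel _ (hk.le (Submodule.subset_span ⟨l, rfl⟩))
  choose r hr0 hrk using hkill
  let det := Smoothing.jacobianMinor rels (Fin.castAdd t) (Fin.natAdd n)
  let a' := det * ∏ l, (1 - r l)
  refine ⟨φ a', ?_, Smooth28.isStandardSmooth_of_data φ hφ rels hker (Fin.castAdd t) (Fin.natAdd n)
    (Fin.natAdd_injective m n) (φ a') ?_ a' rfl ?_ _⟩
  · rw [hεφ, map_mul, map_prod, constantCoeff_jacobian C₀ rels _ fun j => Fin.append_left _ _ _, one_mul]
    exact Finset.prod_eq_one fun l _ => by rw [map_sub, map_one, hr0, sub_zero]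
  · exact ⟨_, map_mul φ det _⟩
  · intro z hz
    refine Ideal.mem_sup_left ?_
    have hz' : z ∈ Ideal.span (Set.range rels) := hker ▸ hz
    suffices Ideal.span (Set.range rels) ≤
        Submodule.comap (LinearMap.lsmul (MvPolynomial (Fin (n + m)) R) (MvPolynomial (Fin (n + m)) R) a')
          (Ideal.span (Set.range (rels ∘ Fin.castAdd t))) from this hz'
    refine Submodule.span_le.2 ?_
    rintro _ ⟨l, rfl⟩
    show a' * rels l ∈ Ideal.span (Set.range (rels ∘ Fin.castAdd t))
    induction l using Fin.addCases with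
    | left j => exact Ideal.mul_mem_left _ _ (Ideal.subset_span ⟨j, rfl⟩)
    | right l =>
      rw [show rels ∘ Fin.castAdd t = sectionRel C₀ from funext fun j => Fin.append_left _ _ _]
      simp only [rels, Fin.append_right, a']
      rw [← Finset.mul_prod_erase _ _ (Finset.mem_univ l)]
      rw [show det * ((1 - r l) * ∏ i ∈ Finset.univ.erase l, (1 - r i)) * k l =
        (det * ∏ i ∈ Finset.univ.erase l, (1 - r i)) * ((1 - r l) * k l) by ring]
      exact Ideal.mul_mem_left _ _ (hrk l)

end Groth.Agent.SchBasics
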