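import Mathlib
import Groth.Prelude.Def_CAlg
import Groth.Agent.CAlg1.CMPoly
import Groth.Agent.CAlg5.GeomRegular
import Groth.Agent.CAlg5.RegularHom
import Groth.Agent.S9437
import Groth.Agent.S9438

/-! Serre's conditions and codepth along smooth maps of Noetherian rings. -/

set_option autoImplicit false
universe u

open IsLocalRing TensorProduct

namespace Groth.Agent.SchBasics

open Groth.Agent.EGA4Alg4

/-- depth, height and regularity at a point of a smooth algebra -/
theorem smooth_local_core {A B : Type u} [CommRing A] [CommRing B] [IsNoetherianRing A]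
    [IsNoetherianRing B] [Algebra A B] [Algebra.Smooth A B] (q : Ideal B) [q.IsPrime] :
    ∃ d : ℕ∞,
      LocCoh.depth (Localization.AtPrime q) (Localization.AtPrime q) =
        LocCoh.depth (Localization.AtPrime (q.under A)) (Localization.AtPrime (q.under A)) + d ∧
      q.height = (q.under A).height + d ∧
      (IsRegularLocalRing (Localization.AtPrime (q.under A)) →
        IsRegularLocalRing (Localization.AtPrime q)) := by
  obtain ⟨Q, hQ, hq⟩ := CAlg1.exists_fibre_prime (R := A) q
  let p := q.under A
  have hqp : q.LiesOver p := ⟨rfl⟩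
  let := Localization.AtPrime.algebraOfLiesOver p q
  let R := Localization.AtPrime p
  let S := Localization.AtPrime q
  have : IsNoetherianRing R := IsLocalization.isNoetherianRing p.primeCompl _ inferInstance
  have : IsNoetherianRing S := IsLocalization.isNoetherianRing q.primeCompl _ inferInstance
  have : IsLocalHom (algebraMap R S) := Localization.isLocalHom_localRingHom p q _ _
  have : Module.Flat R S := inferInstance
  have : IsRegularRing (p.Fiber B) := CAlg5.isRegularRing_of_smooth p.ResidueField (p.Fiber B)
  have hreg : IsRegularLocalRing (Localization.AtPrime Q) :=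
    IsRegularRing.isRegularLocalRing_localization Q
  have hF : IsRegularLocalRing (S ⧸ (maximalIdeal R).map (algebraMap R S)) := by
    have hm : (maximalIdeal R).map (algebraMap R S) = p.map (algebraMap A S) := by
      rw [← Localization.AtPrime.map_eq_maximalIdeal, Ideal.map_map, ← IsScalarTower.algebraMap_eq]
    let r : Ideal B := Q.comap (Algebra.TensorProduct.includeRight : B →ₐ[A] p.Fiber B)
    have hr : r = q := hq
    have hr' : r.LiesOver p := hr ▸ hqp
    let := Localization.AtPrime.algebraOfLiesOver p r
    let e : Localization.AtPrime Q ≃ₐ[R]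
        Localization.AtPrime r ⧸ p.map (algebraMap A (Localization.AtPrime r)) :=
      Ideal.Fiber.localizationAlgEquivQuotient p Q
    have h1 : IsRegularLocalRing
        (Localization.AtPrime r ⧸ p.map (algebraMap A (Localization.AtPrime r))) :=
      IsRegularLocalRing.of_ringEquiv (R := Localization.AtPrime Q) e.toRingEquiv
    have key : ∀ (I J : Ideal B) (hI : I.IsPrime) (hJ : J.IsPrime), I = J →
        IsRegularLocalRing (Localization.AtPrime I ⧸ p.map (algebraMap A (Localization.AtPrime I))) →
        IsRegularLocalRing (Localization.AtPrime J ⧸ p.map (algebraMap A (Localization.AtPrime J))) := by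
      rintro I J _ _ rfl h
      exact h
    rw [hm]
    exact key r q inferInstance ‹_› hr h1
  have := hF.toIsLocalRing
  refine ⟨LocCoh.depth (S ⧸ (maximalIdeal R).map (algebraMap R S))
    (S ⧸ (maximalIdeal R).map (algebraMap R S)), ?_, ?_, fun h => ?_⟩
  · rw [← CAlg1.depth_quotient_self]
    exact CAlg1.depth_of_flat_local R S
  · have hdim : ((LocCoh.depth (S ⧸ (maximalIdeal R).map (algebraMap R S))
        (S ⧸ (maximalIdeal R).map (algebraMap R S)) : ℕ∞) : WithBot ℕ∞) =
        ringKrullDim (S ⧸ (maximalIdeal R).map (algebraMap R S)) := by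
      refine le_antisymm ?_ (CAlg1.cmLocal_iff.mp (CAlg1.cm_of_isRegularLocalRing _))
      rw [← Module.supportDim_self_eq_ringKrullDim]
      exact depth_le_supportDim
    have hadd : ringKrullDim S = ringKrullDim R + ringKrullDim (S ⧸ (maximalIdeal R).map (algebraMap R S)) := by
      rw [← maximalIdeal_height_eq_ringKrullDim, ← maximalIdeal_height_eq_ringKrullDim,
        ← maximalIdeal_height_eq_ringKrullDim]
      have : (maximalIdeal S).LiesOver (maximalIdeal R) := ⟨by
        rw [Ideal.under_def, maximalIdeal_comap]⟩
      rw [Ideal.height_eq_height_add_of_liesOver_of_hasGoingDown (maximalIdeal R) (maximalIdeal S),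
        ← WithBot.coe_add, WithBot.coe_inj]
      congr 2
      exact IsLocalRing.eq_maximalIdeal (Ideal.IsMaximal.map_of_surjective_of_ker_le
        Ideal.Quotient.mk_surjective (by rw [Ideal.mk_ker]; exact map_maximalIdeal_le _))
    rw [← hdim, IsLocalization.AtPrime.ringKrullDim_eq_height q,
      IsLocalization.AtPrime.ringKrullDim_eq_height p, ← WithBot.coe_add, WithBot.coe_inj] at hadd
    exact hadd
  · have : IsRegularLocalRing R := h
    exact CAlg5.regular_of_flat_local R S hF

/-- the local ring at a prime of a localisation at a prime -/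
noncomputable def locLocEquiv {A : Type u} [CommRing A] (p : Ideal A) [p.IsPrime]
    (P : Ideal (Localization.AtPrime p)) [P.IsPrime] :
    Localization.AtPrime P ≃+* Localization.AtPrime (P.under A) :=
  haveI := IsLocalization.isLocalization_isLocalization_atPrime_isLocalization p.primeCompl
    (Localization.AtPrime P) P
  (IsLocalization.algEquiv (P.under A).primeCompl (Localization.AtPrime P)
    (Localization.AtPrime (P.under A))).toRingEquiv

/-- a property of the localisations of a localisation -/
theorem forall_prime_loc_iff {A : Type u} [CommRing A] (p : Ideal A) [p.IsPrime]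
    (φ : ∀ (s : Ideal A) [s.IsPrime], Prop) :
    (∀ (P : Ideal (Localization.AtPrime p)) [P.IsPrime], φ (P.under A)) ↔
      ∀ (s : Ideal A) [s.IsPrime], s ≤ p → φ s := by
  constructor
  · intro h s _ hs
    have hd : Disjoint (p.primeCompl : Set A) s :=
      Set.disjoint_left.mpr fun a ha has => ha (hs has)
    have := IsLocalization.isPrime_of_isPrime_disjoint p.primeCompl (Localization.AtPrime p) s ‹_› hd
    have h1 := h (s.map (algebraMap A (Localization.AtPrime p)))
    have h2 := IsLocalization.under_map_of_isPrime_disjoint p.primeCompl (Localization.AtPrime p)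
      ‹s.IsPrime› hd
    have key : ∀ (I J : Ideal A) (hI : I.IsPrime) (hJ : J.IsPrime), I = J → φ I → φ J := by
      rintro I J _ _ rfl h
      exact h
    exact key _ _ inferInstance ‹_› h2 h1
  · intro h P _
    refine h _ ?_
    exact le_of_le_of_eq (Ideal.comap_mono (IsLocalRing.le_maximalIdeal ‹P.IsPrime›.ne_top))
      (IsLocalization.AtPrime.under_maximalIdeal (Localization.AtPrime p) p)

theorem hasSk_loc_iff {A : Type u} [CommRing A] [IsNoetherianRing A] (k : ℕ) (p : Ideal A) [p.IsPrime] :
    LocCoh.HasSk k (Localization.AtPrime p) (Localization.AtPrime p) ↔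
      ∀ (s : Ideal A) [s.IsPrime], s ≤ p →
        min (k : ℕ∞) s.height ≤ LocCoh.depth (Localization.AtPrime s) (Localization.AtPrime s) := by
  have : IsNoetherianRing (Localization.AtPrime p) :=
    IsLocalization.isNoetherianRing p.primeCompl _ inferInstance
  rw [CAlg1.hasSk_self_iff, ← forall_prime_loc_iff p fun s _ =>
    min (k : ℕ∞) s.height ≤ LocCoh.depth (Localization.AtPrime s) (Localization.AtPrime s)]
  refine forall_congr' fun P => forall_congr' fun hP => ?_
  have : IsNoetherianRing (Localization.AtPrime P) :=
    IsLocalization.isNoetherianRing P.primeCompl _ inferInstance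
  rw [IsLocalization.height_under p.primeCompl P, CAlg1.depth_eq_of_ringEquiv (locLocEquiv p P)]

theorem hasRk_loc_iff {A : Type u} [CommRing A] (k : ℕ) (p : Ideal A) [p.IsPrime] :
    LocCoh.HasRk k (Localization.AtPrime p) ↔
      ∀ (s : Ideal A) [s.IsPrime], s ≤ p → s.height ≤ k →
        IsRegularLocalRing (Localization.AtPrime s) := by
  rw [← forall_prime_loc_iff p fun s _ => s.height ≤ k → IsRegularLocalRing (Localization.AtPrime s)]
  refine forall_congr' fun P => forall_congr' fun hP => ?_
  rw [IsLocalization.height_under p.primeCompl P]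
  exact imp_congr_right fun _ =>
    ⟨fun h => have := h; IsRegularLocalRing.of_ringEquiv (locLocEquiv p P),
      fun h => have := h; IsRegularLocalRing.of_ringEquiv (locLocEquiv p P).symm⟩

theorem depth_add_dim_eq_of_smooth {A B : Type u} [CommRing A] [CommRing B] [IsNoetherianRing A]
    [IsNoetherianRing B] [Algebra A B] [Algebra.Smooth A B] (q : Ideal B) [q.IsPrime] :
    ringKrullDim (Localization.AtPrime q) +
        ((LocCoh.depth (Localization.AtPrime (q.under A)) (Localization.AtPrime (q.under A)) : ℕ∞) : WithBot ℕ∞) =
      ringKrullDim (Localization.AtPrime (q.under A)) +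
        ((LocCoh.depth (Localization.AtPrime q) (Localization.AtPrime q) : ℕ∞) : WithBot ℕ∞) := by
  obtain ⟨d, h1, h2, -⟩ := smooth_local_core (A := A) q
  rw [IsLocalization.AtPrime.ringKrullDim_eq_height q, IsLocalization.AtPrime.ringKrullDim_eq_height (q.under A),
    h1, h2, ← WithBot.coe_add, ← WithBot.coe_add, WithBot.coe_inj]
  abel

theorem hasSk_hasRk_iff_of_smooth {A B : Type u} [CommRing A] [CommRing B] [IsNoetherianRing A]
    [IsNoetherianRing B] [Algebra A B] [Algebra.Smooth A B] (q : Ideal B) [q.IsPrime] (k : ℕ) :
    (LocCoh.HasSk k (Localization.AtPrime q) (Localization.AtPrime q) ↔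
      LocCoh.HasSk k (Localization.AtPrime (q.under A)) (Localization.AtPrime (q.under A))) ∧
    (LocCoh.HasRk k (Localization.AtPrime q) ↔ LocCoh.HasRk k (Localization.AtPrime (q.under A))) := by
  let p := q.under A
  have hqp : q.LiesOver p := ⟨rfl⟩
  let := Localization.AtPrime.algebraOfLiesOver p q
  have : IsLocalHom (algebraMap (Localization.AtPrime p) (Localization.AtPrime q)) :=
    Localization.isLocalHom_localRingHom p q _ _
  have : Module.FaithfullyFlat (Localization.AtPrime p) (Localization.AtPrime q) :=
    Module.FaithfullyFlat.of_flat_of_isLocalHom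
  have : IsNoetherianRing (Localization.AtPrime q) :=
    IsLocalization.isNoetherianRing q.primeCompl _ inferInstance
  refine ⟨⟨fun h => (S9437.result k (Localization.AtPrime p) (Localization.AtPrime q) h).2, fun h => ?_⟩,
    ⟨fun h => (S9438.result k (Localization.AtPrime p) (Localization.AtPrime q) h).2, fun h => ?_⟩⟩
  · rw [hasSk_loc_iff] at h ⊢
    intro r _ hr
    obtain ⟨d, h1, h2, -⟩ := smooth_local_core (A := A) r
    rw [h1]
    exact CAlg1.enat_min_le h2.le (h (r.under A) (Ideal.comap_mono hr)) (min_le_right _ _)
  · rw [hasRk_loc_iff] at h ⊢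
    intro r _ hr hk
    obtain ⟨d, -, h2, h3⟩ := smooth_local_core (A := A) r
    exact h3 (h (r.under A) (Ideal.comap_mono hr) (le_trans le_self_add (h2.ge.trans hk)))

end Groth.Agent.SchBasics
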